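import Cfsg.Agent.Lib.PSpFourThree.Eight.Six

/-!
The last kind with a large centralizer of a vector of weight one: the three symmetric groups of
degree six in standard coordinates.
-/

set_option autoImplicit false
set_option maxRecDepth 20000
set_option linter.style.haveILetI false
set_option linter.unusedSectionVars false

namespace CfsgLib.PSpFourThree

open CfsgLib.SymNineThree CfsgLib.SymNineThree.Mon
open CfsgLib.SymNineThree.Six (sA sB sU sV sW sT)

attribute [local instance 2000] List.decidableBAll List.decidableBEx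

universe u

variable {G : Type u} [Group G] [Finite G] {X : Ctx G}

theorem big_codes :
    [(648, 9, 1), (648, 1, 3), (648, 3, 9), (864, 1, 9), (3, 1, 2), (18, 3, 6), (108, 9, 18),
      (432, 1, 3), (3, 9, 9), (18, 9, 9), (432, 9, 9), (216, 9, 3), (108, 1, 1), (108, 3, 3)].all
      (fun p => Nat.beq (mulM (mulM p.1 (trC p.2.1)) (invM p.1)) (trC p.2.2)) = true ∧
    [(648, 3, 18), (648, 18, 108), (648, 108, 3), (648, 432, 216), (648, 216, 1080), (216, 3, 3),
      (216, 108, 18), (216, 18, 108), (216, 432, 1080), (432, 3, 18), (108, 3, 3), (108, 18, 18),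
      (108, 432, 432)].all
      (fun p => Nat.beq (mulM (mulM p.1 p.2.1) (invM p.1)) p.2.2) = true := by
  refine ⟨?_, ?_⟩ <;> decide +kernel

theorem sw_facts : sW * sA * sW⁻¹ = sB ∧ sW * sB * sW⁻¹ = sA ∧ sW * sU * sW⁻¹ = sV ∧
    sW * sV * sW⁻¹ = sU ∧ sW * sW = 1 := by decide +kernel

namespace Coord

variable (U : Coord X)

theorem conj_ι (h8 : U.k = 3) {m v w : ℕ} (hm : m < 1296) (hv : v < 27) (hw : w < 27)
    (h : Nat.beq (mulM (mulM m (trC v)) (invM m)) (trC w) = true) :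
    U.f (of m) * U.ι v * (U.f (of m))⁻¹ = U.ι w := by
  rw [ι, ι, ← U.f_conj (U.top8 h8 _) (tr_mem hv)]
  congr 1
  exact code_eq.mpr (by
    rw [code_mul, code_mul, code_inv, code_of hm, code_tr hv, code_tr hw]; exact Nat.eq_of_beq_eq_true h)

theorem conj_f (h8 : U.k = 3) {m p q : ℕ} (hm : m < 1296) (hp : p < 1296) (hq : q < 1296)
    (h : Nat.beq (mulM (mulM m p) (invM m)) q = true) :
    U.f (of m) * U.f (of p) * (U.f (of m))⁻¹ = U.f (of q) := by
  rw [← U.f_conj (U.top8 h8 _) (U.top8 h8 _)]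
  congr 1
  exact code_eq.mpr (by
    rw [code_mul, code_mul, code_inv, code_of hm, code_of hp, code_of hq]; exact Nat.eq_of_beq_eq_true h)

theorem f_sq (h8 : U.k = 3) {m : ℕ} (hm : m < 1296) (h : Nat.beq (mulM m m) 0 = true) :
    U.f (of m) * U.f (of m) = 1 := by
  rw [← U.f_mul (U.top8 h8 _) (U.top8 h8 _), show of m * of m = (1 : Mon) from code_eq.mpr (by
    rw [code_mul, code_of hm]; exact Nat.eq_of_beq_eq_true h), U.f_one]

theorem comm_f_ι (h8 : U.k = 3) {m v : ℕ} (hm : m < 1296) (hv : v < 27)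
    (h : Nat.beq (mulM (mulM m (trC v)) (invM m)) (trC v) = true) :
    U.f (of m) * U.ι v = U.ι v * U.f (of m) := mul_inv_eq_iff_eq_mul.mp (U.conj_ι h8 hm hv hv h)

end Coord

namespace Emb

variable {U : Coord X} {v : ℕ} (L : Emb U v)

/-- The same complement for the inverse vector. -/
def neg {w : ℕ} (hw : w < 27) (e : U.ι w = (U.ι v)⁻¹) : Emb U w where
  lt := hw
  ne := fun h0 => L.e_ne (by rw [h0, U.ι_zero] at e; exact inv_eq_one.mp e.symm)
  ρ := L.ρ
  inj := L.inj
  comm σ := by rw [e]; exact ((show Commute (L.ρ σ) (U.ι v) from L.comm σ).inv_right).eq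
  surj g hg := by
    rw [e] at hg
    obtain ⟨i, σ, hi⟩ := L.surj g (by
      have h1 : Commute g (U.ι v)⁻¹ := hg
      simpa using h1.inv_right.eq)
    refine ⟨2 * i, σ, ?_⟩
    have h3 : U.ι v ^ i * U.ι v ^ (2 * i) = 1 := by
      rw [← pow_add, show i + 2 * i = 3 * i by omega, pow_mul, X.cube _ (U.ι_mem L.lt), one_pow]
    rw [hi, e, inv_pow, inv_eq_of_mul_eq_one_left h3]
  disj σ hσ := L.disj σ (by rwa [e, Subgroup.zpowers_inv] at hσ)

end Emb

/-- The three complements in standard coordinates. -/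
structure Big (U : Coord X) where
  h8 : U.k = 3
  L2 : Emb U 9
  vA : L2.ρ sA = U.ι 1
  vB : L2.ρ sB = U.ι 3
  vU : L2.ρ sU = U.f (of 3)
  vV : L2.ρ sV = U.f (of 18)
  vW : L2.ρ sW = U.f (of 432)

namespace Coord

variable (U : Coord X)

include U in
theorem small_or_big (h8 : U.k = 3) : U.CN 1 ∨ Nonempty (Big U) := by
  rcases U.small_or_emb h8 with h | ⟨⟨L1⟩⟩
  · exact Or.inl h
  right
  obtain ⟨hc, hc'⟩ := big_codes
  simp only [List.all_cons, List.all_nil, Bool.and_true, Bool.and_eq_true] at hc hc'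
  obtain ⟨-, -, -, c4, c5, c6, -, c8, c9, c10, c11, -, -, -⟩ := hc
  let L := L1.map (by norm_num) (U.conj_ι h8 (by norm_num) (by norm_num) (by norm_num) c4)
  have h3 := U.comm_f_ι h8 (by norm_num) (by norm_num) c9
  have h18 := U.comm_f_ι h8 (by norm_num) (by norm_num) c10
  have h432 := U.comm_f_ι h8 (by norm_num) (by norm_num) c11
  have hi : ∀ {v w}, v < 27 → w < 27 → addV v w = 0 → U.ι w = (U.ι v)⁻¹ := fun hv hw h =>
    eq_inv_of_mul_eq_one_right (by rw [← U.ι_add hv hw, h, U.ι_zero])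
  obtain ⟨A, hA⟩ := L.of_inverted (g := U.ι 1) (X.comm _ (U.ι_mem (by norm_num)) _ (U.ι_mem (by norm_num)))
    h3 (U.f_sq h8 (by norm_num) (by decide +kernel))
    ((U.conj_ι h8 (by norm_num) (by norm_num) (by norm_num) c5).trans
      (hi (by norm_num) (by norm_num) (by decide +kernel)))
  obtain ⟨B, hB⟩ := L.of_inverted (g := U.ι 3) (X.comm _ (U.ι_mem (by norm_num)) _ (U.ι_mem (by norm_num)))
    h18 (U.f_sq h8 (by norm_num) (by decide +kernel))
    ((U.conj_ι h8 (by norm_num) (by norm_num) (by norm_num) c6).trans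
      (hi (by norm_num) (by norm_num) (by decide +kernel)))
  obtain ⟨P, hP, hP2⟩ := L.of_invol h3 (U.f_sq h8 (by norm_num) (by decide +kernel))
  obtain ⟨Q, hQ, hQ2⟩ := L.of_invol h18 (U.f_sq h8 (by norm_num) (by decide +kernel))
  obtain ⟨W, hW, hW2⟩ := L.of_invol h432 (U.f_sq h8 (by norm_num) (by decide +kernel))
  have hd : ∀ {v w}, v < 27 → w < 27 → v ≠ w → U.ι v ≠ U.ι w := fun hv hw h e => h (U.ι_inj hv hw e)
  have hfi : ∀ {m v w}, m < 1296 → v < 27 → w < 27 →
      Nat.beq (mulM (mulM m (trC v)) (invM m)) (trC w) = true → addV v w = 0 →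
      U.f (of m) * U.ι v * (U.f (of m))⁻¹ = (U.ι v)⁻¹ := fun hm hv hw h h0 =>
    (U.conj_ι h8 hm hv hw h).trans (hi hv hw h0)
  obtain ⟨α, eA, eB, eU, eV, eW⟩ := CfsgLib.SymNineThree.Six.exists_coords A B P Q W
    (L.inj (by rw [map_mul, map_mul, hA, map_one]; exact X.cube' (U.ι_mem (by norm_num))))
    (fun e => hd (v := 1) (w := 0) (by norm_num) (by norm_num) (by norm_num)
      (by rw [← hA, e, map_one, U.ι_zero]))
    (fun e => hd (v := 3) (w := 1) (by norm_num) (by norm_num) (by norm_num) (by rw [← hA, ← hB, e]))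
    (fun e => hd (v := 3) (w := 2) (by norm_num) (by norm_num) (by norm_num)
      (by rw [← hB, e, map_mul, hA, ← U.ι_add (by norm_num) (by norm_num)]; rfl))
    (L.inj (by rw [map_mul, map_mul, hA, hB]; exact X.comm _ (U.ι_mem (by norm_num)) _ (U.ι_mem (by norm_num))))
    hP2
    (L.inj (by rw [map_mul, map_mul, map_inv, map_inv, hP, hA]; exact hfi (by norm_num) (by norm_num) (by norm_num) c5 (by decide +kernel)))
    (L.inj (by
      rw [map_mul, map_mul, hP, hB]
      exact U.comm_f_ι h8 (by norm_num) (by norm_num) (by decide +kernel)))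
    hQ2
    (L.inj (by rw [map_mul, map_mul, map_inv, map_inv, hQ, hB]; exact hfi (by norm_num) (by norm_num) (by norm_num) c6 (by decide +kernel)))
    (L.inj (by
      rw [map_mul, map_mul, hQ, hA]
      exact U.comm_f_ι h8 (by norm_num) (by norm_num) (by decide +kernel)))
    hW2
    (L.inj (by rw [map_mul, map_mul, map_inv, hW, hA, hB]; exact U.conj_ι h8 (by norm_num) (by norm_num) (by norm_num) c8))
    (L.inj (by rw [map_mul, map_mul, map_inv, hW, hP, hQ]; exact U.conj_f h8 (by norm_num) (by norm_num) (by norm_num) hc'.2.2.2.2.2.2.2.2.2.1))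
  have key : ∀ {x y : P6} {g : G}, L.ρ x = g → α x = y → (L.twist α).ρ y = g := by
    rintro x y g h rfl
    show L.ρ (α.symm (α x)) = g
    rw [MulEquiv.symm_apply_apply, h]
  exact ⟨⟨h8, L.twist α, key hA eA, key hB eB, key hP eU, key hQ eV, key hW eW⟩⟩

end Coord

namespace Big

variable {U : Coord X} (B : Big U)

include B in
theorem codes :
    (U.f (of 648) * U.ι 9 * (U.f (of 648))⁻¹ = U.ι 1 ∧
      U.f (of 648) * U.ι 1 * (U.f (of 648))⁻¹ = U.ι 3 ∧
      U.f (of 648) * U.ι 3 * (U.f (of 648))⁻¹ = U.ι 9 ∧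
      U.f (of 108) * U.ι 9 * (U.f (of 108))⁻¹ = U.ι 18 ∧
      U.f (of 216) * U.ι 9 * (U.f (of 216))⁻¹ = U.ι 3) := by
  obtain ⟨hc, -⟩ := big_codes
  simp only [List.all_cons, List.all_nil, Bool.and_true, Bool.and_eq_true] at hc
  obtain ⟨c1, c2, c3, -, -, -, c7, -, -, -, -, c12, -, -⟩ := hc
  exact ⟨U.conj_ι B.h8 (by norm_num) (by norm_num) (by norm_num) c1,
    U.conj_ι B.h8 (by norm_num) (by norm_num) (by norm_num) c2,
    U.conj_ι B.h8 (by norm_num) (by norm_num) (by norm_num) c3,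
    U.conj_ι B.h8 (by norm_num) (by norm_num) (by norm_num) c7,
    U.conj_ι B.h8 (by norm_num) (by norm_num) (by norm_num) c12⟩

/-- The complement for the first axis. -/
noncomputable def L0 : Emb U 1 := B.L2.map (by norm_num) B.codes.1

/-- The complement for the second axis. -/
noncomputable def L1 : Emb U 3 := B.L0.map (by norm_num) B.codes.2.1

theorem L0_apply (σ : P6) : B.L0.ρ σ = U.f (of 648) * B.L2.ρ σ * (U.f (of 648))⁻¹ := rfl

theorem L1_apply (σ : P6) : B.L1.ρ σ = U.f (of 648) * B.L0.ρ σ * (U.f (of 648))⁻¹ := rfl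

theorem vals0 : B.L0.ρ sA = U.ι 3 ∧ B.L0.ρ sB = U.ι 9 ∧ B.L0.ρ sU = U.f (of 18) ∧
    B.L0.ρ sV = U.f (of 108) ∧ B.L0.ρ sW = U.f (of 216) := by
  obtain ⟨-, hc'⟩ := big_codes
  simp only [List.all_cons, List.all_nil, Bool.and_true, Bool.and_eq_true] at hc'
  simp only [B.L0_apply, B.vA, B.vB, B.vU, B.vV, B.vW]
  exact ⟨B.codes.2.1, B.codes.2.2.1, U.conj_f B.h8 (by norm_num) (by norm_num) (by norm_num) hc'.1,
    U.conj_f B.h8 (by norm_num) (by norm_num) (by norm_num) hc'.2.1,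
    U.conj_f B.h8 (by norm_num) (by norm_num) (by norm_num) hc'.2.2.2.1⟩

theorem vals1 : B.L1.ρ sA = U.ι 9 ∧ B.L1.ρ sB = U.ι 1 ∧ B.L1.ρ sU = U.f (of 108) ∧
    B.L1.ρ sV = U.f (of 3) ∧ B.L1.ρ sW = U.f (of 1080) := by
  obtain ⟨-, hc'⟩ := big_codes
  simp only [List.all_cons, List.all_nil, Bool.and_true, Bool.and_eq_true] at hc'
  obtain ⟨h1, h2, h3, h4, h5⟩ := B.vals0
  simp only [B.L1_apply, h1, h2, h3, h4, h5]
  exact ⟨B.codes.2.2.1, B.codes.1, U.conj_f B.h8 (by norm_num) (by norm_num) (by norm_num) hc'.2.1,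
    U.conj_f B.h8 (by norm_num) (by norm_num) (by norm_num) hc'.2.2.1,
    U.conj_f B.h8 (by norm_num) (by norm_num) (by norm_num) hc'.2.2.2.2.1⟩

/-- The flip of an axis centralizes the complement. -/
theorem flip_two (σ : P6) : U.f (of 108) * B.L2.ρ σ = B.L2.ρ σ * U.f (of 108) := by
  let M : Emb U 9 := (B.L2.map (by norm_num) B.codes.2.2.2.1).neg (by norm_num)
    (eq_inv_of_mul_eq_one_right (by rw [← U.ι_add (by norm_num) (by norm_num)]; exact U.ι_zero))
  obtain ⟨hc, hc'⟩ := big_codes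
  simp only [List.all_cons, List.all_nil, Bool.and_true, Bool.and_eq_true] at hc hc'
  have hM : ∀ τ, M.ρ τ = U.f (of 108) * B.L2.ρ τ * (U.f (of 108))⁻¹ := fun _ => rfl
  have h := Emb.unique B.L2 M
    (by rw [hM, B.vA]; exact U.conj_ι B.h8 (by norm_num) (by norm_num) (by norm_num) hc.2.2.2.2.2.2.2.2.2.2.2.2.1)
    (by rw [hM, B.vB]; exact U.conj_ι B.h8 (by norm_num) (by norm_num) (by norm_num) hc.2.2.2.2.2.2.2.2.2.2.2.2.2)
    (by rw [hM, B.vU]; exact U.conj_f B.h8 (by norm_num) (by norm_num) (by norm_num) hc'.2.2.2.2.2.2.2.2.2.2.1)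
    (by rw [hM, B.vV]; exact U.conj_f B.h8 (by norm_num) (by norm_num) (by norm_num) hc'.2.2.2.2.2.2.2.2.2.2.2.1)
  have := DFunLike.congr_fun h σ
  rw [hM] at this
  exact mul_inv_eq_iff_eq_mul.mp this

theorem flip_zero (σ : P6) : U.f (of 3) * B.L0.ρ σ = B.L0.ρ σ * U.f (of 3) := by
  obtain ⟨-, hc'⟩ := big_codes
  simp only [List.all_cons, List.all_nil, Bool.and_true, Bool.and_eq_true] at hc'
  rw [B.L0_apply, ← U.conj_f B.h8 (by norm_num) (by norm_num) (by norm_num) hc'.2.2.1, conj_mul,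
    conj_mul, B.flip_two]

theorem flip_one (σ : P6) : U.f (of 18) * B.L1.ρ σ = B.L1.ρ σ * U.f (of 18) := by
  obtain ⟨-, hc'⟩ := big_codes
  simp only [List.all_cons, List.all_nil, Bool.and_true, Bool.and_eq_true] at hc'
  rw [B.L1_apply, ← U.conj_f B.h8 (by norm_num) (by norm_num) (by norm_num) hc'.1, conj_mul,
    conj_mul, B.flip_zero]

/-- The exchange of the last two axes exchanges two complements. -/
theorem swap_apply (σ : P6) :
    U.f (of 216) * B.L2.ρ σ * (U.f (of 216))⁻¹ = B.L1.ρ (sW * σ * sW⁻¹) := by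
  let M : Emb U 3 := (B.L2.map (by norm_num) B.codes.2.2.2.2).twist (MulAut.conj sW)
  obtain ⟨hc, hc'⟩ := big_codes
  simp only [List.all_cons, List.all_nil, Bool.and_true, Bool.and_eq_true] at hc hc'
  obtain ⟨h1, h2, h3, h4, h5⟩ := B.vals1
  obtain ⟨w1, w2, w3, w4, w5⟩ := sw_facts
  have hM : ∀ τ, M.ρ (sW * τ * sW⁻¹) = U.f (of 216) * B.L2.ρ τ * (U.f (of 216))⁻¹ := fun τ => by
    show U.f (of 216) * B.L2.ρ ((MulAut.conj sW).symm (sW * τ * sW⁻¹)) * _ = _
    rw [show sW * τ * sW⁻¹ = MulAut.conj sW τ from rfl, MulEquiv.symm_apply_apply]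
  have h := Emb.unique B.L1 M
    (by rw [h1, ← w2, hM, B.vB]; exact U.conj_ι B.h8 (by norm_num) (by norm_num) (by norm_num) (by decide +kernel))
    (by rw [h2, ← w1, hM, B.vA]; exact U.conj_ι B.h8 (by norm_num) (by norm_num) (by norm_num) (by decide +kernel))
    (by rw [h3, ← w4, hM, B.vV]; exact U.conj_f B.h8 (by norm_num) (by norm_num) (by norm_num) (by decide +kernel))
    (by rw [h4, ← w3, hM, B.vU]; exact U.conj_f B.h8 (by norm_num) (by norm_num) (by norm_num) (by decide +kernel))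
  rw [← hM, h]

end Big

end CfsgLib.PSpFourThree
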