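import Cfsg.Agent.Lib.PSpFourThree.Eight.SmallAlpha
import Cfsg.Agent.Lib.PSpFourThree.KindFour
import Cfsg.Agent.Lib.PSpFourRecog.ModelCent
import Cfsg.Agent.S0111
import Cfsg.Agent.S0814

/-!
The small case: recognition of the automorphism group of `PSp(4,3)`.
-/

set_option autoImplicit false
set_option maxRecDepth 20000
set_option linter.style.haveILetI false
set_option linter.unusedSectionVars false

namespace CfsgLib.PSpFourThree

open CfsgLib.SymNineThree CfsgLib.SymNineThree.Mon CfsgLib.PSpFourLocal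

attribute [local instance 2000] List.decidableBAll List.decidableBEx

theorem kind_by_card : ∀ k : Fin 4, Fintype.card {x : Fin 1296 // inK k x = true} = 648 → k = 2 := by
  decide +kernel

universe u

variable {G : Type u} [Group G] [Finite G] {X : Ctx G}

namespace Coord

variable (U : Coord X)

include U in
theorem card_normalizer : Nat.card (Subgroup.normalizer (X.J : Set G)) =
    Fintype.card {x : Fin 1296 // inK U.k x = true} := by
  rw [← U.range, ← Nat.card_congr (MonoidHom.ofInjective U.inj).toEquiv, ← Nat.card_eq_fintype_card]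
  exact Nat.card_congr
    { toFun := fun x => ⟨(x : Mon).c, mem_Kd.mp x.2⟩
      invFun := fun c => ⟨⟨c.1⟩, mem_Kd.mpr c.2⟩
      left_inv := fun _ => rfl
      right_inv := fun _ => rfl }

end Coord

namespace Ctx

variable (X : Ctx G)

/-- The context in a subgroup containing the centralizer. -/
noncomputable def restrict (M : Subgroup G) (hC : X.C ≤ M) : Ctx M :=
  let inc : ↥(Subgroup.centralizer ({(⟨X.a, hC X.a_mem_C⟩ : M)} : Set M)) →*
      ↥(Subgroup.centralizer ({X.a} : Set G)) :=
    { toFun := fun g => ⟨((g : M) : G), mem_centralizer_iff'.mpr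
        (congrArg Subtype.val (mem_centralizer_iff'.mp g.2))⟩
      map_one' := rfl
      map_mul' := fun _ _ => rfl }
  { a := ⟨X.a, hC X.a_mem_C⟩
    R := X.R.subgroupOf M
    J := X.J.subgroupOf M
    φ := X.φ.comp inc
    ha := by rw [← Subgroup.orderOf_coe]; exact X.ha
    surj := fun v => by
      obtain ⟨g, hg⟩ := X.surj v
      exact ⟨⟨⟨g, hC g.2⟩, mem_centralizer_iff'.mpr (Subtype.ext (X.a_comm g.2))⟩, hg⟩
    hker := fun _ => X.hker _
    R_le := fun g hg => mem_centralizer_iff'.mpr (Subtype.ext (X.a_comm (X.R_le hg)))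
    card_R := by rw [Nat.card_congr (Subgroup.subgroupOfEquivOfLe (X.R_le.trans hC)).toEquiv, X.card_R]
    center_R := by
      rw [← X.center_R]
      exact Nat.card_congr (Subgroup.centerCongr (Subgroup.subgroupOfEquivOfLe (X.R_le.trans hC))).toEquiv
    exp_R := fun r hr => Subtype.ext (X.exp_R _ hr)
    J_le := fun g hg => mem_centralizer_iff'.mpr (Subtype.ext (X.a_comm (X.J_le hg)))
    comm := fun x hx y hy => Subtype.ext (X.comm _ hx _ hy)
    cube := fun x hx => Subtype.ext (X.cube _ hx)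
    card_J := by rw [Nat.card_congr (Subgroup.subgroupOfEquivOfLe (X.J_le.trans hC)).toEquiv, X.card_J]
    sig := fun K hK hn => X.over_sig (X.J_le.trans hC) K hK hn }

end Ctx

namespace Small

variable {U : Coord X} (S : Small U)

include S

/-- The subgroup of index two in the Sylow subgroup. -/
noncomputable def T0 : Subgroup G where
  carrier := {g | g ∈ S.QQ ∨ g * U.dF ∈ S.QQ}
  one_mem' := Or.inl (one_mem _)
  mul_mem' := fun {g h} hg hh => by
    have hd : U.dF ∈ Subgroup.normalizer (S.QQ : Set G) := S.VV_norm (Or.inr (Or.inr (Or.inr rfl)))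
    have hd2 := S.swap_d.1
    have conj : ∀ {x : G}, x ∈ S.QQ → U.dF * x * U.dF ∈ S.QQ := fun {x} hx => by
      have := (Subgroup.mem_normalizer_iff.mp hd x).mp hx
      rwa [inv_eq_of_mul_eq_one_right hd2] at this
    rcases hg with hg | hg <;> rcases hh with hh | hh
    · exact Or.inl (mul_mem hg hh)
    · exact Or.inr (by rw [mul_assoc]; exact mul_mem hg hh)
    · refine Or.inr ?_
      have := mul_mem hg (conj hh)
      rwa [mul_assoc g, mul_assoc U.dF, ← mul_assoc U.dF U.dF, hd2, one_mul, ← mul_assoc g] at this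
    · refine Or.inl ?_
      have h' := conj hh
      rw [mul_assoc U.dF, mul_assoc h, hd2, mul_one] at h'
      have := mul_mem hg h'
      rwa [mul_assoc g, ← mul_assoc U.dF, hd2, one_mul] at this
  inv_mem' := fun {g} hg => hg.imp inv_mem fun hg => by
    have hd : U.dF ∈ Subgroup.normalizer (S.QQ : Set G) := S.VV_norm (Or.inr (Or.inr (Or.inr rfl)))
    have hd2 := S.swap_d.1
    have := (Subgroup.mem_normalizer_iff.mp hd _).mp (inv_mem hg)
    rwa [mul_inv_rev, inv_eq_of_mul_eq_one_right hd2, ← mul_assoc U.dF, hd2, one_mul] at this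

theorem T0_le : S.T0 ≤ S.T7 := fun g hg => by
  rcases hg with hg | hg
  · exact S.QQ_le_T7 hg
  · have := mul_mem (S.QQ_le_T7 hg) (inv_mem S.d_T7)
    rwa [mul_inv_cancel_right] at this

theorem n_not_T0 : U.nF ∉ S.T0 := by
  rintro (h | h)
  · exact S.swap_not_mem S.swap_n h
  · refine S.iF_not_mem ?_
    obtain ⟨hn2, -, -, hni, -, -⟩ := U.flip_mul S.h8
    rwa [← hni, ← mul_assoc, hn2, one_mul] at h

theorem T0_index : S.T0.relIndex S.T7 = 2 := by
  refine Subgroup.relIndex_eq_two_iff.mpr ⟨U.nF, S.n_T7, fun b hb => ?_⟩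
  obtain ⟨q, hq, v, hv, rfl⟩ := S.T7_dec hb
  obtain ⟨hn2, hi2, hd2, hni, hin, -⟩ := U.flip_mul S.h8
  have hq' : q ∈ S.T0 := Or.inl hq
  have hd : U.dF ∈ S.T0 := Or.inr (by rw [hd2]; exact one_mem _)
  have hiT : U.iF ∉ S.T0 := fun h => S.n_not_T0 (by
    have := mul_mem hd h
    rwa [← hni, mul_assoc, hi2, mul_one] at this)
  have h1 : ∀ {w : G}, w ∈ S.T0 → q * w ∈ S.T0 := fun hw => mul_mem hq' hw
  have h2 : ∀ {w : G}, w ∉ S.T0 → q * w ∉ S.T0 := fun hw h => hw (by
    have := mul_mem (inv_mem hq') h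
    rwa [inv_mul_cancel_left] at this)
  rw [mul_assoc]
  rcases hv with rfl | rfl | rfl | rfl
  · exact Or.inr ⟨h1 (one_mem _), h2 (by rw [one_mul]; exact S.n_not_T0)⟩
  · exact Or.inl ⟨h1 (by rw [hn2]; exact one_mem _), h2 S.n_not_T0⟩
  · exact Or.inl ⟨h1 (by rw [hin]; exact hd), h2 hiT⟩
  · refine Or.inr ⟨h1 hd, h2 ?_⟩
    rw [← hin, mul_assoc, hn2, mul_one]; exact hiT

/-- No conjugate of the reflection lies in the subgroup. -/
theorem no_conj_T0 (g : G) : g * U.nF * g⁻¹ ∉ S.T0 := by
  intro hh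
  obtain ⟨hn2, -, hd2, hni, -, hdt⟩ := U.flip_mul S.h8
  have hn1 := (U.flip_ne S.h8).1.1
  have hOn : U.Only U.nF [1, 2] := U.only_flip S.h8
  have hHn : U.Has U.nF 2 := by
    have h := U.has_code S.h8 (m := 108) (v := 4) (by norm_num) (by norm_num) (by norm_num) (by decide +kernel)
    rwa [show wtV 4 = 2 by decide +kernel] at h
  set h := g * U.nF * g⁻¹ with hdef
  have hh2 : h * h = 1 := by rw [hdef, conj_mul, hn2, mul_one, mul_inv_cancel]
  have hh1 : h ≠ 1 := fun e => hn1 (conj_eq_one_iff.mp (hdef ▸ e))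
  rcases hh with hQ | hQ
  · rcases eq_or_ne h U.tq with e | e
    · have ht : U.Has U.tq 3 := by
        have h' := U.has_code S.h8 (m := 432) (v := 13) (by norm_num) (by norm_num) (by norm_num) (by decide +kernel)
        rwa [show wtV 13 = 3 by decide +kernel] at h'
      exact U.not_conj_of hOn ht (by simp) g (hdef ▸ e)
    · refine S.n_cent ?_
      have hc := S.big_cent hQ hh2 hh1 e
      rwa [show Nat.card (Subgroup.centralizer ({h} : Set G)) =
          Nat.card (Subgroup.centralizer ({U.nF} : Set G)) from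
        (Nat.card_congr ((Equiv.subtypeEquiv (MulAut.conj g).toEquiv fun x => by
          rw [mem_centralizer_iff', mem_centralizer_iff']
          show x * U.nF = U.nF * x ↔ g * x * g⁻¹ * h = h * (g * x * g⁻¹)
          rw [hdef, conj_mul, conj_mul, mul_left_inj, mul_right_inj]))).symm] at hc
  · obtain ⟨y, hy, z, hz, e⟩ := hQ
    obtain ⟨-, hdc, hab, hba⟩ := S.swap_d
    have e' : h = y * z * U.dF := by rw [← e, mul_assoc, hd2, mul_one]
    set c := U.dF * z * U.dF with hc
    set w := y * c with hw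
    have hcQ : c ∈ U.Qa S.h8 := hba z hz
    have hwQ : w ∈ U.Qa S.h8 := mul_mem hy hcQ
    have hz' : z * (U.dF * y * U.dF) ∈ S.Qb := mul_mem hz (hab y hy)
    have e2 : h * h = w * (z * (U.dF * y * U.dF)) := by
      rw [e']
      calc y * z * U.dF * (y * z * U.dF) = y * (z * ((U.dF * y * 1 * z * U.dF))) := by group
        _ = y * (z * ((U.dF * y * U.dF) * (U.dF * z * U.dF))) := by rw [← hd2]; group
        _ = y * ((U.dF * z * U.dF) * (z * (U.dF * y * U.dF))) := by
          rw [← mul_assoc z, S.comm_QQ _ hcQ _ hz']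
        _ = _ := by rw [hw, hc, mul_assoc y]
    rw [hh2] at e2
    have hwb : w ∈ S.Qb := by
      rw [eq_inv_of_mul_eq_one_left e2.symm]; exact inv_mem hz'
    have hwc := S.cent_Qab hwQ hwb
    have hcw : Commute w c := by
      rcases hwc with h' | h' <;> rw [h']
      · exact Commute.one_left c
      · exact (show Commute c U.tq from hcQ.1.2.1).symm
    have hzc : z = U.dF * c * U.dF := by
      calc z = (U.dF * U.dF) * z * (U.dF * U.dF) := by rw [hd2]; group
        _ = _ := by rw [hc]; group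
    have hfin : c * h * c⁻¹ = w * U.dF := by
      have hy' : y = w * c⁻¹ := by rw [hw, mul_inv_cancel_right]
      rw [e', hy', hzc, hcw.inv_right.eq]
      calc c * (c⁻¹ * w * (U.dF * c * U.dF) * U.dF) * c⁻¹ = w * U.dF * c * (U.dF * U.dF) * c⁻¹ := by group
        _ = _ := by rw [hd2]; group
    have hconj : c * g * U.nF * (c * g)⁻¹ = w * U.dF := by rw [← hfin, hdef]; group
    rcases hwc with h' | h' <;> rw [h'] at hconj
    · rw [one_mul] at hconj
      refine U.not_conj_of (U.only_double_of S.h8 (Or.inl S.cn)) hHn (by simp) (c * g)⁻¹ ?_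
      show (c * g)⁻¹ * U.dF * (c * g)⁻¹⁻¹ = U.nF
      rw [← hconj]; group
    · have ht : U.Has (U.f (of 453)) 3 := by
        have h' := U.has_code S.h8 (m := 453) (v := 16) (by norm_num) (by norm_num) (by norm_num) (by decide +kernel)
        rwa [show wtV 16 = 3 by decide +kernel] at h'
      refine U.not_conj_of hOn ht (by simp) (c * g) ?_
      rw [hconj, ← (U.flip_tq S.h8).2.2, hdt]

/-- The small case gives the automorphism group. -/
theorem iso_aut (F : Type*) [Field F] [Fintype F] (hF : Fintype.card F = 3) :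
    Nonempty (G ≃* MulAut (Cfsg.PSp 2 F)) := by
  classical
  haveI : Fact (Nat.Prime 3) := ⟨Nat.prime_three⟩
  obtain ⟨P, hP⟩ := S.exists_sylow_T7
  obtain ⟨hn2, -⟩ := U.flip_mul S.h8
  obtain ⟨M, hMn, hM, hnM⟩ := (Cfsg.Agent.S0111.result P S.T0 (hP ▸ S.T0_le) (hP ▸ S.T0_index) U.nF
    (orderOf_eq_prime (by rw [pow_two]; exact hn2) (U.flip_ne S.h8).1.1) (hP ▸ S.n_T7) S.n_not_T0).resolve_right
    (fun ⟨g, hg⟩ => S.no_conj_T0 g hg)
  haveI := hMn
  have hsq : ∀ g : G, g * g ∈ M := fun g => by
    rw [← pow_two]; exact Subgroup.sq_mem_of_index_two hM g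
  have hC : X.C ≤ M := X.C_le fun g _ => hsq g
  set X' := X.restrict M hC
  obtain ⟨U'⟩ := X'.exists_coord
  set N := Subgroup.normalizer (X.J : Set G)
  have hN : Nat.card N = 1296 := by
    rw [U.card_normalizer, S.h8]
    decide +kernel
  have hN' : Nat.card (Subgroup.normalizer (X'.J : Set M)) = Nat.card ↥(M ⊓ N) := by
    refine Nat.card_congr
      { toFun := fun g => ⟨((g : M) : G), (g : M).2, mem_of_map_conj _ fun j hj =>
          (Subgroup.mem_normalizer_iff.mp g.2 ⟨j, X.J_le.trans hC hj⟩).mp hj⟩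
        invFun := fun g => ⟨⟨g, g.2.1⟩, mem_of_map_conj _ fun j hj =>
          (Subgroup.mem_normalizer_iff.mp g.2.2 _).mp hj⟩
        left_inv := fun _ => rfl
        right_inv := fun _ => rfl }
  have hrel : M.relIndex N = 2 := by
    have h1 : M.relIndex N ∣ 2 := hM ▸ Subgroup.relIndex_dvd_index_of_normal M N
    rcases (Nat.dvd_prime Nat.prime_two).mp h1 with h | h
    · exact absurd (Subgroup.relIndex_eq_one.mp h (U.f_mem_N (U.top8 S.h8 _))) hnM
    · exact h
  have hk : U'.k = 2 := by
    refine kind_by_card _ ?_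
    rw [← U'.card_normalizer, hN']
    have h := Subgroup.card_mul_index ((M ⊓ N).subgroupOf N)
    rw [Nat.card_congr (Subgroup.subgroupOfEquivOfLe (inf_le_right : M ⊓ N ≤ N)).toEquiv,
      show ((M ⊓ N).subgroupOf N).index = (M ⊓ N).relIndex N from rfl, Subgroup.inf_relIndex_right, hrel, hN] at h
    omega
  obtain ⟨e1⟩ := U'.iso_of_four hk
  obtain ⟨e2⟩ := CfsgLib.PSpFourRecog.exists_iso (F := F) hF
  have hMcard : Nat.card M = 25920 := by
    rw [Nat.card_congr e1.toEquiv, CfsgLib.PSpFourRecog.card_P3]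
  let ψ : G →* MulAut (Cfsg.PSp 2 F) :=
    (MulAut.congr (e1.trans e2.symm)).toMonoidHom.comp (MulAut.conjNormal (H := M))
  have hψ : Function.Injective ψ := by
    rw [injective_iff_map_eq_one]
    intro g hg
    have hg' : MulAut.conjNormal (H := M) g = 1 :=
      (MulAut.congr (e1.trans e2.symm)).injective (hg.trans (map_one _).symm)
    have hcom : ∀ m ∈ M, g * m = m * g := fun m hm => by
      have := congrArg (fun σ : MulAut M => ((σ ⟨m, hm⟩ : M) : G)) hg'
      simp only [MulAut.conjNormal_apply, MulAut.one_apply] at this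
      exact mul_inv_eq_iff_eq_mul.mp this
    have hgJ : g ∈ X.J := X.cent_J fun y hy => hcom y (hC (X.J_le hy))
    have hgZ : g ∈ X.Z := X.mem_Z_of_S (X.J_le_S hgJ) fun s hs => (hcom s (hC (X.S_le hs))).symm
    have hMC : X.a * g = g * X.a := (hcom _ (hC X.a_mem_C)).symm
    rcases X.mem_Z.mp hgZ with e | e | e
    · exact e
    all_goals
      exfalso
      have hle : M ≤ X.C := fun m hm => mem_centralizer_iff'.mpr (by
        have hc : Commute m g := (hcom m hm).symm
        first
          | (rw [e] at hc; exact hc.eq)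
          | (rw [e] at hc
             have h2 := hc.mul_right hc
             rwa [show X.a * X.a * (X.a * X.a) = X.a * X.a * X.a * X.a by group, X.a_cube, one_mul] at h2))
      have := Subgroup.card_le_of_le hle
      rw [hMcard, X.card_C] at this
      omega
  have hG : Nat.card G = 51840 := by
    rw [← M.card_mul_index, hMcard, hM]
  have hA : Nat.card (MulAut (Cfsg.PSp 2 F)) = 51840 := by
    rw [Cfsg.Agent.S0814.result 3 1 le_rfl (by rw [hF, pow_one]) 2 le_rfl (fun _ => by norm_num),
      Nat.card_congr e2.toEquiv, CfsgLib.PSpFourRecog.card_P3]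
    norm_num
  haveI : Finite (MulAut (Cfsg.PSp 2 F)) := Nat.finite_of_card_ne_zero (by rw [hA]; norm_num)
  exact ⟨MulEquiv.ofBijective ψ ((Nat.bijective_iff_injective_and_card ψ).mpr ⟨hψ, by rw [hG, hA]⟩)⟩

end Small

end CfsgLib.PSpFourThree
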