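import Cfsg.Agent.Lib.PSpFourThree.Eight.Isolation

/-!
The large case: the centralizer of the fixed involution.
-/

set_option autoImplicit false
set_option maxRecDepth 20000
set_option linter.style.haveILetI false
set_option linter.unusedSectionVars false

namespace CfsgLib.PSpFourThree

open CfsgLib.SymNineThree CfsgLib.SymNineThree.Mon
open CfsgLib.SymNineThree.Six (sA sB sU sV sW sT)

attribute [local instance 2000] List.decidableBAll List.decidableBEx

theorem fixed_points : ∀ σ : P6, σ * σ = 1 → σ ≠ 1 → ∀ p : Fin 6, σ p = p →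
    ∃ q : Fin 6, q ≠ p ∧ σ q = q ∧ ∃ a : Fin 6, σ a ≠ a := by decide +kernel

theorem sU_swap_fix : ∀ a b : Fin 6, ∃ p : Fin 6, (sU * Equiv.swap a b) p = p := by decide +kernel

theorem sU_fix : ∃ p : Fin 6, sU p = p := by decide +kernel

/-- The two cases for a dihedral group. -/
theorem dihedral_cases {M : Type*} [Group M] {a b : M} (ha : a * a = 1) (hb : b * b = 1)
    (hf : orderOf (a * b) ≠ 0) :
    (∃ c ∈ Subgroup.zpowers (a * b), c * b * c⁻¹ = a) ∨
      ∃ d ∈ Subgroup.zpowers (a * b), d ≠ 1 ∧ d * d = 1 ∧ d * a = a * d ∧ d * b = b * d ∧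
        ∃ c ∈ Subgroup.zpowers (a * b), c * b * c⁻¹ = b * d ∨ c * a * c⁻¹ = b * d := by
  set r := a * b with hr
  have hai : a⁻¹ = a := inv_eq_of_mul_eq_one_right ha
  have hbi : b⁻¹ = b := inv_eq_of_mul_eq_one_right hb
  have hbr : b * r * b⁻¹ = r⁻¹ := by rw [hr, mul_inv_rev, hai, hbi]; group; simp [mul_assoc, hb]
  have flip : ∀ m : ℕ, b * r ^ m * b⁻¹ = (r ^ m)⁻¹ := fun m => by rw [← conj_pow, hbr, inv_pow]
  have conjb : ∀ m : ℕ, r ^ m * b * (r ^ m)⁻¹ = r ^ (2 * m) * b := fun m => by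
    calc r ^ m * b * (r ^ m)⁻¹ = r ^ m * (b * (r ^ m)⁻¹ * b⁻¹) * b := by group
      _ = r ^ m * r ^ m * b := by
        rw [show b * (r ^ m)⁻¹ * b⁻¹ = (b * r ^ m * b⁻¹)⁻¹ by group, flip, inv_inv]
      _ = _ := by rw [← pow_add, two_mul]
  have hab : a = r * b := by rw [hr, mul_assoc, hb, mul_one]
  obtain ⟨j, hk | hk⟩ := Nat.even_or_odd' (orderOf r)
  · right
    have hd2 : r ^ j * r ^ j = 1 := by rw [← pow_add, ← two_mul, ← hk, pow_orderOf_eq_one]
    have hdi : (r ^ j)⁻¹ = r ^ j := inv_eq_of_mul_eq_one_right hd2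
    have hdb : r ^ j * b = b * r ^ j := by
      have h := flip j
      rw [hdi, mul_inv_eq_iff_eq_mul] at h
      exact h.symm
    have hdr : r ^ j * r = r * r ^ j := (Commute.pow_self r j).eq
    refine ⟨r ^ j, Subgroup.pow_mem _ (Subgroup.mem_zpowers r) j, ?_, hd2, ?_, hdb, ?_⟩
    · refine fun h => ?_
      have h' := Nat.le_of_dvd (by omega) (orderOf_dvd_of_pow_eq_one h)
      omega
    · have hc := (show Commute (r ^ j) r from hdr).mul_right (show Commute (r ^ j) b from hdb)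
      rw [← hab] at hc
      exact hc.eq
    · rw [← hdb]
      obtain ⟨i, hi | hi⟩ := Nat.even_or_odd' j
      · exact ⟨r ^ i, Subgroup.pow_mem _ (Subgroup.mem_zpowers r) i, Or.inl (by rw [conjb, hi])⟩
      · refine ⟨r ^ i, Subgroup.pow_mem _ (Subgroup.mem_zpowers r) i, Or.inr ?_⟩
        rw [hab, show r ^ i * (r * b) * (r ^ i)⁻¹ = r * (r ^ i * b * (r ^ i)⁻¹) by
          rw [← mul_assoc (r ^ i) r, (Commute.pow_self r i).eq]; group, conjb, ← mul_assoc, ← pow_succ', hi]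
  · left
    refine ⟨r ^ (j + 1), Subgroup.pow_mem _ (Subgroup.mem_zpowers r) _, ?_⟩
    rw [conjb, show 2 * (j + 1) = (2 * j + 1) + 1 by ring, pow_succ, ← hk, pow_orderOf_eq_one, one_mul,
      ← hab]

universe u

variable {G : Type u} [Group G] [Finite G] {X : Ctx G}

namespace Big

variable {U : Coord X} (B : Big U)

include B

/-- The class of pairs in the centralizer of the fixed involution. -/
def inK (z : G) : Prop := ∃ c : G, Commute c (U.f (of 3)) ∧ c * B.pr 1 2 * c⁻¹ = z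

theorem pr_inK {i j : Fin 6} (h : i ≠ j) : B.inK (B.pr i j) := by
  obtain ⟨σ, h1, h2⟩ := pair_perm i j h
  exact ⟨B.L0.ρ σ, (B.alpha_comm σ).symm, by rw [B.pr_conj, h1, h2]⟩

theorem inK_conj {z c : G} (h : B.inK z) (hc : Commute c (U.f (of 3))) : B.inK (c * z * c⁻¹) := by
  obtain ⟨d, hd, rfl⟩ := h
  exact ⟨c * d, hc.mul_left hd, by group⟩

theorem inK_props {z : G} (h : B.inK z) :
    z * z = 1 ∧ Commute z (U.f (of 3)) ∧ U.Only z [1] ∧ U.Has (U.f (of 3) * z) 3 := by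
  obtain ⟨c, hc, rfl⟩ := h
  have hne : (1 : Fin 6) ≠ 2 := by decide
  refine ⟨by rw [conj_mul, B.pr_sq, mul_one, mul_inv_cancel],
    (hc.mul_left (B.E32_comm (B.pr_mem 1 2) B.alpha_E)).mul_left hc.inv_left,
    Coord.Only.conj U (B.pr_only hne) c, ?_⟩
  have e : U.f (of 3) * (c * B.pr 1 2 * c⁻¹) = c * (U.f (of 3) * B.pr 1 2) * c⁻¹ := by
    rw [← mul_assoc c, hc.eq]; group
  rw [e]
  exact (B.has_alpha_pr hne).conj U c

theorem inK_HH {z : G} (h : B.inK z) (hz : z ∈ B.HH) : ∃ i j : Fin 6, i ≠ j ∧ z = B.pr i j := by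
  obtain ⟨h2, -, hO, hA⟩ := B.inK_props h
  exact B.pair_crit hz h2 hO hA

/-- Elements mapping a pair to a pair. -/
theorem map_pair {c : G} (hc : Commute c (U.f (of 3))) {a b a' b' : Fin 6} (hab : a ≠ b) (hab' : a' ≠ b')
    (h : c * B.pr a b * c⁻¹ = B.pr a' b') : c ∈ B.HH := by
  refine ⟨mem_of_map_conj _ ?_, mem_centralizer_iff'.mpr hc⟩
  have hle : B.E32 ≤ B.E32.comap (MulAut.conj c).toMonoidHom := by
    refine B.pr_gen fun i j => ?_
    show c * B.pr i j * c⁻¹ ∈ B.E32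
    rcases eq_or_ne i j with rfl | hij
    · rw [B.pr_self, mul_one, mul_inv_cancel]; exact one_mem _
    have hm : c * B.pr i j * c⁻¹ ∈ B.HH := B.cent_pair hab'
      ((hc.mul_left (B.E32_comm (B.pr_mem i j) B.alpha_E)).mul_left hc.inv_left).eq
      (by rw [← h, conj_mul, conj_mul, B.pr_comm])
    obtain ⟨p, q, -, e⟩ := B.inK_HH (B.inK_conj (B.pr_inK hij) hc) hm
    rw [e]; exact B.pr_mem p q
  exact fun w hw => hle hw

theorem cent_of_dihedral {z v c x : G} (hc : c ∈ Subgroup.zpowers (z * v)) (hz : Commute z x)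
    (hv : Commute v x) : Commute c x := by
  obtain ⟨n, rfl⟩ := Subgroup.mem_zpowers_iff.mp hc
  exact (hz.mul_left hv).zpow_left n

/-- Centralizers of involutions with fixed points. -/
theorem cent_fixed {σ : P6} {w : G} (hw : w ∈ B.E32) (hd : B.L0.ρ σ * w * (B.L0.ρ σ * w) = 1)
    (hσ : σ ≠ 1) {p : Fin 6} (hp : σ p = p) {x : G} (hxa : Commute x (U.f (of 3)))
    (hxd : Commute x (B.L0.ρ σ * w)) : x ∈ B.HH := by
  classical
  have hσ2 : σ * σ = 1 := by
    have e : B.L0.ρ (σ * σ) * ((B.L0.ρ σ)⁻¹ * w * B.L0.ρ σ * w) = B.L0.ρ 1 * 1 := by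
      rw [map_one, one_mul, ← hd, map_mul]; group
    refine (B.dec_unique ?_ (one_mem _) e).1
    have := B.L0_conj_E σ⁻¹ hw
    rw [map_inv, inv_inv] at this
    exact mul_mem this hw
  obtain ⟨q, hqp, hq, a, ha⟩ := fixed_points σ hσ2 hσ p hp
  have hσσ : ∀ i, σ (σ i) = i := fun i => by rw [← Equiv.Perm.mul_apply, hσ2]; rfl
  set d := B.L0.ρ σ * w with hdd
  have hdv : ∀ {i j : Fin 6}, B.pr (σ i) (σ j) = B.pr i j → Commute (B.pr i j) d := by
    intro i j h
    have h1 : Commute (B.L0.ρ σ) (B.pr i j) := by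
      show _ = _
      exact mul_inv_eq_iff_eq_mul.mp ((B.pr_conj σ i j).trans h)
    exact h1.symm.mul_right (B.E32_comm (B.pr_mem i j) hw)
  have hd1 : Commute (B.pr a (σ a)) d := hdv (by rw [hσσ, B.pr_symm])
  have hd2 : Commute (B.pr p q) d := hdv (by rw [hp, hq])
  have hne1 : a ≠ σ a := fun h => ha h.symm
  by_cases hin : x * B.pr a (σ a) * x⁻¹ ∈ B.HH
  · obtain ⟨i, j, hij, e⟩ := B.inK_HH (B.inK_conj (B.pr_inK hne1) hxa) hin
    exact B.map_pair hxa hne1 hij e
  exfalso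
  set z := x * B.pr a (σ a) * x⁻¹ with hz
  have hzK : B.inK z := B.inK_conj (B.pr_inK hne1) hxa
  obtain ⟨hz2, hza, -, -⟩ := B.inK_props hzK
  have hzd : Commute z d := (hxd.mul_left hd1).mul_left hxd.inv_left
  have key : ∀ {i j : Fin 6}, i ≠ j → Commute (B.pr i j) d →
      ∃ c : G, Commute c (U.f (of 3)) ∧ Commute c d ∧ c * B.pr i j * c⁻¹ = z := by
    intro i j hij hcd
    have hva : Commute (B.pr i j) (U.f (of 3)) := B.E32_comm (B.pr_mem i j) B.alpha_E
    rcases dihedral_cases hz2 (B.pr_sq i j) (orderOf_pos _).ne' with ⟨c, hc, e⟩ | ⟨d', hd', hne, -, hdz, hdb, c, hc, e⟩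
    · exact ⟨c, B.cent_of_dihedral hc hza hva, B.cent_of_dihedral hc hzd hcd, e⟩
    exfalso
    have hda := B.cent_of_dihedral hd' hza hva
    have hdH : d' ∈ B.HH := B.cent_pair hij hda.eq hdb
    have hca := B.cent_of_dihedral hc hza hva
    have hK : B.inK (B.pr i j * d') := by
      rcases e with e | e <;> rw [← e]
      · exact B.inK_conj (B.pr_inK hij) hca
      · exact B.inK_conj hzK hca
    obtain ⟨i', j', hij', e'⟩ := B.inK_HH hK (mul_mem (B.E32_le_HH (B.pr_mem i j)) hdH)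
    have hdE : d' ∈ B.E32 := by
      rw [← inv_mul_cancel_left (B.pr i j) d', e']
      exact mul_mem (inv_mem (B.pr_mem i j)) (B.pr_mem i' j')
    obtain ⟨k, l, hkl⟩ := B.E32_cases hdE
    have hcom : ∀ {k l : Fin 6}, k ≠ l → Commute z (B.pr k l) → False := fun hkl h =>
      hin (B.cent_pair hkl hza.eq h.eq)
    rcases eq_or_ne k l with rfl | hkl'
    · rcases hkl with rfl | rfl
      · exact hne (B.pr_self k)
      · rw [B.pr_self, mul_one] at e'
        exact (B.pr_ne hij').2.2 i j (by rw [← e', B.E32_comm (B.pr_mem i j) B.alpha_E])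
    · rcases hkl with rfl | rfl
      · exact hcom hkl' (show Commute z (B.pr k l) from Eq.symm hdz)
      · have h1 : Commute z (U.f (of 3) * B.pr k l) := Eq.symm hdz
        have h2 := hza.mul_right h1
        rw [← mul_assoc, B.alpha_sq, one_mul] at h2
        exact hcom hkl' h2
  obtain ⟨c1, ca1, cd1, e1⟩ := key hne1 hd1
  obtain ⟨c2, ca2, cd2, e2⟩ := key hqp.symm hd2
  set y := c2⁻¹ * c1 with hy
  have hyv : y * B.pr a (σ a) * y⁻¹ = B.pr p q := by
    calc y * B.pr a (σ a) * y⁻¹ = c2⁻¹ * (c1 * B.pr a (σ a) * c1⁻¹) * c2 := by rw [hy]; group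
      _ = _ := by rw [e1, ← e2]; group
  have hyH : y ∈ B.HH := B.map_pair (ca2.inv_left.mul_left ca1) hne1 hqp.symm hyv
  obtain ⟨τ, v, hv, ey⟩ := B.HH_dec hyH
  have hyd : Commute y d := cd2.inv_left.mul_left cd1
  rw [ey, hdd] at hyd
  have hτσ : τ * σ = σ * τ := by
    have e : B.L0.ρ (τ * σ) * ((B.L0.ρ σ)⁻¹ * v * B.L0.ρ σ * w) =
        B.L0.ρ (σ * τ) * ((B.L0.ρ τ)⁻¹ * w * B.L0.ρ τ * v) := by
      rw [map_mul, map_mul]
      calc B.L0.ρ τ * B.L0.ρ σ * ((B.L0.ρ σ)⁻¹ * v * B.L0.ρ σ * w) =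
            B.L0.ρ τ * v * (B.L0.ρ σ * w) := by group
        _ = B.L0.ρ σ * w * (B.L0.ρ τ * v) := hyd.eq
        _ = _ := by group
    refine (B.dec_unique (mul_mem ?_ hw) (mul_mem ?_ hv) e).1
    · have := B.L0_conj_E σ⁻¹ hv
      rwa [map_inv, inv_inv] at this
    · have := B.L0_conj_E τ⁻¹ hw
      rwa [map_inv, inv_inv] at this
  have hmap : B.pr (τ a) (τ (σ a)) = B.pr p q := by
    rw [← B.pr_conj, ← hyv, ey]
    calc B.L0.ρ τ * B.pr a (σ a) * (B.L0.ρ τ)⁻¹ = B.L0.ρ τ * (v * B.pr a (σ a) * v⁻¹) * (B.L0.ρ τ)⁻¹ := by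
          rw [B.E32_comm hv (B.pr_mem _ _), mul_inv_cancel_right]
      _ = _ := by group
  have hτa : σ (τ a) = τ a := by
    rcases B.pr_inj (τ.injective.ne hne1) hqp.symm hmap with ⟨h, -⟩ | ⟨h, -⟩ <;> rw [h]
    · exact hp
    · exact hq
  refine ha (τ.injective ?_)
  rw [← Equiv.Perm.mul_apply τ σ, hτσ, Equiv.Perm.mul_apply, hτa]

/-- The centralizer of the fixed involution. -/
theorem cent_alpha {x : G} (hx : Commute x (U.f (of 3))) : x ∈ B.HH := by
  classical
  obtain ⟨o18, o3, h18, h3, o21, -, -, -, -, -, -, -⟩ := B.class_facts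
  obtain ⟨e18, e21, -, -, -, -⟩ := B.elem_eqs
  have hne : (1 : Fin 6) ≠ 2 := by decide
  by_cases hin : x * B.pr 1 2 * x⁻¹ ∈ B.HH
  · obtain ⟨i, j, hij, e⟩ := B.inK_HH (B.inK_conj (B.pr_inK hne) hx) hin
    exact B.map_pair hx hne hij e
  exfalso
  set z := x * B.pr 1 2 * x⁻¹ with hz
  have hzK : B.inK z := B.inK_conj (B.pr_inK hne) hx
  obtain ⟨hz2, hza, hzO, hzA⟩ := B.inK_props hzK
  have hcH : U.f (of 18) ∈ B.HH := e18 ▸ B.L0_mem sU
  have hca : Commute (U.f (of 18)) (U.f (of 3)) := B.HH_comm hcH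
  have hc2 : U.f (of 18) * U.f (of 18) = 1 := U.f_sq B.h8 (by norm_num) (by decide +kernel)
  obtain ⟨p, hp⟩ := sU_fix
  rcases dihedral_cases hz2 hc2 (orderOf_pos _).ne' with ⟨c, -, e⟩ | ⟨d, hd, hne', hd2, hdz, hdc, c, hc, e⟩
  · exact U.not_conj_of hzO h18 (by simp) c⁻¹ (by rw [← e]; group)
  have hda : Commute d (U.f (of 3)) := B.cent_of_dihedral hd hza hca
  have hdH : d ∈ B.HH := B.cent_fixed (σ := sU) (one_mem _)
    (by rw [mul_one, e18, hc2]) (by decide +kernel) hp hda (by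
      rw [mul_one, e18]; exact hdc)
  obtain ⟨σ, w, hw, rfl⟩ := B.HH_dec hdH
  have hcca : Commute c (U.f (of 3)) := B.cent_of_dihedral hc hza hca
  rcases eq_or_ne σ 1 with rfl | hσ
  · rw [map_one, one_mul] at hdc hdz hne' e
    have hcom : ∀ {k l : Fin 6}, k ≠ l → Commute z (B.pr k l) → False := fun hkl h =>
      hin (B.cent_pair hkl hza.eq h.eq)
    obtain ⟨i, j, hij⟩ := B.E32_cases hw
    rcases eq_or_ne i j with rfl | hij'
    · rcases hij with rfl | rfl
      · exact hne' (B.pr_self i)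
      · have hca21 : U.f (of 18) * U.f (of 3) = U.f (of 21) := by rw [hca.eq, e21]
        rw [B.pr_self, mul_one, hca21] at e
        rcases e with e | e
        · exact U.not_conj_of o21 h18 (by simp) c⁻¹ (by rw [← e]; group)
        · have h : U.Has (U.f (of 3) * U.f (of 21)) 3 := by
            have := hzA.conj U c
            rwa [← conj_mul, hcca.eq, mul_inv_cancel_right, e] at this
          rw [← e21, ← mul_assoc, B.alpha_sq, one_mul] at h
          exact U.not_conj_of o18 h (by simp) 1 (by simp)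
    · rcases hij with rfl | rfl
      · exact hcom hij' (show Commute z (B.pr i j) from hdz.symm)
      · have h1 : Commute z (U.f (of 3) * B.pr i j) := hdz.symm
        have h2 := hza.mul_right h1
        rw [← mul_assoc, B.alpha_sq, one_mul] at h2
        exact hcom hij' h2
  by_cases hfix : ∃ q, σ q = q
  · obtain ⟨q, hq⟩ := hfix
    exact hin (B.cent_fixed hw hd2 hσ hq hza hdz.symm)
  have hmem : U.f (of 18) * (B.L0.ρ σ * w) ∈ B.HH := mul_mem hcH (mul_mem (B.L0_mem σ) (B.E32_le_HH hw))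
  have hprod : U.f (of 18) * (B.L0.ρ σ * w) = B.L0.ρ (sU * σ) * w := by rw [map_mul, e18, mul_assoc]
  have h432 : ∃ k : G, k * U.f (of 3) * k⁻¹ = U.f (of 18) :=
    ⟨U.f (of 432), U.conj_f B.h8 (by norm_num) (by norm_num) (by norm_num) (by decide +kernel)⟩
  obtain ⟨k, hk⟩ := h432
  rcases e with e | e
  · rcases B.alpha_form hmem (g := c * k) (by rw [← e, ← hk]; group) with h | ⟨a, b, hab, h⟩
    · rw [hprod] at h
      have := (B.dec_unique hw B.alpha_E (σ := sU * σ) (τ := 1) (by rw [map_one, one_mul]; exact h)).1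
      exact hfix ⟨p, by rw [eq_inv_of_mul_eq_one_right this]; exact hp⟩
    · have hs : sU * σ = Equiv.swap a b := by
        rcases h with h | h <;> rw [hprod] at h
        · exact (B.dec_unique hw (one_mem _) (σ := sU * σ) (τ := Equiv.swap a b)
            (by rw [mul_one]; exact h)).1
        · exact (B.dec_unique hw (B.pr_mem a b) h).1
      obtain ⟨q, hq⟩ := sU_swap_fix a b
      refine hfix ⟨q, ?_⟩
      have : σ = sU * Equiv.swap a b := by
        rw [← hs, ← mul_assoc, show sU * sU = 1 by decide +kernel, one_mul]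
      rw [this]; exact hq
  · have hK : B.inK (U.f (of 18) * (B.L0.ρ σ * w)) := e ▸ B.inK_conj hzK hcca
    obtain ⟨i, j, -, h⟩ := B.inK_HH hK hmem
    rw [hprod] at h
    have := (B.dec_unique hw (B.pr_mem i j) (σ := sU * σ) (τ := 1) (by rw [map_one, one_mul]; exact h)).1
    exact hfix ⟨p, by rw [eq_inv_of_mul_eq_one_right this]; exact hp⟩

end Big

end CfsgLib.PSpFourThree
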