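import Cfsg.Agent.Lib.PSpFourThree.Eight.TwelvePoints
import Cfsg.Agent.Lib.Groups.SelfCentPrime
import Cfsg.Agent.Lib.IsolatedMin.Basic
import Cfsg.Agent.Lib.MinIndexSp.ExistTwo
import Cfsg.Agent.S3298

/-!
The large case: recognition of the symplectic group in six dimensions over the field of two elements.
-/

set_option autoImplicit false
set_option maxRecDepth 20000
set_option linter.style.haveILetI false
set_option linter.unusedSectionVars false

namespace CfsgLib.PSpFourThree

open CfsgLib.SymNineThree CfsgLib.SymNineThree.Mon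
open CfsgLib.SymNineThree.Six (sA sB sU sV sW sT)

attribute [local instance 2000] List.decidableBAll List.decidableBEx

theorem three_span : ((List.range 27).all fun v => [13, 14, 16, 17, 22, 23, 25, 26].any fun a =>
    [13, 14, 16, 17, 22, 23, 25, 26].any fun b => [13, 14, 16, 17, 22, 23, 25, 26].any fun c =>
      Nat.beq (addV (addV a b) c) v) = true ∧
    ([13, 14, 16, 17, 22, 23, 25, 26].all fun a => Nat.blt a 27 && Nat.beq (wtV a) 3) = true ∧
    ((List.range 27).all fun a => (List.range 27).all fun b => Nat.blt (addV a b) 27) = true := by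
  refine ⟨?_, ?_, ?_⟩ <;> decide +kernel

universe u

variable {G : Type u} [Group G] [Finite G] {X : Ctx G}

/-- Change of field. -/
def sympMap (m : ℕ) {F K : Type*} [Field F] [Field K] (φ : F ≃+* K) :
    Matrix.symplecticGroup (Fin m) F ≃* Matrix.symplecticGroup (Fin m) K where
  toFun A := ⟨A.1.map φ, by
    rw [SymplecticGroup.mem_iff]
    have hJ : (Matrix.J (Fin m) F).map φ = Matrix.J (Fin m) K := by
      ext i j
      rcases i with i | i <;> rcases j with j | j <;>
        simp [Matrix.J, Matrix.fromBlocks, Matrix.one_apply, apply_ite φ]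
    rw [← hJ, ← Matrix.transpose_map, ← Matrix.map_mul, ← Matrix.map_mul,
      SymplecticGroup.mem_iff.1 A.2]⟩
  invFun A := ⟨A.1.map φ.symm, by
    rw [SymplecticGroup.mem_iff]
    have hJ : (Matrix.J (Fin m) K).map φ.symm = Matrix.J (Fin m) F := by
      ext i j
      rcases i with i | i <;> rcases j with j | j <;>
        simp [Matrix.J, Matrix.fromBlocks, Matrix.one_apply, apply_ite φ.symm]
    rw [← hJ, ← Matrix.transpose_map, ← Matrix.map_mul, ← Matrix.map_mul,
      SymplecticGroup.mem_iff.1 A.2]⟩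
  left_inv A := Subtype.ext (Matrix.ext fun i j => φ.symm_apply_apply _)
  right_inv A := Subtype.ext (Matrix.ext fun i j => φ.apply_symm_apply _)
  map_mul' A B := Subtype.ext (Matrix.map_mul)

theorem psp_six_two (F' F₂ : Type*) [Field F'] [Fintype F'] [Field F₂] [Fintype F₂]
    (h' : Fintype.card F' = 2) (h₂ : Fintype.card F₂ = 2) :
    Nonempty (Cfsg.PSp 3 F' ≃* Matrix.symplecticGroup (Fin 3) F₂) := by
  classical
  exact ⟨((QuotientGroup.quotientMulEquivOfEq (CfsgLib.MinIndexSp.Two.center_eq_bot h')).trans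
    QuotientGroup.quotientBot).trans (sympMap 3 (FiniteField.ringEquivOfCardEq (h'.trans h₂.symm)))⟩

namespace Big

variable {U : Coord X} (B : Big U)

include B

theorem alpha_ne : U.f (of 3) ≠ 1 := fun e =>
  U.not_conj_of B.class_facts.2.1 (w := 3) (y := 1)
    ⟨13, by norm_num, by decide +kernel, by norm_num, 1, by simp⟩ (by simp) 1 (by simp [e])

theorem orderOf_alpha : orderOf (U.f (of 3)) = 2 :=
  orderOf_eq_prime (by rw [pow_two]; exact B.alpha_sq) B.alpha_ne

/-- The fixed involution is central in a Sylow two-subgroup. -/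
theorem exists_sylow : ∃ S : Sylow 2 G,
    U.f (of 3) ∈ (S : Subgroup G) ⊓ Subgroup.centralizer ((S : Subgroup G) : Set G) := by
  classical
  haveI : Fact (Nat.Prime 2) := ⟨Nat.prime_two⟩
  set C := Subgroup.centralizer ({U.f (of 3)} : Set G) with hC
  have hEC : B.E32 ≤ C := fun w hw => (B.E32_le_HH hw).2
  have hE2 : IsPGroup 2 B.E32 := fun w => ⟨1, Subtype.ext (by simpa [pow_two] using B.E32_sq w.2)⟩
  obtain ⟨T₀, hT₀⟩ := (hE2.of_equiv (Subgroup.subgroupOfEquivOfLe hEC).symm).exists_le_sylow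
  set T := (T₀ : Subgroup C).map C.subtype
  have hTC : T ≤ C := Subgroup.map_subtype_le _
  have hET : B.E32 ≤ T := fun w hw => ⟨⟨w, hEC hw⟩, hT₀ hw, rfl⟩
  obtain ⟨P, hP⟩ := (T₀.isPGroup'.map C.subtype).exists_le_sylow
  have hcom : ∀ t ∈ T, t * U.f (of 3) = U.f (of 3) * t := fun t ht => mem_centralizer_iff'.mp (hTC ht)
  refine ⟨P, hP (hET B.alpha_E), Subgroup.mem_centralizer_iff.mpr fun x hx => hcom x ?_⟩
  suffices h : T = P by rw [h]; exact hx
  by_contra hne
  obtain ⟨g, hgP, hgT, hgN⟩ := exists_mem_normalizer P.isPGroup' hP hne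
  set y := g * U.f (of 3) * g⁻¹ with hy
  have hcy : ∀ t ∈ T, t * y = y * t := fun t ht => by
    have h := hcom _ ((Subgroup.mem_normalizer_iff''.mp hgN t).mp ht)
    calc t * y = g * (g⁻¹ * t * g * U.f (of 3)) * g⁻¹ := by rw [hy]; group
      _ = g * (U.f (of 3) * (g⁻¹ * t * g)) * g⁻¹ := by rw [h]
      _ = _ := by rw [hy]; group
  obtain ⟨i, j, e⟩ := B.E32_cases (B.cent_E32 fun w hw => hcy w (hET hw))
  rcases eq_or_ne i j with rfl | hne'
  · rw [B.pr_self, mul_one] at e
    rcases e with e | e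
    · exact B.alpha_ne (conj_eq_one_iff.mp (hy ▸ e))
    · refine hgT ?_
      have hgC : g ∈ C := mem_centralizer_iff'.mpr (mul_inv_eq_iff_eq_mul.mp (hy ▸ e))
      have hpg : IsPGroup 2 (((P : Subgroup G) ⊓ C).subgroupOf C) :=
        (P.isPGroup'.to_le inf_le_left).of_equiv (Subgroup.subgroupOfEquivOfLe inf_le_right).symm
      have h := T₀.is_maximal' hpg fun t ht => ⟨hP ⟨t, ht, rfl⟩, t.2⟩
      have hg' : (⟨g, hgC⟩ : C) ∈ ((P : Subgroup G) ⊓ C).subgroupOf C := ⟨hgP, hgC⟩
      rw [h] at hg'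
      exact ⟨⟨g, hgC⟩, hg', rfl⟩
  rcases e with e | e
  · refine U.not_conj_of (B.pr_only hne') B.has_alpha (by simp) g⁻¹ ?_
    rw [← e, hy]; group
  · exact U.not_conj_of B.class_facts.2.1 (B.has_alpha_pr hne') (by simp) g (hy ▸ e)

/-- No abelian normal subgroup of odd order covers the group with the centralizer. -/
theorem no_odd_core {A : Subgroup G} [A.Normal] (hAc : IsMulCommutative A)
    (hA : A ⊔ Subgroup.centralizer ({U.f (of 3)} : Set G) = ⊤) : False := by
  classical
  haveI : Fact (Nat.Prime 3) := ⟨Nat.prime_three⟩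
  have hcomm : ∀ x ∈ A, ∀ y ∈ A, x * y = y * x := fun x hx y hy =>
    congrArg Subtype.val (hAc.is_comm.comm ⟨x, hx⟩ ⟨y, hy⟩)
  let K : Subgroup G :=
    { carrier := {x | x ∈ A ∧ (orderOf x).Coprime 3}
      one_mem' := ⟨one_mem _, by simp⟩
      mul_mem' := fun {p q} hp hq => ⟨mul_mem hp.1 hq.1,
        Nat.Coprime.coprime_dvd_left ((show Commute p q from hcomm p hp.1 q hq.1).orderOf_mul_dvd_mul_orderOf)
          (hp.2.mul_left hq.2)⟩
      inv_mem' := fun {p} hp => ⟨inv_mem hp.1, by rw [orderOf_inv]; exact hp.2⟩ }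
  haveI hKn : K.Normal := ⟨fun x hx g => ⟨(inferInstance : A.Normal).conj_mem _ hx.1 g, by
    rw [show g * x * g⁻¹ = MulAut.conj g x from rfl, MulEquiv.orderOf_eq]; exact hx.2⟩⟩
  have hKc : (Nat.card K).Coprime 3 := by
    rw [Nat.coprime_comm, Nat.prime_three.coprime_iff_not_dvd]
    intro h
    obtain ⟨x, hx⟩ := exists_prime_orderOf_dvd_card' 3 h
    have := x.2.2
    rw [← Subgroup.orderOf_coe] at hx
    rw [hx] at this
    norm_num at this
  have hK : K = ⊥ := X.sig K hKc (by rw [Subgroup.normalizer_eq_top]; exact le_top)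
  have hA3 : IsPGroup 3 A := by
    refine IsPGroup.of_card (n := (Nat.card A).primeFactorsList.length) (Nat.eq_prime_pow_of_unique_prime_dvd
      Nat.card_pos.ne' fun {q} hq hd => ?_)
    by_contra hq3
    haveI : Fact q.Prime := ⟨hq⟩
    obtain ⟨x, hx⟩ := exists_prime_orderOf_dvd_card' q hd
    have hxK : (x : G) ∈ K := ⟨x.2, by
      rw [Subgroup.orderOf_coe, hx]; exact (Nat.coprime_primes hq Nat.prime_three).mpr hq3⟩
    rw [hK, Subgroup.mem_bot] at hxK
    rw [← Subgroup.orderOf_coe, hxK, orderOf_one] at hx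
    exact hq.ne_one hx.symm
  have hAS : A ≤ X.S := by
    rw [← X.S_maximal (hA3.to_sup_of_normal_left X.S_pgroup) le_sup_right]
    exact le_sup_left
  rcases eq_or_ne A ⊥ with hA1 | hA1
  · rw [hA1, bot_sup_eq] at hA
    have h := X.sig (Subgroup.zpowers (U.f (of 3)))
      (by rw [Nat.card_zpowers, B.orderOf_alpha]; decide)
      (fun y _ => mem_of_map_conj _ fun m hm => by
        obtain ⟨i, rfl⟩ := Subgroup.mem_zpowers_iff.mp hm
        have hy : y ∈ Subgroup.centralizer ({U.f (of 3)} : Set G) := hA ▸ Subgroup.mem_top y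
        rw [((show Commute y (U.f (of 3)) from mem_centralizer_iff'.mp hy).zpow_right i).eq,
          mul_inv_cancel_right]
        exact Subgroup.zpow_mem_zpowers _ i)
    exact B.alpha_ne (Subgroup.zpowers_eq_bot.mp h)
  -- `a` lies in `A`
  have hne : A.subgroupOf X.S ≠ ⊥ := fun e => hA1 (by
    rw [Subgroup.subgroupOf_eq_bot] at e
    exact le_bot_iff.mp (e le_rfl hAS))
  have haA : X.a ∈ A := by
    obtain ⟨z, ⟨hzA, hzc⟩, hz1⟩ := (Subgroup.bot_or_exists_ne_one _).resolve_left
      (CfsgLib.IsolatedMin.inf_center_ne_bot X.S_pgroup (A.subgroupOf X.S) hne)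
    have hzZ := X.mem_Z_of_S z.2 fun s hs =>
      congrArg Subtype.val (Subgroup.mem_center_iff.mp hzc ⟨s, hs⟩)
    rcases X.mem_Z.mp hzZ with e | e | e
    · exact absurd (Subtype.ext e) hz1
    · rw [← e]; exact hzA
    · rw [show X.a = (z : G) * z by
        rw [e]
        calc X.a = X.a * X.a * X.a * X.a := by rw [X.a_cube, one_mul]
          _ = _ := by group]
      exact mul_mem hzA hzA
  -- the whole of `J` lies in `A`
  have hw3 : ∀ v < 27, wtV v = 3 → U.ι v ∈ A := by
    intro v hv hw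
    have h := List.all_eq_true.mp three_orbit v (List.mem_range.mpr hv)
    rw [Bool.or_eq_true, Bool.not_eq_true', List.any_eq_true, hw] at h
    rcases h with h | ⟨m, -, h⟩
    · simp at h
    rw [Bool.and_eq_true, Nat.blt_eq] at h
    rw [← U.conj_ι B.h8 h.1 (by norm_num) hv h.2, U.ι_thirteen]
    exact (inferInstance : A.Normal).conj_mem _ haA _
  have hJA : X.J ≤ A := by
    intro g hg
    obtain ⟨v, hv, rfl⟩ := U.exists_ι hg
    obtain ⟨hs, hl, hlt⟩ := three_span
    have h := List.all_eq_true.mp hs v (List.mem_range.mpr hv)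
    simp only [List.any_eq_true, Nat.beq_eq] at h
    obtain ⟨a, ha, b, hb, c, hc, rfl⟩ := h
    have hl' : ∀ {x}, x ∈ [13, 14, 16, 17, 22, 23, 25, 26] → x < 27 ∧ wtV x = 3 := fun hx => by
      have := List.all_eq_true.mp hl _ hx
      simpa using this
    have hab : addV a b < 27 := by
      simpa using List.all_eq_true.mp (List.all_eq_true.mp hlt a (List.mem_range.mpr (hl' ha).1)) b
        (List.mem_range.mpr (hl' hb).1)
    rw [U.ι_add hab (hl' hc).1, U.ι_add (hl' ha).1 (hl' hb).1]
    exact mul_mem (mul_mem (hw3 _ (hl' ha).1 (hl' ha).2) (hw3 _ (hl' hb).1 (hl' hb).2))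
      (hw3 _ (hl' hc).1 (hl' hc).2)
  have hAJ : A = X.J := le_antisymm (fun x hx => X.cent_J fun y hy => hcomm x hx y (hJA hy)) hJA
  subst hAJ
  have h := X.card_NC
  rw [Subgroup.normalizer_eq_top, inf_top_eq, X.card_C] at h
  norm_num at h

/-- The large case gives the symplectic group. -/
theorem iso_symp (F₂ : Type*) [Field F₂] [Fintype F₂] (h₂ : Fintype.card F₂ = 2) :
    Nonempty (G ≃* Matrix.symplecticGroup (Fin 3) F₂) := by
  classical
  haveI : Fact (Nat.Prime 3) := ⟨Nat.prime_three⟩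
  obtain ⟨S, hS⟩ := B.exists_sylow
  have h5 : ∀ n, 12 ≤ n → (G ≃* ↥(alternatingGroup (Fin n))) → False := by
    intro n hn e
    have hd : 3 ^ 5 ∣ Nat.card G := by
      rw [Nat.card_congr e.toEquiv]
      have h1 : 3 ^ 5 ∣ n.factorial := (show 3 ^ 5 ∣ Nat.factorial 12 by decide).trans (Nat.factorial_dvd_factorial hn)
      haveI : Nontrivial (Fin n) := Fin.nontrivial_iff_two_le.mpr (by omega)
      have h2 := two_mul_nat_card_alternatingGroup (α := Fin n)
      rw [Nat.card_perm, Nat.card_fin] at h2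
      rw [← h2] at h1
      exact (Nat.Coprime.pow_left 5 (by decide : Nat.Coprime 3 2)).dvd_of_dvd_mul_left h1
    have h4 := X.sylow.card_eq_multiplicity
    rw [show Nat.card (X.sylow : Subgroup G) = 81 from X.card_S] at h4
    have h6 := (Nat.Prime.pow_dvd_iff_le_factorization Nat.prime_three Nat.card_pos.ne').mp hd
    have h7 : (Nat.card G).factorization 3 = 4 :=
      Nat.pow_right_injective (le_refl 2 |>.trans (by norm_num)) (h4.symm.trans (by norm_num))
    omega
  rcases Cfsg.Agent.S3298.result (U.f (of 3)) B.orderOf_alpha S hS B.cent_iso with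
    ⟨⟨e⟩⟩ | ⟨⟨e⟩⟩ | ⟨F', _, _, hF', ⟨e⟩⟩ | ⟨h1, h2⟩
  · exact (h5 12 le_rfl e).elim
  · exact (h5 13 (by norm_num) e).elim
  · obtain ⟨e'⟩ := psp_six_two F' F₂ hF' h₂
    exact ⟨e.trans e'⟩
  · haveI : (Cfsg.oddCore G).Normal := CfsgLib.SelfCent.pPrimeCore_normal' 2
    exact (B.no_odd_core h2 h1).elim

end Big

end CfsgLib.PSpFourThree
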