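import Cfsg.Agent.Lib.PSpFourThree.Codes
import Cfsg.Agent.Lib.PSpFourThree.Weak
import Cfsg.Agent.Lib.SymNineThree.CentJ

/-!
The last kind: centralizers of vectors of weight at most two.
-/

set_option autoImplicit false
set_option maxRecDepth 20000
set_option linter.style.haveILetI false
set_option linter.unusedSectionVars false

namespace CfsgLib.PSpFourThree

open CfsgLib.SymNineThree CfsgLib.SymNineThree.Mon

attribute [local instance 2000] List.decidableBAll List.decidableBEx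

theorem fix8_check : ((List.range 1296).all fun x => !is3 x || inT x || (List.range 27).all fun v =>
    !small 3 v || !Nat.beq (mulM x (trC v)) (mulM (trC v) x)) = true := by decide +kernel

universe u

namespace Ctx

variable {G : Type u} [Group G] [Finite G] (X : Ctx G)

theorem J_le_cent {y : G} (hy : y ∈ X.J) : X.J ≤ Subgroup.centralizer ({y} : Set G) :=
  fun j hj => mem_centralizer_iff'.mpr (X.comm j hj y hy)

theorem over_sig {H : Subgroup G} (hJ : X.J ≤ H) (K : Subgroup H) (h3 : (Nat.card K).Coprime 3)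
    (hn : X.J.subgroupOf H ≤ Subgroup.normalizer (K : Set H)) : K = ⊥ := by
  refine (Subgroup.map_eq_bot_iff_of_injective _ H.subtype_injective).mp (X.sig _ ?_ fun j hj => ?_)
  · rwa [Subgroup.card_map_of_injective H.subtype_injective]
  · refine mem_of_map_conj _ ?_
    rintro _ ⟨k, hk, rfl⟩
    exact ⟨(⟨j, hJ hj⟩ : H) * k * (⟨j, hJ hj⟩ : H)⁻¹,
      (Subgroup.mem_normalizer_iff.mp (hn (show (⟨j, hJ hj⟩ : H) ∈ X.J.subgroupOf H from hj)) k).mp hk, rfl⟩

end Ctx

namespace Coord

variable {G : Type u} [Group G] [Finite G] {X : Ctx G} (U : Coord X)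

include U in
/-- The centralizer of a vector lies in the normalizer of `J`. -/
def CN (v : ℕ) : Prop := ∀ g : G, g * U.ι v = U.ι v * g → g ∈ Subgroup.normalizer (X.J : Set G)

theorem top8 (h8 : U.k = 3) (x : Mon) : x ∈ Kd U.k := by rw [h8, Kd_three]; exact Subgroup.mem_top x

theorem f_eq_one {x : Mon} (hx : x ∈ Kd U.k) (h : U.f x = 1) : x = 1 :=
  U.f_inj hx (Kd U.k).one_mem (h.trans U.f_one.symm)

theorem mem_J_of_fix (h8 : U.k = 3) {v : ℕ} (hv : v < 27) (hs : small 3 v = true) {x : Mon}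
    (hx : x ∈ Kd U.k) (h3 : is3 x.c = true) (hc : x * tr v = tr v * x) : U.f x ∈ X.J := by
  rw [U.f_mem_J hx]
  have h := List.all_eq_true.mp fix8_check _ (List.mem_range.mpr x.c.isLt)
  simp only [h3, Bool.not_true, Bool.false_or, Bool.or_eq_true, List.all_eq_true] at h
  refine h.resolve_right fun h' => ?_
  have h'' := h' v (List.mem_range.mpr hv)
  have hc' : mulM (x.c : ℕ) (trC v) = mulM (trC v) x.c := by rw [← code_tr hv]; exact comm_iff.mp hc
  simp [hs, hc'] at h''

/-- Three-elements of the stabilizer of a small vector. -/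
theorem three_mem_J (h8 : U.k = 3) {v : ℕ} (hv : v < 27) (hs : small 3 v = true) {g : G}
    (hg : g ∈ Subgroup.normalizer (X.J : Set G)) (hgv : g * U.ι v = U.ι v * g) {n : ℕ}
    (h3 : g ^ 3 ^ n = 1) : g ∈ X.J := by
  obtain ⟨x, hx, rfl⟩ := U.exists_f hg
  refine U.mem_J_of_fix h8 hv hs hx (is3_of (n := n) (U.f_eq_one ((Kd U.k).pow_mem hx _) ?_))
    ((U.f_comm hx (tr_mem hv)).mp hgv)
  rw [U.f_pow hx]; exact h3

theorem pgroup_cent_small (h8 : U.k = 3) {v : ℕ} (hv : v < 27) (hs : small 3 v = true) {Q : Subgroup G}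
    (hQ : IsPGroup 3 Q) (hc : Q ≤ Subgroup.centralizer ({U.ι v} : Set G)) (hJ : X.J ≤ Q) : Q = X.J := by
  haveI : Fact (Nat.Prime 3) := ⟨Nat.prime_three⟩
  refine le_antisymm ?_ hJ
  by_contra hne
  haveI := hQ.isNilpotent
  have hlt : X.J.subgroupOf Q < ⊤ := lt_top_iff_ne_top.mpr fun e => hne (Subgroup.subgroupOf_eq_top.mp e)
  obtain ⟨q, hqN, hqM⟩ := SetLike.exists_of_lt
    (Group.normalizerCondition_of_isNilpotent (X.J.subgroupOf Q) hlt)
  obtain ⟨n, hn⟩ := hQ q
  refine hqM (U.three_mem_J h8 hv hs (g := (q : G)) (mem_of_map_conj _ fun p hp => ?_)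
    (mem_centralizer_iff'.mp (hc q.2)) (congrArg Subtype.val hn))
  exact (Subgroup.mem_normalizer_iff.mp hqN ⟨p, hJ hp⟩).mp hp

/-- An element centralizing a small vector and acting unipotently lies in `J`. -/
theorem mem_J_of_unipotent (h8 : U.k = 3) {v : ℕ} (hv : v < 27) (hs : small 3 v = true) {A : Subgroup G}
    (hA : A ≤ X.J) {g : G} (hg : g * U.ι v = U.ι v * g) (hgA : ∀ a ∈ A, g * a = a * g)
    (hu : ∀ j ∈ X.J, g * j * g⁻¹ * j⁻¹ ∈ A) : g ∈ X.J := by
  have hn : ∀ j ∈ X.J, g * j * g⁻¹ ∈ X.J := fun j hj => by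
    have := X.J.mul_mem (hA (hu j hj)) hj
    rwa [inv_mul_cancel_right] at this
  have h3 : g ^ 3 ∈ X.J := by
    refine X.cent_J fun j hj => ?_
    set a := g * j * g⁻¹ * j⁻¹ with hadef
    have ha : a ∈ A := hu j hj
    have hga : ∀ w, g * (a * w) * g⁻¹ = a * (g * w * g⁻¹) := fun w => by
      rw [← mul_assoc, hgA a ha]; group
    have e1 : g * j * g⁻¹ = a * j := by rw [hadef]; group
    have e2 : g ^ 3 * j * (g ^ 3)⁻¹ = j := by
      calc g ^ 3 * j * (g ^ 3)⁻¹ = g * (g * (g * j * g⁻¹) * g⁻¹) * g⁻¹ := by rw [pow_three]; group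
        _ = a * (a * (a * j)) := by rw [e1, hga, hga, e1, hga, e1]
        _ = a ^ 3 * j := by rw [pow_three]; simp [mul_assoc]
        _ = j := by rw [X.cube _ (hA ha), one_mul]
    exact mul_inv_eq_iff_eq_mul.mp e2
  obtain ⟨x, hx, rfl⟩ := U.exists_f (mem_of_map_conj _ hn)
  refine U.mem_J_of_fix h8 hv hs hx (is3_of (n := 2) (U.f_eq_one ((Kd U.k).pow_mem hx _) ?_))
    ((U.f_comm hx (tr_mem hv)).mp hg)
  rw [U.f_pow hx, show (3 : ℕ) ^ 2 = 3 * 3 from rfl, pow_mul, X.cube _ h3]

/-- The centralizer of a plane with a small vector. -/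
theorem cent_plane (h8 : U.k = 3) {v : ℕ} (hv : v < 27) (hs : small 3 v = true) {b : G} (hb : b ∈ X.J)
    (hbv : b ∉ Subgroup.zpowers (U.ι v)) {g : G} (hga : g * U.ι v = U.ι v * g)
    (hgb : g * b = b * g) : g ∈ Subgroup.normalizer (X.J : Set G) := by
  classical
  set a := U.ι v with hadef
  have ha : a ∈ X.J := U.ι_mem hv
  set A := Subgroup.zpowers a ⊔ Subgroup.zpowers b with hAdef
  have hAJ : A ≤ X.J := sup_le (Subgroup.zpowers_le.mpr ha) (Subgroup.zpowers_le.mpr hb)
  set H := Subgroup.centralizer (A : Set G) with hHdef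
  have hJH : X.J ≤ H := fun j hj => Subgroup.mem_centralizer_iff.mpr fun x hx => X.comm _ (hAJ hx) _ hj
  have hgH : ∀ {y : G}, y * a = a * y → y * b = b * y → y ∈ H := by
    intro y h1 h2
    have : A ≤ Subgroup.centralizer ({y} : Set G) :=
      sup_le (Subgroup.zpowers_le.mpr (Subgroup.mem_centralizer_singleton_iff.mpr h1.symm))
        (Subgroup.zpowers_le.mpr (Subgroup.mem_centralizer_singleton_iff.mpr h2.symm))
    exact Subgroup.mem_centralizer_iff.mpr fun x hx =>
      Subgroup.mem_centralizer_singleton_iff.mp (this hx)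
  set Z : Subgroup H := A.subgroupOf H
  have hZc : Z ≤ Subgroup.center H := fun z hz => Subgroup.mem_center_iff.mpr fun y =>
    Subtype.ext (Subgroup.mem_centralizer_iff.mp y.2 _ hz).symm
  haveI : Z.Normal := ⟨fun n hn k => by
    rw [Subgroup.mem_center_iff.mp (hZc hn) k, mul_inv_cancel_right]; exact hn⟩
  set π := QuotientGroup.mk' Z
  have hker : π.ker = Z := QuotientGroup.ker_mk' Z
  have O : Over (X.J.subgroupOf H) π :=
    { surj := QuotientGroup.mk'_surjective Z
      ker_le := by rw [hker]; exact fun z hz => Subgroup.mem_subgroupOf.mpr (hAJ hz)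
      central := by rw [hker]; exact hZc
      comm := fun p hp q hq => Subtype.ext (X.comm _ hp _ hq)
      cube := fun p hp => Subtype.ext (by simpa using X.cube _ hp)
      sig := fun K h3 hn => X.over_sig hJH K h3 hn
      self := fun y hy => by
        have hay : (y : G) * a = a * y := (Subgroup.mem_centralizer_iff.mp y.2 a
          (Subgroup.mem_sup_left (Subgroup.mem_zpowers a))).symm
        refine U.mem_J_of_unipotent h8 hv hs hAJ hay
          (fun x hx => (Subgroup.mem_centralizer_iff.mp y.2 x hx).symm) fun j hj => ?_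
        have h := hy ⟨j, hJH hj⟩ hj
        rw [hker] at h
        exact h }
  have hcard : Nat.card (X.J.subgroupOf H) = 3 * Nat.card π.ker := by
    rw [hker, Nat.card_congr (Subgroup.subgroupOfEquivOfLe hJH).toEquiv,
      Nat.card_congr (Subgroup.subgroupOfEquivOfLe (fun x hx => hJH (hAJ hx) : A ≤ H)).toEquiv, X.card_J]
    have hd : Nat.card A ∣ 27 := X.card_J ▸ Subgroup.card_dvd_of_le hAJ
    have hc3 : ∀ x ∈ X.J, Nat.card (Subgroup.zpowers x) ≤ 3 := fun x hx => by
      rw [Nat.card_zpowers]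
      exact Nat.le_of_dvd (by norm_num) (orderOf_dvd_of_pow_eq_one (X.cube _ hx))
    have hle : Nat.card A ≤ 9 := by
      have hcm : ∀ (x : Subgroup.zpowers a) (y : Subgroup.zpowers b),
          Commute ((Subgroup.zpowers a).subtype x) ((Subgroup.zpowers b).subtype y) := fun x y =>
        X.comm _ (Subgroup.zpowers_le.mpr ha x.2) _ (Subgroup.zpowers_le.mpr hb y.2)
      let φ := MonoidHom.noncommCoprod (Subgroup.zpowers a).subtype (Subgroup.zpowers b).subtype hcm
      have hr : φ.range = A := by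
        rw [MonoidHom.noncommCoprod_range, Subgroup.range_subtype, Subgroup.range_subtype]
      rw [← hr]
      refine (Nat.le_of_dvd Nat.card_pos (Subgroup.card_range_dvd φ)).trans ?_
      rw [Nat.card_prod]
      exact Nat.mul_le_mul (hc3 a ha) (hc3 b hb)
    have h3 : 3 < Nat.card A := by
      have h1 : Subgroup.zpowers a < A := lt_of_le_of_ne le_sup_left fun e =>
        hbv (e ▸ Subgroup.mem_sup_right (Subgroup.mem_zpowers b))
      have h2 : Nat.card (Subgroup.zpowers a) = 3 := by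
        haveI : Fact (Nat.Prime 3) := ⟨Nat.prime_three⟩
        rw [Nat.card_zpowers]
        refine orderOf_eq_prime (X.cube _ ha) fun e => ?_
        exact absurd (tr_inj hv (by norm_num) ((U.f_eq_one (tr_mem hv) e).trans tr_zero.symm)) (small_ne hs)
      by_contra hlt
      exact h1.ne (Subgroup.eq_of_le_of_card_ge h1.le (by omega))
    have : Nat.card A = 9 := by
      obtain ⟨i, hi, e⟩ := (Nat.dvd_prime_pow Nat.prime_three).mp (show Nat.card A ∣ 3 ^ 3 by simpa using hd)
      rw [e] at hle h3 ⊢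
      interval_cases i <;> simp_all
    omega
  have hn := O.normal_of_three hcard
  refine mem_of_map_conj _ fun j hj => ?_
  exact Subgroup.mem_subgroupOf.mp (hn.conj_mem ⟨j, hJH hj⟩ hj ⟨g, hgH hga hgb⟩)

/-- The data for the quotient of the centralizer of a vector. -/
theorem exists_quot (h8 : U.k = 3) {v : ℕ} (hv : v < 27) (hs : small 3 v = true) :
    ∃ (Q : Type u) (_ : Group Q) (_ : Finite Q)
      (π : Subgroup.centralizer ({U.ι v} : Set G) →* Q),
      π.ker = (Subgroup.zpowers (U.ι v)).subgroupOf _ ∧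
      Function.Surjective π ∧
      CfsgLib.NineTI.Hyp ((X.J.subgroupOf _).map π) ∧
      ((((X.J.subgroupOf _).map π).Normal) → U.CN v) ∧
      (∀ q ∈ Subgroup.normalizer (((X.J.subgroupOf _).map π : Subgroup Q) : Set Q), ∃ g, π g = q ∧
        ∃ x, x ∈ Kd U.k ∧ (g : G) = U.f x ∧ x * tr v = tr v * x) ∧
      ∀ g : Subgroup.centralizer ({U.ι v} : Set G), (g : G) ∈ Subgroup.normalizer (X.J : Set G) → π g ∈ Subgroup.normalizer (((X.J.subgroupOf _).map π : Subgroup Q) : Set Q) := by
  classical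
  haveI : Fact (Nat.Prime 3) := ⟨Nat.prime_three⟩
  set a := U.ι v with hadef
  have ha : a ∈ X.J := U.ι_mem hv
  set H := Subgroup.centralizer ({a} : Set G)
  have hJH : X.J ≤ H := X.J_le_cent ha
  have hcm : ∀ y : H, (y : G) * a = a * y := fun y => Subgroup.mem_centralizer_singleton_iff.mp y.2
  set Z : Subgroup H := (Subgroup.zpowers a).subgroupOf H with hZ
  have hZJ : ∀ z : H, z ∈ Z → (z : G) ∈ X.J := fun z hz => Subgroup.zpowers_le.mpr ha hz
  have hZc : Z ≤ Subgroup.center H := fun z hz => Subgroup.mem_center_iff.mpr fun y => by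
    obtain ⟨i, hi⟩ := hz
    refine Subtype.ext ?_
    show (y : G) * z = z * y
    rw [show (z : G) = a ^ i from hi.symm]
    exact (Commute.zpow_right (hcm y) i).eq
  haveI : Z.Normal := ⟨fun n hn k => by
    rw [Subgroup.mem_center_iff.mp (hZc hn) k, mul_inv_cancel_right]; exact hn⟩
  set π := QuotientGroup.mk' Z
  have hker : π.ker = Z := QuotientGroup.ker_mk' Z
  have O : Over (X.J.subgroupOf H) π :=
    { surj := QuotientGroup.mk'_surjective Z
      ker_le := by rw [hker]; exact fun z hz => Subgroup.mem_subgroupOf.mpr (hZJ z hz)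
      central := by rw [hker]; exact hZc
      comm := fun p hp q hq => Subtype.ext (X.comm _ hp _ hq)
      cube := fun p hp => Subtype.ext (by simpa using X.cube _ hp)
      sig := fun K h3 hn => X.over_sig hJH K h3 hn
      self := fun y hy => by
        refine U.mem_J_of_unipotent h8 (A := Subgroup.zpowers a) hv hs (Subgroup.zpowers_le.mpr ha) (hcm y)
          (fun x hx => ?_) fun j hj => ?_
        · obtain ⟨i, rfl⟩ := hx
          exact (Commute.zpow_right (hcm y) i).eq
        · have h := hy ⟨j, hJH hj⟩ hj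
          rw [hker] at h
          exact h }
  have hN : ∀ g : H, g ∈ Subgroup.normalizer ((X.J.subgroupOf H : Subgroup H) : Set H) ↔
      (g : G) ∈ Subgroup.normalizer (X.J : Set G) := by
    intro g
    constructor
    · intro hg
      exact mem_of_map_conj _ fun j hj =>
        Subgroup.mem_subgroupOf.mp ((Subgroup.mem_normalizer_iff.mp hg ⟨j, hJH hj⟩).mp hj)
    · intro hg
      exact mem_normalizer_of_le _ fun m hm => (Subgroup.mem_normalizer_iff.mp hg _).mp hm
  have hcard : Nat.card (X.J.subgroupOf H) = 9 * Nat.card π.ker := by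
    rw [hker, Nat.card_congr (Subgroup.subgroupOfEquivOfLe hJH).toEquiv, X.card_J, hZ,
      Nat.card_congr (Subgroup.subgroupOfEquivOfLe (Subgroup.zpowers_le.mpr (hJH ha))).toEquiv,
      Nat.card_zpowers, orderOf_eq_prime (X.cube _ ha) fun e =>
        absurd (tr_inj hv (by norm_num) ((U.f_eq_one (tr_mem hv) e).trans tr_zero.symm)) (small_ne hs)]
  refine ⟨H ⧸ Z, inferInstance, inferInstance, π, hker, QuotientGroup.mk'_surjective Z,
    O.hyp_map hcard ?_ ?_, fun hn g hg => ?_, fun q hq => ?_, fun g hg => O.mem_normalizer_iff.mpr ((hN g).mpr hg)⟩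
  · intro P hP hle
    have e := U.pgroup_cent_small h8 hv hs (Q := P.map H.subtype) (hP.map _)
      (by rintro _ ⟨q, -, rfl⟩; exact mem_centralizer_iff'.mpr (hcm q)) (fun j hj => ⟨⟨j, hJH hj⟩, hle hj, rfl⟩)
    refine le_antisymm (fun p hp => ?_) hle
    exact Subgroup.mem_subgroupOf.mpr (e.le ⟨p, hp, rfl⟩)
  · intro g k hk hkZ hgk
    rw [hker] at hgk hkZ
    rw [hN]
    refine mem_of_map_conj _ fun j hj => ?_
    have hja : (g : G) * j * (g : G)⁻¹ * a = a * ((g : G) * j * (g : G)⁻¹) := by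
      have := hcm (g * ⟨j, hJH hj⟩ * g⁻¹)
      simpa using this
    have hjb : (g : G) * j * (g : G)⁻¹ * k = (k : G) * ((g : G) * j * (g : G)⁻¹) := by
      obtain ⟨i, hi⟩ := hgk
      have hgk' : (g : G) * k * (g : G)⁻¹ = a ^ i * k := by
        rw [show a ^ i = ((g * k * g⁻¹ * k⁻¹ : H) : G) from hi]
        simp
      have hk' : (g : G)⁻¹ * k * g = (a ^ i)⁻¹ * k := by
        calc (g : G)⁻¹ * k * g = (g : G)⁻¹ * ((a ^ i)⁻¹ * ((g : G) * k * (g : G)⁻¹)) * g := by
              rw [hgk']; group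
          _ = (g : G)⁻¹ * (a ^ i)⁻¹ * g * k := by group
          _ = (a ^ i)⁻¹ * k := by
            rw [(((Commute.zpow_right (hcm g) i).inv_right).inv_left).eq, inv_mul_cancel_right]
      have hjk : j * ((g : G)⁻¹ * k * g) = ((g : G)⁻¹ * k * g) * j := by
        rw [hk']
        exact X.comm _ hj _ (X.J.mul_mem (X.J.inv_mem (X.J.zpow_mem ha i)) hk)
      calc (g : G) * j * (g : G)⁻¹ * k = (g : G) * (j * ((g : G)⁻¹ * k * g)) * (g : G)⁻¹ := by group
        _ = (g : G) * (((g : G)⁻¹ * k * g) * j) * (g : G)⁻¹ := by rw [hjk]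
        _ = _ := by group
    obtain ⟨x, hx, e⟩ := U.exists_f (U.cent_plane h8 hv hs hk (fun h => hkZ h) hja hjb)
    rw [e]
    refine U.mem_J_of_fix h8 hv hs hx (is3_of (n := 1) (U.f_eq_one ((Kd U.k).pow_mem hx _) ?_))
      ((U.f_comm hx (tr_mem hv)).mp (e ▸ hja))
    rw [U.f_pow hx, ← e, pow_one, conj_pow, X.cube _ hj]
    group
  · have hJn := O.normal_of_map hn
    exact (hN ⟨g, Subgroup.mem_centralizer_singleton_iff.mpr hg⟩).mp
      (mem_normalizer_of_le _ fun m hm => hJn.conj_mem m hm _)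
  · obtain ⟨g, rfl⟩ := O.surj q
    refine ⟨g, rfl, ?_⟩
    obtain ⟨x, hx, e⟩ := U.exists_f ((hN g).mp (O.mem_normalizer_iff.mp hq))
    exact ⟨x, hx, e, (U.f_comm hx (tr_mem hv)).mp (e ▸ hcm g)⟩

theorem mem_map_iff {v : ℕ} {Q : Type*} [Group Q]
    {π : Subgroup.centralizer ({U.ι v} : Set G) →* Q} (hv : v < 27)
    (hker : π.ker = (Subgroup.zpowers (U.ι v)).subgroupOf _)
    {g : Subgroup.centralizer ({U.ι v} : Set G)} :
    π g ∈ (X.J.subgroupOf _).map π ↔ (g : G) ∈ X.J := by
  constructor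
  · rintro ⟨j, hj, e⟩
    have h : j⁻¹ * g ∈ π.ker := by rw [MonoidHom.mem_ker, map_mul, map_inv, e, inv_mul_cancel]
    rw [hker] at h
    have h2 : (j : G)⁻¹ * g ∈ X.J := Subgroup.zpowers_le.mpr (U.ι_mem hv) h
    simpa using X.J.mul_mem hj h2
  · intro h; exact ⟨g, h, rfl⟩

/-- The four-group or dihedral group in a quotient. -/
theorem exists_sub {v : ℕ} {Q : Type*} [Group Q]
    {π : Subgroup.centralizer ({U.ι v} : Set G) →* Q} (hv : v < 27)
    (hker : π.ker = (Subgroup.zpowers (U.ι v)).subgroupOf _)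
    (hnor : ∀ g : Subgroup.centralizer ({U.ι v} : Set G), (g : G) ∈ Subgroup.normalizer (X.J : Set G) → π g ∈ Subgroup.normalizer (((X.J.subgroupOf _).map π : Subgroup Q) : Set Q))
    (hdecn : ∀ q ∈ Subgroup.normalizer (((X.J.subgroupOf _).map π : Subgroup Q) : Set Q), ∃ g, π g = q ∧
        ∃ x, x ∈ Kd U.k ∧ (g : G) = U.f x ∧ x * tr v = tr v * x)
    {F : Type} [Group F] (ι : F → Mon) (hι : ∀ s t, ι (s * t) = ι s * ι t)
    (hk : ∀ t, ι t ∈ Kd U.k) (hfix : ∀ t, ι t * tr v = tr v * ι t)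
    (hT : ∀ t, inT (ι t).c = true → t = 1) (L : List ℕ) (hL : ∀ p ∈ L, ∃ t, ((ι t).c : ℕ) = p)
    (hdec : ∀ x : Mon, x ∈ Kd U.k → x * tr v = tr v * x → L.any (fun p => inT (mulM x.c (invM p))) = true) :
    ∃ η : F →* Q, Function.Injective η ∧
      η.range ≤ Subgroup.normalizer (((X.J.subgroupOf _).map π : Subgroup Q) : Set Q) ∧
      ∀ n ∈ Subgroup.normalizer (((X.J.subgroupOf _).map π : Subgroup Q) : Set Q),
        ∃ m ∈ (X.J.subgroupOf _).map π, ∃ p ∈ η.range, n = m * p := by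
  let e : F →* Subgroup.centralizer ({U.ι v} : Set G) := MonoidHom.mk'
    (fun t => ⟨U.f (ι t), Subgroup.mem_centralizer_singleton_iff.mpr
      ((U.f_comm (hk t) (tr_mem hv)).mpr (hfix t))⟩)
    (fun s t => Subtype.ext (by
      show U.f (ι (s * t)) = U.f (ι s) * U.f (ι t)
      rw [hι, U.f_mul (hk s) (hk t)]))
  refine ⟨π.comp e, ?_, ?_, fun n hn => ?_⟩
  · rw [injective_iff_map_eq_one]
    intro t ht
    refine hT t ?_
    have : π (e t) ∈ (X.J.subgroupOf _).map π := by
      rw [show π (e t) = 1 from ht]; exact one_mem _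
    exact (U.f_mem_J (hk t)).mp ((U.mem_map_iff hv hker).mp this)
  · rintro _ ⟨t, rfl⟩
    exact hnor _ (U.f_mem_N (hk t))
  · obtain ⟨g, rfl, x, hx, hgx, hxv⟩ := hdecn n hn
    obtain ⟨p, hp, hpT⟩ := List.any_eq_true.mp (hdec x hx hxv)
    obtain ⟨t, ht⟩ := hL p hp
    refine ⟨π (g * (e t)⁻¹), (U.mem_map_iff hv hker).mpr ?_, π (e t), ⟨t, rfl⟩, by rw [map_mul, map_inv, inv_mul_cancel_right]⟩
    show (g : G) * (U.f (ι t))⁻¹ ∈ X.J
    rw [hgx, ← U.f_inv (hk t), ← U.f_mul hx ((Kd U.k).inv_mem (hk t)),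
      U.f_mem_J ((Kd U.k).mul_mem hx ((Kd U.k).inv_mem (hk t)))]
    show inT (x * (ι t)⁻¹).c = true
    rw [code_mul, code_inv, ht]
    exact hpT

theorem cent_four (h8 : U.k = 3) : U.CN 4 := by
  have hv : 4 < 27 := by norm_num
  obtain ⟨Q, _, _, π, hker, -, hyp, hfin, hdecn, hnor⟩ := U.exists_quot h8 hv (by decide +kernel)
  refine hfin ?_
  obtain ⟨h1, h2, h3⟩ := four_facts false
  obtain ⟨η, hη, hle, hd⟩ := U.exists_sub hv hker hnor hdecn (fourHom false) h1 (fun t => U.top8 h8 _)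
    (fun t => (h3 t).2.1) (fun t => (h3 t).2.2) _ dec_facts.2.2.2.2.1
    (fun x hx hxv => by
      have h := all_mon dec_facts.2.1 x
      have hxc : mulM x.c (trC 4) = mulM (trC 4) x.c := by rw [← code_tr hv]; exact comm_iff.mp hxv
      rw [hxc, Nat.beq_refl] at h
      simpa using h)
  have hN := CfsgLib.NineTI.normalizer_eq_top_of_klein hyp η.range hle
    (by
      rw [← Nat.card_congr (MonoidHom.ofInjective hη).toEquiv, Nat.card_eq_fintype_card]
      rfl)
    (by rintro _ ⟨t, rfl⟩; rw [← map_mul, h2 t, map_one]) hd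
  exact Subgroup.normalizer_eq_top_iff.mp hN

/-- The centralizer of a vector of weight one is small or covers `S₆`. -/
theorem cent_one (h8 : U.k = 3) : U.CN 1 ∨
    ∃ π : Subgroup.centralizer ({U.ι 1} : Set G) →* Equiv.Perm (Fin 6), Function.Surjective π ∧
      π.ker = (Subgroup.zpowers (U.ι 1)).subgroupOf _ := by
  classical
  have hv : 1 < 27 := by norm_num
  obtain ⟨Q, _, _, π, hker, hsurj, hyp, hfin, hdecn, hnor⟩ := U.exists_quot h8 hv (by decide +kernel)
  obtain ⟨η, hη, hle, hd⟩ := U.exists_sub hv hker hnor hdecn dihFun dih_facts.1 (fun t => U.top8 h8 _)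
    (fun t => (dih_facts.2 t).1) (fun t => (dih_facts.2 t).2) _ dec_facts.2.2.2.2.2
    (fun x hx hxv => by
      have h := all_mon dec_facts.2.2.1 x
      have hxc : mulM x.c (trC 1) = mulM (trC 1) x.c := by rw [← code_tr hv]; exact comm_iff.mp hxv
      rw [hxc, Nat.beq_refl] at h
      simpa using h)
  obtain ⟨ψ, hψ⟩ := CfsgLib.NineTI.exists_equiv_model hyp η.range hle (MonoidHom.ofInjective hη) hd
  rcases CfsgLib.NineTI.normal_or_six (⟨hyp, ψ, hψ⟩ : CfsgLib.NineTI.DData _) with h | ⟨⟨e⟩⟩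
  · exact Or.inl (hfin h)
  · refine Or.inr ⟨e.toMonoidHom.comp π, e.surjective.comp hsurj, ?_⟩
    rw [← hker]
    ext g
    simp

theorem weight_orbit : ((List.range 27).all fun v => Nat.beq (wtV v) 0 || monoL.any fun m =>
    Nat.blt m 1296 && Nat.beq (mulM (mulM m (trC (([0, 1, 4, 13] : List ℕ).getD (wtV v) 0))) (invM m))
      (trC v)) = true := by decide +kernel

include U in
/-- Centralizers are transported along the orbits of the weights. -/
theorem CN_weight (h8 : U.k = 3) {v r : ℕ} (hv : v < 27) (hr : r = ([0, 1, 4, 13] : List ℕ).getD (wtV v) 0)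
    (hr27 : r < 27) (hv0 : wtV v ≠ 0) (h : U.CN r) : U.CN v := by
  intro g hg
  have hc := List.all_eq_true.mp weight_orbit v (List.mem_range.mpr hv)
  simp only [Bool.or_eq_true, Nat.beq_eq, hv0, false_or, List.any_eq_true, Bool.and_eq_true, ← hr] at hc
  obtain ⟨m, -, hm, he⟩ := hc
  have hlt : m < 1296 := Nat.le_of_ble_eq_true hm
  have e : of m * tr r * (of m)⁻¹ = tr v := code_eq.mpr (by
    rw [code_mul, code_mul, code_inv, code_of hlt, code_tr hr27, code_tr hv]; exact he)
  have hK := U.top8 h8 (of m)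
  have e' : U.f (of m) * U.ι r * (U.f (of m))⁻¹ = U.ι v := by
    rw [ι, ι, ← e, U.f_conj hK (tr_mem hr27)]
  rw [← e'] at hg
  have h' := h ((U.f (of m))⁻¹ * g * U.f (of m)) (by
    calc (U.f (of m))⁻¹ * g * U.f (of m) * U.ι r =
        (U.f (of m))⁻¹ * (g * (U.f (of m) * U.ι r * (U.f (of m))⁻¹)) * U.f (of m) := by group
      _ = (U.f (of m))⁻¹ * ((U.f (of m) * U.ι r * (U.f (of m))⁻¹) * g) * U.f (of m) := by rw [hg]
      _ = _ := by group)
  have := mul_mem (mul_mem (U.f_mem_N hK) h') (inv_mem (U.f_mem_N hK))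
  simpa [mul_assoc] using this

/-- Vectors of weight two have small centralizers. -/
theorem cent_wt_two (h8 : U.k = 3) {v : ℕ} (hv : v < 27) (hw : wtV v = 2) : U.CN v :=
  U.CN_weight h8 hv (r := 4) (by rw [hw]; rfl) (by norm_num) (by omega) (U.cent_four h8)

end Coord

end CfsgLib.PSpFourThree
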