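import Cfsg.Agent.Lib.PSpFourThree.Eight.Module

/-!
The large case: the involutions of the normalizer of the elementary group centralizing the fixed one.
-/

set_option autoImplicit false
set_option maxRecDepth 20000
set_option linter.style.haveILetI false
set_option linter.unusedSectionVars false

namespace CfsgLib.PSpFourThree

open CfsgLib.SymNineThree CfsgLib.SymNineThree.Mon
open CfsgLib.SymNineThree.Six (sA sB sU sV sW sT)

attribute [local instance 2000] List.decidableBAll List.decidableBEx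

theorem invol_norm : ∀ σ : P6, σ * σ = 1 → σ ≠ 1 →
    ∃ τ : P6, τ * σ * τ⁻¹ = sU ∨ τ * σ * τ⁻¹ = sU * sV ∨ τ * σ * τ⁻¹ = sW := by decide +kernel

theorem fixed_sU : ∀ i j : Fin 6, i ≠ j → (sU i = i ∧ sU j = j ∨ sU i = j ∧ sU j = i) →
    (i = 1 ∧ j = 2 ∨ i = 2 ∧ j = 1) ∨
      ∃ τ : P6, τ * sU = sU * τ ∧ (τ i = 4 ∧ τ j = 5 ∨ τ i = 5 ∧ τ j = 4) := by decide +kernel

theorem fixed_sUV : ∀ i j : Fin 6, i ≠ j →
    ((sU * sV) i = i ∧ (sU * sV) j = j ∨ (sU * sV) i = j ∧ (sU * sV) j = i) →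
    (i = 1 ∧ j = 2 ∨ i = 2 ∧ j = 1) ∨ (i = 4 ∧ j = 5 ∨ i = 5 ∧ j = 4) ∨ (i = 0 ∧ j = 3 ∨ i = 3 ∧ j = 0) := by
  decide +kernel

theorem fixed_sW : ∀ i j : Fin 6, i ≠ j → (sW i = i ∧ sW j = j ∨ sW i = j ∧ sW j = i) →
    (i = 0 ∧ j = 3 ∨ i = 3 ∧ j = 0) ∨ (i = 1 ∧ j = 4 ∨ i = 4 ∧ j = 1) ∨ (i = 2 ∧ j = 5 ∨ i = 5 ∧ j = 2) := by
  decide +kernel

theorem conj_sU : ∀ τ : P6, τ⁻¹ * sU * τ = Equiv.swap (τ⁻¹ 1) (τ⁻¹ 2) := by decide +kernel

theorem b_conj : ∃ γ : P6, γ * (sT * sU) * γ⁻¹ = sU * sV := by decide +kernel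

theorem ab_conj : ∃ γ : P6, γ * (sV * (sT * sU)) * γ⁻¹ = sW := by decide +kernel

theorem class_codes :
    [(432, 3, 18), (864, 3, 108), (648, 21, 126), (648, 432, 216), (648, 540, 219), (216, 540, 1098)].all
      (fun p => Nat.beq (mulM (mulM p.1 p.2.1) (invM p.1)) p.2.2) = true := by decide +kernel

universe u

variable {G : Type u} [Group G] [Finite G] {X : Ctx G}

namespace Big

variable {U : Coord X} (B : Big U)

include B

/-- The normalizer of the elementary group in the centralizer of the fixed involution. -/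
noncomputable def HH : Subgroup G :=
  Subgroup.normalizer (B.E32 : Set G) ⊓ Subgroup.centralizer ({U.f (of 3)} : Set G)

theorem alpha_E : U.f (of 3) ∈ B.E32 := Subgroup.mem_sup_left B.alpha_mem

theorem alpha_sq : U.f (of 3) * U.f (of 3) = 1 := B.E32_sq B.alpha_E

theorem E32_le_HH : B.E32 ≤ B.HH := fun _ hw =>
  ⟨B.D0_norm (B.E32_le_D0 hw), mem_centralizer_iff'.mpr (B.E32_comm hw B.alpha_E)⟩

theorem L0_mem (σ : P6) : B.L0.ρ σ ∈ B.HH :=
  ⟨B.L0_norm σ, mem_centralizer_iff'.mpr (B.alpha_comm σ).symm⟩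

theorem HH_dec {g : G} (hg : g ∈ B.HH) : ∃ σ : P6, ∃ w ∈ B.E32, g = B.L0.ρ σ * w :=
  B.norm_alpha hg.1 (mem_centralizer_iff'.mp hg.2)

theorem HH_comm {g : G} (hg : g ∈ B.HH) : g * U.f (of 3) = U.f (of 3) * g := mem_centralizer_iff'.mp hg.2

theorem L0_conj_E (σ : P6) {w : G} (hw : w ∈ B.E32) : B.L0.ρ σ * w * (B.L0.ρ σ)⁻¹ ∈ B.E32 :=
  (Subgroup.mem_normalizer_iff.mp (B.L0_norm σ) w).mp hw

theorem dec_unique {σ τ : P6} {v w : G} (hv : v ∈ B.E32) (hw : w ∈ B.E32)
    (h : B.L0.ρ σ * v = B.L0.ρ τ * w) : σ = τ ∧ v = w := by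
  have e : B.L0.ρ (τ⁻¹ * σ) = w * v⁻¹ := by
    rw [map_mul, map_inv]
    calc (B.L0.ρ τ)⁻¹ * B.L0.ρ σ = (B.L0.ρ τ)⁻¹ * (B.L0.ρ σ * v) * v⁻¹ := by group
      _ = _ := by rw [h]; group
  have h1 := B.L0_inter (show B.L0.ρ (τ⁻¹ * σ) ∈ B.E32 from e ▸ mul_mem hw (inv_mem hv))
  have h2 : σ = τ := (inv_mul_eq_one.mp h1).symm
  subst h2
  exact ⟨rfl, mul_left_cancel h⟩

/-- The product of a pair and its image. -/
theorem pr_move (σ : P6) (i j : Fin 6) : B.pr (σ i) (σ j) * B.pr i j = B.pr (σ i) i * B.pr (σ j) j := by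
  rw [← B.pr_trans (σ i) i (σ j), ← B.pr_trans i j (σ j), B.pr_comm i j j (σ j), mul_assoc, mul_assoc,
    B.pr_sq, mul_one, B.pr_symm (σ j) j]

theorem E_move {σ : P6} (h2 : σ * σ = 1) (a c : Fin 6) {ε : G} (hε : ε ∈ B.E32) :
    B.pr a c * (B.L0.ρ σ * ε) * (B.pr a c)⁻¹ = B.L0.ρ σ * (B.pr (σ a) (σ c) * B.pr a c * ε) := by
  have hi : σ⁻¹ = σ := inv_eq_of_mul_eq_one_right h2
  have e : B.L0.ρ σ * B.pr (σ a) (σ c) = B.pr a c * B.L0.ρ σ := by
    have h := B.pr_conj σ (σ a) (σ c)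
    rw [← Equiv.Perm.mul_apply, ← Equiv.Perm.mul_apply, h2] at h
    exact mul_inv_eq_iff_eq_mul.mp h
  calc B.pr a c * (B.L0.ρ σ * ε) * (B.pr a c)⁻¹ = B.pr a c * B.L0.ρ σ * (ε * B.pr a c) := by
        rw [inv_eq_of_mul_eq_one_right (B.pr_sq a c)]; group
    _ = B.L0.ρ σ * B.pr (σ a) (σ c) * (B.pr a c * ε) := by rw [e, B.E32_comm hε (B.pr_mem a c)]
    _ = _ := by group

theorem elem_eqs : B.L0.ρ sU = U.f (of 18) ∧ U.f (of 3) * U.f (of 18) = U.f (of 21) ∧
    B.L0.ρ (sU * sV) = U.f (of 126) ∧ U.f (of 3) * U.f (of 126) = U.f (of 129) ∧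
    B.L0.ρ sW = U.f (of 216) ∧ U.f (of 3) * U.f (of 216) = U.f (of 219) := by
  have hm : ∀ {x y z : ℕ}, of x * of y = of z → U.f (of x) * U.f (of y) = U.f (of z) := fun h => by
    rw [← U.f_mul (U.top8 B.h8 _) (U.top8 B.h8 _), h]
  refine ⟨B.vals0.2.2.1, hm (by decide +kernel), ?_, hm (by decide +kernel), B.vals0.2.2.2.2,
    hm (by decide +kernel)⟩
  rw [map_mul, B.vals0.2.2.1, B.vals0.2.2.2.1]
  exact hm (by decide +kernel)

/-- Involutions outside the elementary group. -/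
theorem invol_class {σ : P6} {w : G} (hw : w ∈ B.E32) (hd : B.L0.ρ σ * w * (B.L0.ρ σ * w) = 1)
    (hσ : σ ≠ 1) : ∃ h ∈ B.HH, ∃ r, r ∈ [U.f (of 18), U.f (of 21), U.f (of 18) * B.pr 4 5,
      U.f (of 3) * (U.f (of 18) * B.pr 4 5), U.f (of 126), U.f (of 129), U.f (of 216), U.f (of 219)] ∧
      h * (B.L0.ρ σ * w) * h⁻¹ = r := by
  obtain ⟨e18, e21, e126, e129, e216, e219⟩ := B.elem_eqs
  have hσ2 : σ * σ = 1 := by
    have e : B.L0.ρ (σ * σ) * ((B.L0.ρ σ)⁻¹ * w * B.L0.ρ σ * w) = B.L0.ρ 1 * 1 := by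
      rw [map_one, one_mul, ← hd, map_mul]; group
    refine (B.dec_unique ?_ (one_mem _) e).1
    have := B.L0_conj_E σ⁻¹ hw
    rw [map_inv, inv_inv] at this
    exact mul_mem this hw
  obtain ⟨τ, hτ⟩ := invol_norm σ hσ2 hσ
  set s := τ * σ * τ⁻¹ with hs
  set v := B.L0.ρ τ * w * (B.L0.ρ τ)⁻¹ with hv
  have hvE : v ∈ B.E32 := B.L0_conj_E τ hw
  have hconj : B.L0.ρ τ * (B.L0.ρ σ * w) * (B.L0.ρ τ)⁻¹ = B.L0.ρ s * v := by
    rw [hs, hv, map_mul, map_mul, map_inv]; group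
  have hs2 : s * s = 1 := by rw [hs, conj_mul, hσ2, mul_one, mul_inv_cancel]
  have hsv : B.L0.ρ s * v * (B.L0.ρ s * v) = 1 := by
    rw [← hconj, conj_mul, hd, mul_one, mul_inv_cancel]
  have hfixv : B.L0.ρ s * v * (B.L0.ρ s)⁻¹ = v := by
    have hsi : (B.L0.ρ s)⁻¹ = B.L0.ρ s := by rw [← map_inv, inv_eq_of_mul_eq_one_right hs2]
    have hvi : v⁻¹ = v := inv_eq_of_mul_eq_one_right (B.E32_sq hvE)
    rw [hsi]
    calc B.L0.ρ s * v * B.L0.ρ s = B.L0.ρ s * v * (B.L0.ρ s * v) * v⁻¹ := by group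
      _ = v := by rw [hsv, one_mul, hvi]
  obtain ⟨i, j, hij⟩ := B.E32_cases hvE
  obtain ⟨ε, hε, hεv⟩ : ∃ ε, (ε = 1 ∨ ε = U.f (of 3)) ∧ v = ε * B.pr i j := by
    rcases hij with e | e
    · exact ⟨1, Or.inl rfl, by rw [e, one_mul]⟩
    · exact ⟨_, Or.inr rfl, e⟩
  have hεE : ε ∈ B.E32 := by
    rcases hε with rfl | rfl
    · exact one_mem _
    · exact B.alpha_E
  have hεc : ∀ π : P6, Commute ε (B.L0.ρ π) := fun π => by
    rcases hε with rfl | rfl
    · exact Commute.one_left _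
    · exact B.alpha_comm π
  have hij' : i = j ∨ i ≠ j ∧ (s i = i ∧ s j = j ∨ s i = j ∧ s j = i) := by
    rcases eq_or_ne i j with h | h
    · exact Or.inl h
    refine Or.inr ⟨h, ?_⟩
    rw [hεv, ← mul_assoc, ← (hεc s).eq, mul_assoc ε, mul_assoc ε, B.pr_conj] at hfixv
    rcases B.pr_inj (s.injective.ne h) h (mul_left_cancel hfixv) with ⟨a, b⟩ | ⟨a, b⟩
    · exact Or.inl ⟨a, b⟩
    · exact Or.inr ⟨a, b⟩
  -- after a move the module part is central or a fixed pair
  have fin : ∀ {k : G}, k ∈ B.HH → ∀ {r : G}, k * (B.L0.ρ s * v) * k⁻¹ = r →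
      r ∈ [U.f (of 18), U.f (of 21), U.f (of 18) * B.pr 4 5, U.f (of 3) * (U.f (of 18) * B.pr 4 5),
        U.f (of 126), U.f (of 129), U.f (of 216), U.f (of 219)] →
      ∃ h ∈ B.HH, ∃ r, r ∈ [U.f (of 18), U.f (of 21), U.f (of 18) * B.pr 4 5,
        U.f (of 3) * (U.f (of 18) * B.pr 4 5), U.f (of 126), U.f (of 129), U.f (of 216), U.f (of 219)] ∧
        h * (B.L0.ρ σ * w) * h⁻¹ = r := fun {k} hk {r} hr hmem =>
    ⟨k * B.L0.ρ τ, mul_mem hk (B.L0_mem τ), r, hmem, by rw [← hr, ← hconj]; group⟩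
  -- a central module part
  have plain : ∀ {δ : G}, (δ = 1 ∨ δ = U.f (of 3)) → ∀ {k : G}, k ∈ B.HH →
      k * (B.L0.ρ s * v) * k⁻¹ = B.L0.ρ s * δ → ∃ h ∈ B.HH, ∃ r, r ∈ [U.f (of 18), U.f (of 21),
        U.f (of 18) * B.pr 4 5, U.f (of 3) * (U.f (of 18) * B.pr 4 5), U.f (of 126), U.f (of 129),
        U.f (of 216), U.f (of 219)] ∧ h * (B.L0.ρ σ * w) * h⁻¹ = r := by
    intro δ hδ k hk h
    refine fin hk h ?_
    rcases hδ with rfl | rfl
    · rw [mul_one]
      rcases hτ with e | e | e <;> rw [e]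
      · simp [e18]
      · simp [e126]
      · simp [e216]
    · rw [← B.alpha_comm]
      rcases hτ with e | e | e <;> rw [e]
      · simp [e18, e21]
      · simp [e126, e129]
      · simp [e216, e219]
  have hPE : ∀ a c : Fin 6, B.pr a c ∈ B.HH := fun a c => B.E32_le_HH (B.pr_mem a c)
  rcases hij' with rfl | ⟨hne, hfx⟩
  · refine plain hε (one_mem _) ?_
    rw [hεv, B.pr_self, mul_one, one_mul, inv_one, mul_one]
  have hεα : U.f (of 3) * ε = 1 ∨ U.f (of 3) * ε = U.f (of 3) := by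
    rcases hε with rfl | rfl
    · exact Or.inr (mul_one _)
    · exact Or.inl B.alpha_sq
  have move : ∀ a c : Fin 6, B.pr (s a) (s c) * B.pr a c = B.pr i j →
      ∃ h ∈ B.HH, ∃ r, r ∈ [U.f (of 18), U.f (of 21), U.f (of 18) * B.pr 4 5,
        U.f (of 3) * (U.f (of 18) * B.pr 4 5), U.f (of 126), U.f (of 129), U.f (of 216), U.f (of 219)] ∧
        h * (B.L0.ρ σ * w) * h⁻¹ = r := fun a c hac => by
    refine plain hε (hPE a c) ?_
    rw [B.E_move hs2 a c hvE, hac, hεv, B.E32_comm hεE (B.pr_mem i j), ← mul_assoc (B.pr i j), B.pr_sq,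
      one_mul]
  have move' : ∀ a c : Fin 6, B.pr (s a) (s c) * B.pr a c = U.f (of 3) * B.pr i j →
      ∃ h ∈ B.HH, ∃ r, r ∈ [U.f (of 18), U.f (of 21), U.f (of 18) * B.pr 4 5,
        U.f (of 3) * (U.f (of 18) * B.pr 4 5), U.f (of 126), U.f (of 129), U.f (of 216), U.f (of 219)] ∧
        h * (B.L0.ρ σ * w) * h⁻¹ = r := fun a c hac => by
    refine plain hεα (hPE a c) ?_
    rw [B.E_move hs2 a c hvE, hac, hεv, B.E32_comm hεE (B.pr_mem i j), mul_assoc (U.f (of 3)),
      ← mul_assoc (B.pr i j), B.pr_sq, one_mul]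
  have sym : ∀ {p q : Fin 6}, (i = p ∧ j = q ∨ i = q ∧ j = p) → B.pr i j = B.pr p q := by
    rintro p q (⟨rfl, rfl⟩ | ⟨rfl, rfl⟩)
    · rfl
    · exact B.pr_symm _ _
  rcases hτ with e | e | e
  · rw [e] at hfx
    rcases fixed_sU i j hne hfx with h | ⟨π, hπ, hpq⟩
    · refine move 1 0 ?_
      rw [e, show sU 1 = 2 by decide, show sU 0 = 0 by decide, B.pr_symm 1 0, B.pr_trans, sym h, B.pr_symm]
    · refine fin (B.L0_mem π) (r := B.L0.ρ sU * (ε * B.pr 4 5)) ?_ ?_
      · have h45 : B.pr (π i) (π j) = B.pr 4 5 := by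
          rcases hpq with ⟨a, b⟩ | ⟨a, b⟩ <;> rw [a, b]
          exact B.pr_symm _ _
        rw [hεv, ← h45, ← B.pr_conj, e,
          show B.L0.ρ π * (B.L0.ρ sU * (ε * B.pr i j)) * (B.L0.ρ π)⁻¹ =
            B.L0.ρ π * B.L0.ρ sU * (B.L0.ρ π)⁻¹ * (B.L0.ρ π * ε * (B.L0.ρ π)⁻¹ *
              (B.L0.ρ π * B.pr i j * (B.L0.ρ π)⁻¹)) by group,
          ← (hεc π).eq, mul_inv_cancel_right, ← map_inv, ← map_mul, ← map_mul, hπ, mul_inv_cancel_right]
      · have e' : B.L0.ρ sU * (ε * B.pr 4 5) = ε * (U.f (of 18) * B.pr 4 5) := by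
          rw [e18, ← mul_assoc, ← mul_assoc ε]
          have hc := hεc sU
          rw [e18] at hc
          rw [hc.eq]
        rw [e']
        rcases hε with rfl | rfl <;> simp
  · rw [e] at hfx
    rcases fixed_sUV i j hne hfx with h | h | h
    · refine move 1 0 ?_
      rw [e, show (sU * sV) 1 = 2 by decide, show (sU * sV) 0 = 0 by decide, B.pr_symm 1 0, B.pr_trans,
        sym h, B.pr_symm]
    · refine move 4 0 ?_
      rw [e, show (sU * sV) 4 = 5 by decide, show (sU * sV) 0 = 0 by decide, B.pr_symm 4 0, B.pr_trans,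
        sym h, B.pr_symm]
    · refine move' 1 4 ?_
      rw [e, show (sU * sV) 1 = 2 by decide, show (sU * sV) 4 = 5 by decide, sym h,
        ← B.hole (a := 1) (b := 2) (c := 4) (d := 5) (e := 0) (f := 3) (by decide) (by decide) (by decide)
          (by decide) (by decide) (by decide) (by decide) (by decide) (by decide) (by decide) (by decide)
          (by decide) (by decide) (by decide) (by decide), mul_assoc (B.pr 1 2 * B.pr 4 5), B.pr_sq,
        mul_one, ← B.pr_trans 2 1 5, ← B.pr_trans 1 4 5, B.pr_symm 2 1, B.pr_comm 1 4 4 5, mul_assoc,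
        mul_assoc, B.pr_sq, mul_one]
  · rw [e] at hfx
    rcases fixed_sW i j hne hfx with h | h | h
    · refine move' 1 2 ?_
      rw [e, show sW 1 = 4 by decide, show sW 2 = 5 by decide, sym h,
        ← B.hole (a := 4) (b := 5) (c := 1) (d := 2) (e := 0) (f := 3) (by decide) (by decide) (by decide)
          (by decide) (by decide) (by decide) (by decide) (by decide) (by decide) (by decide) (by decide)
          (by decide) (by decide) (by decide) (by decide), mul_assoc (B.pr 4 5 * B.pr 1 2), B.pr_sq, mul_one]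
    · refine move' 0 2 ?_
      rw [e, show sW 0 = 3 by decide, show sW 2 = 5 by decide, sym h,
        ← B.hole (a := 3) (b := 5) (c := 0) (d := 2) (e := 1) (f := 4) (by decide) (by decide) (by decide)
          (by decide) (by decide) (by decide) (by decide) (by decide) (by decide) (by decide) (by decide)
          (by decide) (by decide) (by decide) (by decide), mul_assoc (B.pr 3 5 * B.pr 0 2), B.pr_sq, mul_one]
    · refine move' 0 1 ?_
      rw [e, show sW 0 = 3 by decide, show sW 1 = 4 by decide, sym h,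
        ← B.hole (a := 3) (b := 4) (c := 0) (d := 1) (e := 2) (f := 5) (by decide) (by decide) (by decide)
          (by decide) (by decide) (by decide) (by decide) (by decide) (by decide) (by decide) (by decide)
          (by decide) (by decide) (by decide) (by decide), mul_assoc (B.pr 3 4 * B.pr 0 1), B.pr_sq, mul_one]

/-! ### Types of the representatives -/

theorem class_facts :
    U.Only (U.f (of 18)) [1, 2] ∧ U.Only (U.f (of 3)) [1, 2] ∧ U.Has (U.f (of 18)) 2 ∧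
    U.Has (U.f (of 3)) 1 ∧ U.Only (U.f (of 21)) [1] ∧
    U.Only (U.f (of 18) * B.pr 4 5) [2] ∧ U.Only (U.f (of 3) * (U.f (of 18) * B.pr 4 5)) [2] ∧
    U.Only (U.f (of 126)) [1] ∧ U.Only (U.f (of 129)) [2] ∧ U.Has (U.f (of 216)) 3 ∧
    U.Only (U.f (of 219)) [2] ∧ U.Has (U.f (of 219)) 2 := by
  have hc := class_codes
  simp only [List.all_cons, List.all_nil, Bool.and_true, Bool.and_eq_true] at hc
  obtain ⟨c1, c2, c3, c4, c5, c6⟩ := hc
  have h3 : U.Only (U.f (of 3)) [1, 2] := by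
    have h := U.conj_f B.h8 (m := 864) (by norm_num) (by norm_num) (by norm_num) c2
    have h' := Coord.Only.conj U (U.only_flip B.h8) (U.f (of 864))⁻¹
    rw [← h] at h'
    simpa [mul_assoc] using h'
  have only_c : ∀ {m p q : ℕ} {W : List ℕ}, m < 1296 → p < 1296 → q < 1296 →
      Nat.beq (mulM (mulM m p) (invM m)) q = true → U.Only (U.f (of p)) W → U.Only (U.f (of q)) W := by
    intro m p q W hm hp hq h ho
    rw [← U.conj_f B.h8 hm hp hq h]; exact Coord.Only.conj U ho _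
  have n21 : U.Only (U.f (of 21)) [1] := U.only_double_of B.h8 (Or.inr ⟨B⟩)
  have h1098 := only_c (by norm_num) (by norm_num) (by norm_num) c6 (U.only_two B.h8)
  refine ⟨only_c (by norm_num) (by norm_num) (by norm_num) c1 h3, h3, ?_, ?_, n21, ?_, ?_,
    only_c (by norm_num) (by norm_num) (by norm_num) c3 n21, U.only_neg B.h8, ?_,
    only_c (by norm_num) (by norm_num) (by norm_num) c5 (U.only_two B.h8), ?_⟩
  · have h := U.has_code B.h8 (m := 18) (v := 10) (by norm_num) (by norm_num) (by norm_num) (by decide +kernel)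
    rwa [show wtV 10 = 2 by decide +kernel] at h
  · have h := U.has_code B.h8 (m := 3) (v := 3) (by norm_num) (by norm_num) (by norm_num) (by decide +kernel)
    rwa [show wtV 3 = 1 by decide +kernel] at h
  · obtain ⟨γ, hγ⟩ := b_conj
    have e : B.L1.ρ γ * (U.f (of 18) * B.pr 4 5) * (B.L1.ρ γ)⁻¹ = U.f (of 129) := by
      rw [B.pr_four_five, ← mul_assoc, ← B.flip_one γ, mul_assoc (U.f (of 18)), mul_assoc (U.f (of 18)),
        ← map_inv, ← map_mul, ← map_mul, hγ, map_mul, B.vals1.2.2.1, B.vals1.2.2.2.1,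
        ← U.f_mul (U.top8 B.h8 _) (U.top8 B.h8 _), ← U.f_mul (U.top8 B.h8 _) (U.top8 B.h8 _)]
      exact congrArg _ (by decide +kernel)
    have h := Coord.Only.conj U (U.only_neg B.h8) (B.L1.ρ γ)⁻¹
    rw [← e] at h
    simpa [mul_assoc] using h
  · obtain ⟨γ, hγ⟩ := ab_conj
    have e : B.L1.ρ γ * (U.f (of 3) * (U.f (of 18) * B.pr 4 5)) * (B.L1.ρ γ)⁻¹ = U.f (of 1098) := by
      rw [B.pr_four_five, B.alpha_eq, ← mul_assoc (B.L1.ρ sV), ← B.flip_one sV, mul_assoc (U.f (of 18)),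
        ← map_mul, ← mul_assoc (B.L1.ρ γ), ← B.flip_one γ, mul_assoc (U.f (of 18)), mul_assoc (U.f (of 18)),
        ← map_inv, ← map_mul, ← map_mul, hγ, B.vals1.2.2.2.2, ← U.f_mul (U.top8 B.h8 _) (U.top8 B.h8 _)]
      exact congrArg _ (by decide +kernel)
    have h := Coord.Only.conj U h1098 (B.L1.ρ γ)⁻¹
    rw [← e] at h
    simpa [mul_assoc] using h
  · rw [← U.conj_f B.h8 (by norm_num) (by norm_num) (by norm_num) c4]
    exact B.has_tq.conj U _
  · have h := U.has_code B.h8 (m := 219) (v := 12) (by norm_num) (by norm_num) (by norm_num) (by decide +kernel)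
    rwa [wt_w2.1] at h

/-- The conjugates of the fixed involution. -/
theorem alpha_form {x : G} (hx : x ∈ B.HH) {g : G} (h : g * U.f (of 3) * g⁻¹ = x) :
    x = U.f (of 3) ∨ ∃ a b : Fin 6, a ≠ b ∧
      (x = B.L0.ρ (Equiv.swap a b) ∨ x = B.L0.ρ (Equiv.swap a b) * B.pr a b) := by
  obtain ⟨o18, o3, h18, h3, o21, oB, oAB, o126, o129, h216, o219, h219⟩ := B.class_facts
  have hOx : U.Only x [1, 2] := h ▸ Coord.Only.conj U o3 g
  have hx1 : U.Has x 1 := h ▸ h3.conj U g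
  have hx2 : U.Has x 2 := h ▸ B.has_alpha.conj U g
  obtain ⟨σ, w, hw, rfl⟩ := B.HH_dec hx
  rcases eq_or_ne σ 1 with rfl | hσ
  · rw [map_one, one_mul] at hOx hx1 hx2 h ⊢
    obtain ⟨i, j, e | e⟩ := B.E32_cases hw
    · rcases eq_or_ne i j with rfl | hne
      · exfalso
        rw [B.pr_self] at e
        rw [e] at hOx
        have := hOx 13 (by norm_num) (by norm_num) 1 (by simp)
        rw [show wtV 13 = 3 by decide +kernel] at this
        simp at this
      · exact absurd (U.not_conj_of (B.pr_only hne) hx2 (by simp) 1) (by simp [e])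
    · rcases eq_or_ne i j with rfl | hne
      · exact Or.inl (by rw [e, B.pr_self, mul_one])
      · exact absurd (U.not_conj_of hOx (B.has_alpha_pr hne) (by simp) 1) (by simp [e])
  have hd : B.L0.ρ σ * w * (B.L0.ρ σ * w) = 1 := by
    rw [← h, conj_mul, B.alpha_sq, mul_one, mul_inv_cancel]
  obtain ⟨k, hk, r, hr, e⟩ := B.invol_class hw hd hσ
  have hr18 : r = U.f (of 18) := by
    have hrO : U.Only r [1, 2] := e ▸ Coord.Only.conj U hOx k
    have hr1 : U.Has r 1 := e ▸ hx1.conj U k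
    have hr2 : U.Has r 2 := e ▸ hx2.conj U k
    have no1 : U.Only r [1] → False := fun ho => U.not_conj_of ho hr2 (by simp) 1 (by simp)
    have no2 : U.Only r [2] → False := fun ho => U.not_conj_of ho hr1 (by simp) 1 (by simp)
    simp only [List.mem_cons, List.not_mem_nil, or_false] at hr
    rcases hr with rfl | rfl | rfl | rfl | rfl | rfl | rfl | rfl
    · rfl
    · exact (no1 o21).elim
    · exact (no2 oB).elim
    · exact (no2 oAB).elim
    · exact (no1 o126).elim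
    · exact (no2 o129).elim
    · exact (U.not_conj_of hrO h216 (by simp) 1 (by simp)).elim
    · exact (no2 o219).elim
  right
  obtain ⟨τ, v, hv, rfl⟩ := B.HH_dec hk
  set x := B.L0.ρ σ * w with hx'
  set s := τ⁻¹ * sU * τ with hs
  have hxe : x = v⁻¹ * B.L0.ρ s * v := by
    rw [hr18, ← B.elem_eqs.1] at e
    calc x = (B.L0.ρ τ * v)⁻¹ * (B.L0.ρ τ * v * x * (B.L0.ρ τ * v)⁻¹) * (B.L0.ρ τ * v) := by group
      _ = _ := by rw [e, hs, map_mul, map_mul, map_inv]; group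
  refine ⟨τ⁻¹ 1, τ⁻¹ 2, τ⁻¹.injective.ne (by decide), ?_⟩
  have hswap : s = Equiv.swap (τ⁻¹ 1) (τ⁻¹ 2) := conj_sU τ
  set a := τ⁻¹ 1
  set b := τ⁻¹ 2
  have hs2 : s * s = 1 := by rw [hswap, Equiv.swap_mul_self]
  obtain ⟨i, j, hij⟩ := B.E32_cases hv
  have hmove : x = B.L0.ρ s * (B.pr (s i) i * B.pr (s j) j) := by
    rw [hxe, ← B.pr_move]
    have hpi : (B.pr i j)⁻¹ = B.pr i j := inv_eq_of_mul_eq_one_right (B.pr_sq i j)
    have h0 := B.E_move hs2 i j (one_mem B.E32)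
    rw [mul_one, mul_one, hpi] at h0
    rcases hij with rfl | rfl
    · rw [hpi]; exact h0
    · rw [mul_inv_rev, hpi, inv_eq_of_mul_eq_one_right B.alpha_sq]
      have c : Commute (U.f (of 3)) (B.L0.ρ s) := B.alpha_comm s
      calc B.pr i j * U.f (of 3) * B.L0.ρ s * (U.f (of 3) * B.pr i j)
          = B.pr i j * (U.f (of 3) * B.L0.ρ s * U.f (of 3)) * B.pr i j := by group
        _ = B.pr i j * B.L0.ρ s * B.pr i j := by rw [c.eq, mul_assoc (B.L0.ρ s), B.alpha_sq, mul_one]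
        _ = _ := h0
  have key : ∀ p : Fin 6, B.pr (s p) p = 1 ∨ B.pr (s p) p = B.pr a b := by
    intro p
    rw [hswap]
    rcases eq_or_ne p a with rfl | hpa
    · rw [Equiv.swap_apply_left]; exact Or.inr (B.pr_symm _ _)
    rcases eq_or_ne p b with rfl | hpb
    · rw [Equiv.swap_apply_right]; exact Or.inr rfl
    · rw [Equiv.swap_apply_of_ne_of_ne hpa hpb]; exact Or.inl (B.pr_self p)
  rw [← hswap, hmove]
  rcases key i with e1 | e1 <;> rcases key j with e2 | e2 <;> rw [e1, e2]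
  · exact Or.inl (by rw [one_mul, mul_one])
  · exact Or.inr (by rw [one_mul])
  · exact Or.inr (by rw [mul_one])
  · exact Or.inl (by rw [B.pr_sq, mul_one])

/-- The criterion for the involutions attached to pairs. -/
theorem pair_crit {x : G} (hx : x ∈ B.HH) (hx2 : x * x = 1) (hO : U.Only x [1])
    (hA : U.Has (U.f (of 3) * x) 3) : ∃ i j : Fin 6, i ≠ j ∧ x = B.pr i j := by
  obtain ⟨o18, o3, h18, h3, o21, oB, oAB, o126, o129, h216, o219, h219⟩ := B.class_facts
  obtain ⟨σ, w, hw, rfl⟩ := B.HH_dec hx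
  rcases eq_or_ne σ 1 with rfl | hσ
  · rw [map_one, one_mul] at hO hA ⊢
    obtain ⟨i, j, e | e⟩ := B.E32_cases hw
    · rcases eq_or_ne i j with rfl | hne
      · exfalso
        rw [B.pr_self] at e
        rw [e] at hO
        have := hO 13 (by norm_num) (by norm_num) 1 (by simp)
        rw [show wtV 13 = 3 by decide +kernel] at this
        simp at this
      · exact ⟨i, j, hne, e⟩
    · exfalso
      rcases eq_or_ne i j with rfl | hne
      · rw [B.pr_self, mul_one] at e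
        exact U.not_conj_of hO B.has_alpha (by simp) 1 (by simp [e])
      · exact U.not_conj_of hO (B.has_alpha_pr hne) (by simp) 1 (by simp [e])
  exfalso
  obtain ⟨k, hk, r, hr, e⟩ := B.invol_class hw hx2 hσ
  have hrO : U.Only r [1] := e ▸ Coord.Only.conj U hO k
  have hrA : U.Has (U.f (of 3) * r) 3 := by
    have := hA.conj U k
    rw [← conj_mul, B.HH_comm hk, mul_inv_cancel_right, e] at this
    exact this
  have hαα : ∀ z : G, U.f (of 3) * (U.f (of 3) * z) = z := fun z => by rw [← mul_assoc, B.alpha_sq, one_mul]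
  obtain ⟨-, e21, -, e129, -, e219⟩ := B.elem_eqs
  have noA : ∀ {z : G} {W : List ℕ}, U.f (of 3) * r = z → U.Only z W → 3 ∉ W → False := fun hz ho hW =>
    U.not_conj_of ho hrA hW 1 (by simp [hz])
  simp only [List.mem_cons, List.not_mem_nil, or_false] at hr
  rcases hr with rfl | rfl | rfl | rfl | rfl | rfl | rfl | rfl
  · exact U.not_conj_of hrO h18 (by simp) 1 (by simp)
  · exact noA (by rw [← e21, hαα]) o18 (by simp)
  · exact noA rfl oAB (by simp)
  · exact noA (hαα _) oB (by simp)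
  · exact noA e129 o129 (by simp)
  · exact noA (by rw [← e129, hαα]) o126 (by simp)
  · exact U.not_conj_of hrO h216 (by simp) 1 (by simp)
  · exact U.not_conj_of hrO h219 (by simp) 1 (by simp)

end Big

end CfsgLib.PSpFourThree
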