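import Cfsg.Agent.Lib.Coprime.Generation
import Cfsg.Agent.Lib.SL2.PSL
import Cfsg.Agent.S3331
import Mathlib

/-!
A group with a central two-subgroup over which an element of order three is self-centralizing and
inverted, acted on by a group of order nine whose elements centralize no element of order five or
seven: the three-complement has index six.
-/

set_option autoImplicit false
set_option linter.style.haveILetI false
set_option linter.unusedSectionVars false

namespace CfsgLib.PSpFourThree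

universe u

variable {G : Type u} [Group G] [Finite G]

/-- The hypotheses. -/
structure CoreHyp (D H W : Subgroup G) (e m : G) : Prop where
  H_le : H ≤ D
  H_two : IsPGroup 2 H
  H_cen : ∀ h ∈ H, ∀ d ∈ D, h * d = d * h
  e_ord : orderOf e = 3
  e_mem : e ∈ D
  m_mem : m ∈ D
  inv : m * e * m⁻¹ = e⁻¹
  sc : ∀ g ∈ D, g * e = e * g → ∃ h ∈ H, ∃ i : ℕ, g = h * e ^ i
  W_card : Nat.card W = 9
  W_comm : ∀ a ∈ W, ∀ b ∈ W, a * b = b * a
  W_exp : ∀ a ∈ W, a ^ 3 = 1
  W_D : W ≤ Subgroup.normalizer (D : Set G)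
  W_H : W ≤ Subgroup.normalizer (H : Set G)
  free : ∀ y ∈ W, y ≠ 1 → ∀ x ∈ D, x * y = y * x → orderOf x ≠ 5 ∧ orderOf x ≠ 7

/-- The conclusion. -/
structure Core (D H W : Subgroup G) (e m : G) (N : Subgroup G) : Prop where
  H_le : H ≤ N
  le : N ≤ D
  coprime : (Nat.card N).Coprime 3
  nilp : Group.IsNilpotent N
  normal : ∀ d ∈ D, ∀ n ∈ N, d * n * d⁻¹ ∈ N
  inv_W : W ≤ Subgroup.normalizer (N : Set G)
  dec : ∀ g ∈ D, ∃ i j : ℕ, ∃ n ∈ N, i < 3 ∧ j < 2 ∧ g = n * e ^ i * m ^ j
  e_not : ∀ i : ℕ, i < 3 → e ^ i ∈ N → i = 0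
  max : ∀ R : Subgroup G, R ≤ D → (Nat.card R).Coprime 3 → (∀ d ∈ D, ∀ r ∈ R, d * r * d⁻¹ ∈ R) → R ≤ N

theorem exp_three_five : ∀ k : Fin 5, ((k : ℕ) * k * k) % 5 = 1 → (k : ℕ) = 1 := by decide

theorem exp_three_seven : ∀ k : Fin 7, ((k : ℕ) * k * k) % 7 = 1 → (k : ℕ) = 1 ∨ (k : ℕ) = 2 ∨ (k : ℕ) = 4 := by
  decide

/-- A cyclic group of order five or seven acted on by a group of order nine. -/
theorem exists_cent_of_cyclic {q : ℕ} [Fact q.Prime] (hq : q = 5 ∨ q = 7) {S : Subgroup G}
    (hS1 : S ≠ ⊥) (hSexp : ∀ s ∈ S, s ^ 3 = 1) (h7 : q = 7 → 3 < Nat.card S)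
    {x : G} (hx : orderOf x = q) (hn : ∀ s ∈ S, s * x * s⁻¹ ∈ Subgroup.zpowers x) :
    ∃ y ∈ S, y ≠ 1 ∧ x * y = y * x := by
  classical
  have key : ∀ s ∈ S, ∃ k : ℕ, k < q ∧ s * x * s⁻¹ = x ^ k ∧ (k * k * k) % q = 1 := by
    intro s hs
    have h := hn s hs
    rw [← mem_powers_iff_mem_zpowers, Submonoid.mem_powers_iff] at h
    obtain ⟨k₀, hk₀⟩ := h
    rw [pow_eq_pow_mod k₀ (show x ^ q = 1 by rw [← hx]; exact pow_orderOf_eq_one x)] at hk₀
    refine ⟨k₀ % q, Nat.mod_lt _ (Fact.out : q.Prime).pos, hk₀.symm, ?_⟩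
    set k := k₀ % q
    have e3 : s * (s * (s * x * s⁻¹) * s⁻¹) * s⁻¹ = x ^ (k * k * k) := by
      rw [← hk₀, ← conj_pow, ← hk₀, ← pow_mul, ← conj_pow, ← hk₀, ← pow_mul, ← mul_assoc]
    have e1 : s * (s * (s * x * s⁻¹) * s⁻¹) * s⁻¹ = x := by
      calc _ = s ^ 3 * x * (s ^ 3)⁻¹ := by rw [pow_succ, pow_two]; group
        _ = x := by rw [hSexp s hs]; simp
    rw [e1] at e3
    have h1 : x ^ (k * k * k) = x ^ 1 := by rw [pow_one]; exact e3.symm
    rw [pow_inj_mod, hx, Nat.mod_eq_of_lt (Fact.out : q.Prime).one_lt] at h1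
    exact h1
  choose k hkq hk hk3 using key
  obtain ⟨s, hs, hs1⟩ := (Subgroup.nontrivial_iff_exists_ne_one S).mp
    ((Subgroup.nontrivial_iff_ne_bot S).mpr hS1)
  rcases hq with rfl | rfl
  · refine ⟨s, hs, hs1, ?_⟩
    have h := hk s hs
    have h5 : k s hs = 1 := exp_three_five ⟨k s hs, hkq s hs⟩ (hk3 s hs)
    rw [h5, pow_one] at h
    exact (mul_inv_eq_iff_eq_mul.mp h).symm
  · haveI : Fintype S := Fintype.ofFinite S
    have hmaps : ∀ t ∈ (Finset.univ : Finset S), k t t.2 ∈ ({1, 2, 4} : Finset ℕ) := fun t _ => by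
      rcases exp_three_seven ⟨k t t.2, hkq t t.2⟩ (hk3 t t.2) with h | h | h <;>
        simp only at h <;> simp [h]
    obtain ⟨p, -, r, -, hne, hpr⟩ := Finset.exists_ne_map_eq_of_card_lt_of_maps_to
      (s := (Finset.univ : Finset S)) (t := ({1, 2, 4} : Finset ℕ)) (f := fun t : S => k t t.2)
      (by
        rw [Finset.card_univ, ← Nat.card_eq_fintype_card]
        exact lt_of_le_of_lt Finset.card_le_three (h7 rfl)) hmaps
    refine ⟨(r : G)⁻¹ * p, mul_mem (inv_mem r.2) p.2, fun e => hne (Subtype.ext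
      (inv_mul_eq_one.mp e).symm), ?_⟩
    have e : (p : G) * x * (p : G)⁻¹ = (r : G) * x * (r : G)⁻¹ :=
      (hk p p.2).trans ((congrArg (x ^ ·) hpr).trans (hk r r.2).symm)
    calc x * ((r : G)⁻¹ * p) = (r : G)⁻¹ * ((r : G) * x * (r : G)⁻¹) * p := by group
      _ = (r : G)⁻¹ * ((p : G) * x * (p : G)⁻¹) * p := by rw [e]
      _ = _ := by group

/-- No section of order 60 or 168 over the kernel. -/
theorem no_quot {q : ℕ} [Fact q.Prime] (hq : q = 5 ∨ q = 7) {D P W : Subgroup G} (hPD : P ≤ D)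
    (hP : (Nat.card P).Coprime 3) (hPn : ∀ d ∈ D, ∀ p ∈ P, d * p * d⁻¹ ∈ P)
    (hcard : Nat.card D = Nat.card P * (if q = 5 then 60 else 168))
    (hW : Nat.card W = 9) (hWc : ∀ a ∈ W, ∀ b ∈ W, a * b = b * a) (hWe : ∀ a ∈ W, a ^ 3 = 1)
    (hWD : W ≤ Subgroup.normalizer (D : Set G)) (hWP : W ≤ Subgroup.normalizer (P : Set G))
    (hfree : ∀ y ∈ W, y ≠ 1 → ∀ x ∈ D, x * y = y * x → orderOf x ≠ q) : False := by
  classical
  haveI : Fact (Nat.Prime 3) := ⟨Nat.prime_three⟩
  haveI hWc' : IsMulCommutative W := ⟨⟨fun a b => Subtype.ext (hWc a a.2 b b.2)⟩⟩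
  have hWsol : Group.IsSolvable W := CfsgLib.Coprime.isSolvable_of_isMulCommutative W
  have hWnc : ¬ IsCyclic W := CfsgLib.Coprime.not_isCyclic_of_exponent hWe (by norm_num) (by omega)
  have hWp : IsPGroup 3 W := IsPGroup.of_card (n := 2) (by rw [hW]; norm_num)
  -- the kernel has no element of order `q`
  have hqP : ¬ q ∣ Nat.card P := by
    intro hd
    have hcop : (Nat.card W).Coprime (Nat.card P) := by
      rw [hW, show (9 : ℕ) = 3 ^ 2 by norm_num]; exact (hP.symm).pow_left 2
    obtain ⟨R, hR⟩ := CfsgLib.Coprime.exists_invariant_sylow hWP hcop (Or.inl hWsol) q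
    set R' := (R : Subgroup P).map P.subtype
    have hR'P : R' ≤ P := Subgroup.map_subtype_le _
    have h1 : R' ≤ ⊥ := CfsgLib.Coprime.le_of_centralizer_le hWnc hR
      (hcop.coprime_dvd_right (Subgroup.card_dvd_of_le hR'P)) fun y hy hy1 => by
        rintro r ⟨hr, hrc⟩
        rw [Subgroup.mem_bot]
        by_contra hr1
        obtain ⟨n, hn⟩ := R.isPGroup'.map P.subtype ⟨r, hr⟩
        have hn' : r ^ q ^ n = 1 := congrArg Subtype.val hn
        obtain ⟨j, -, hj⟩ := (Nat.dvd_prime_pow (Fact.out : q.Prime)).mp (orderOf_dvd_of_pow_eq_one hn')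
        rcases j with _ | j
        · exact hr1 (orderOf_eq_one_iff.mp (by simpa using hj))
        refine hfree y hy hy1 (r ^ q ^ j) (pow_mem (hPD (hR'P hr)) _)
          ((show Commute r y from Subgroup.mem_centralizer_singleton_iff.mp hrc).pow_left _).eq ?_
        rw [orderOf_pow' _ (pow_ne_zero _ (Fact.out : q.Prime).pos.ne'), hj,
          Nat.gcd_eq_right (pow_dvd_pow q (by omega)), Nat.pow_div (by omega) (Fact.out : q.Prime).pos]
        simp
    have h2 : q ∣ Nat.card R' := by
      rw [Subgroup.card_map_of_injective P.subtype_injective, R.card_eq_multiplicity]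
      exact dvd_pow_self q ((Fact.out : q.Prime).factorization_pos_of_dvd Nat.card_pos.ne' hd).ne'
    rw [le_bot_iff.mp h1, Subgroup.card_bot] at h2
    exact (Fact.out : q.Prime).not_dvd_one h2
  -- the quotient
  haveI : (P.subgroupOf D).Normal := ⟨fun n hn d => hPn d d.2 n hn⟩
  let π := QuotientGroup.mk' (P.subgroupOf D)
  have hπ : Function.Surjective π := QuotientGroup.mk'_surjective _
  set m := if q = 5 then 60 else 168
  have hQ : Nat.card (D ⧸ P.subgroupOf D) = m := by
    have h := Subgroup.card_eq_card_quotient_mul_card_subgroup (P.subgroupOf D)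
    rw [Nat.card_congr (Subgroup.subgroupOfEquivOfLe hPD).toEquiv, hcard, mul_comm] at h
    exact (Nat.eq_of_mul_eq_mul_right Nat.card_pos h).symm
  have hfq : (Nat.card (D ⧸ P.subgroupOf D)).factorization q = 1 := by
    rw [hQ]
    rcases hq with rfl | rfl
    · rw [show m = 5 ^ 1 * 12 from rfl, Nat.factorization_mul (by norm_num) (by norm_num),
        Nat.factorization_pow, Nat.Prime.factorization (by norm_num : Nat.Prime 5)]
      simp [Nat.factorization_eq_zero_of_not_dvd (show ¬ 5 ∣ 12 by norm_num)]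
    · rw [show m = 7 ^ 1 * 24 from rfl, Nat.factorization_mul (by norm_num) (by norm_num),
        Nat.factorization_pow, Nat.Prime.factorization (by norm_num : Nat.Prime 7)]
      simp [Nat.factorization_eq_zero_of_not_dvd (show ¬ 7 ∣ 24 by norm_num)]
  let 𝔽 := {F : Subgroup G // P ≤ F ∧ F ≤ D ∧ Nat.card F = Nat.card P * q}
  let toF : Sylow q (D ⧸ P.subgroupOf D) → 𝔽 := fun S =>
    ⟨((S : Subgroup _).comap π).map D.subtype, fun p hp => ⟨⟨p, hPD hp⟩, by
        show π ⟨p, hPD hp⟩ ∈ (S : Subgroup _)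
        rw [show π ⟨p, hPD hp⟩ = 1 from (QuotientGroup.eq_one_iff _).mpr hp]; exact one_mem _, rfl⟩,
      Subgroup.map_subtype_le _, by
        have h1 := ((S : Subgroup _).comap π).card_mul_index
        rw [Subgroup.index_comap_of_surjective _ hπ] at h1
        have h2 := (S : Subgroup (D ⧸ P.subgroupOf D)).card_mul_index
        rw [S.card_eq_multiplicity, hfq, pow_one, hQ] at h2
        rw [Subgroup.card_map_of_injective D.subtype_injective]
        have hi : (S : Subgroup (D ⧸ P.subgroupOf D)).index ≠ 0 := Subgroup.index_ne_zero_of_finite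
        refine Nat.eq_of_mul_eq_mul_right (Nat.pos_of_ne_zero hi) ?_
        rw [h1, hcard, mul_assoc, h2]⟩
  have htoF : Function.Bijective toF := by
    constructor
    · intro S T h
      have h1 := congrArg Subtype.val h
      exact Sylow.ext (Subgroup.comap_injective hπ (Subgroup.map_injective D.subtype_injective h1))
    · rintro ⟨F, hPF, hFD, hF⟩
      have hker : π.ker ≤ F.subgroupOf D := by rw [QuotientGroup.ker_mk']; exact fun p hp => hPF hp
      have hc : ((F.subgroupOf D).map π).comap π = F.subgroupOf D := Subgroup.comap_map_eq_self hker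
      refine ⟨Sylow.ofCard ((F.subgroupOf D).map π) ?_, Subtype.ext ?_⟩
      · rw [hfq, pow_one]
        have h1 := ((F.subgroupOf D).map π).card_mul_index
        rw [← Subgroup.index_comap_of_surjective _ hπ, hc, hQ] at h1
        have h2 := (F.subgroupOf D).card_mul_index
        rw [Nat.card_congr (Subgroup.subgroupOfEquivOfLe hFD).toEquiv, hF, hcard, ← h1] at h2
        have hi : (F.subgroupOf D).index ≠ 0 := Subgroup.index_ne_zero_of_finite
        have h3 : Nat.card P * q = Nat.card P * Nat.card ((F.subgroupOf D).map π) :=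
          Nat.eq_of_mul_eq_mul_right (Nat.pos_of_ne_zero hi) (by rw [h2, mul_assoc])
        exact (Nat.eq_of_mul_eq_mul_left Nat.card_pos h3).symm
      · show (((F.subgroupOf D).map π).comap π).map D.subtype = F
        rw [hc, Subgroup.map_subgroupOf_eq_of_le hFD]
  have hn : Nat.card 𝔽 ∈ ({1, 6, 8} : Finset ℕ) ∧ (q = 7 → ¬ 3 ∣ Nat.card 𝔽) := by
    rw [← Nat.card_congr (Equiv.ofBijective toF htoF)]
    have hd := Sylow.card_dvd_index (Classical.arbitrary (Sylow q (D ⧸ P.subgroupOf D)))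
    have hmod := card_sylow_modEq_one q (D ⧸ P.subgroupOf D)
    set S := Classical.arbitrary (Sylow q (D ⧸ P.subgroupOf D))
    have hi := (S : Subgroup (D ⧸ P.subgroupOf D)).card_mul_index
    rw [S.card_eq_multiplicity, hfq, pow_one, hQ] at hi
    have hle := Nat.le_of_dvd (Nat.pos_of_ne_zero Subgroup.index_ne_zero_of_finite) hd
    unfold Nat.ModEq at hmod
    rcases hq with rfl | rfl
    · have hi' : (S : Subgroup (D ⧸ P.subgroupOf D)).index = 12 := by
        have : 5 * (S : Subgroup (D ⧸ P.subgroupOf D)).index = 60 := hi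
        omega
      rw [hi'] at hd hle
      refine ⟨?_, fun h => absurd h (by norm_num)⟩
      interval_cases h : Nat.card (Sylow 5 (D ⧸ P.subgroupOf D)) <;> simp_all
    · have hi' : (S : Subgroup (D ⧸ P.subgroupOf D)).index = 24 := by
        have : 7 * (S : Subgroup (D ⧸ P.subgroupOf D)).index = 168 := hi
        omega
      rw [hi'] at hd hle
      interval_cases h : Nat.card (Sylow 7 (D ⧸ P.subgroupOf D)) <;> simp_all
  -- the action
  have hcj : ∀ (w : W) {K : Subgroup G}, W ≤ Subgroup.normalizer (K : Set G) →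
      K.map (MulAut.conj (w : G)).toMonoidHom = K := fun w K hK =>
    Subgroup.mem_normalizer_iff_map_conj_eq.mp (hK w.2)
  letI act : MulAction W 𝔽 :=
    { smul := fun w F => ⟨F.1.map (MulAut.conj (w : G)).toMonoidHom,
        (hcj w hWP).ge.trans (Subgroup.map_mono F.2.1), (Subgroup.map_mono F.2.2.1).trans (hcj w hWD).le,
        by rw [Subgroup.card_map_of_injective (MulAut.conj (w : G)).injective]; exact F.2.2.2⟩
      one_smul := fun F => Subtype.ext (by
        show F.1.map (MulAut.conj ((1 : W) : G)).toMonoidHom = F.1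
        rw [OneMemClass.coe_one, map_one]; exact Subgroup.map_id _)
      mul_smul := fun a b F => Subtype.ext (by
        show F.1.map (MulAut.conj ((a * b : W) : G)).toMonoidHom = (F.1.map _).map _
        rw [Subgroup.map_map, Subgroup.coe_mul, map_mul]
        rfl) }
  obtain ⟨F, hst⟩ : ∃ F : 𝔽, MulAction.stabilizer W F ≠ ⊥ ∧ (q = 7 → MulAction.stabilizer W F = ⊤) := by
    obtain ⟨hn1, hn2⟩ := hn
    haveI : Finite 𝔽 := Nat.finite_of_card_ne_zero (by
      intro h; rw [h] at hn1; simp at hn1)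
    rcases hq with rfl | rfl
    · obtain ⟨F⟩ : Nonempty 𝔽 := (Nat.card_pos_iff.mp (by
        rcases Nat.eq_zero_or_pos (Nat.card 𝔽) with h | h
        · rw [h] at hn1; simp at hn1
        · exact h)).1
      refine ⟨F, fun hb => ?_, fun h => absurd h (by norm_num)⟩
      have h := MulAction.index_stabilizer W F
      rw [hb, Subgroup.index_bot, hW] at h
      have h9 : (MulAction.orbit W F).ncard ≤ Nat.card 𝔽 := by
        rw [← Set.ncard_univ]; exact Set.ncard_le_ncard (Set.subset_univ _) (Set.toFinite _)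
      simp at hn1
      omega
    · obtain ⟨F, hF⟩ := hWp.nonempty_fixed_point_of_prime_not_dvd_card 𝔽 (hn2 rfl)
      have htop : MulAction.stabilizer W F = ⊤ := eq_top_iff.mpr fun w _ => hF w
      refine ⟨F, fun hb => ?_, fun _ => htop⟩
      rw [htop] at hb
      have := congrArg (fun K : Subgroup W => Nat.card K) hb
      simp only [Subgroup.card_top, Subgroup.card_bot, hW] at this
      omega
  set S := (MulAction.stabilizer W F).map W.subtype with hS
  have hSW : S ≤ W := Subgroup.map_subtype_le _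
  have hSF : S ≤ Subgroup.normalizer (F.1 : Set G) := by
    rintro _ ⟨w, hw, rfl⟩
    exact Subgroup.mem_normalizer_iff_map_conj_eq.mpr (congrArg Subtype.val hw)
  have hcopF : (Nat.card F.1).Coprime 3 := by
    rw [F.2.2.2]
    exact Nat.Coprime.mul_left hP (by rcases hq with rfl | rfl <;> norm_num)
  have hcop : (Nat.card S).Coprime (Nat.card F.1) :=
    Nat.Coprime.coprime_dvd_left (Subgroup.card_dvd_of_le hSW) (by
      rw [hW, show (9 : ℕ) = 3 ^ 2 by norm_num]; exact hcopF.symm.pow_left 2)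
  haveI : IsMulCommutative S := ⟨⟨fun a b => Subtype.ext (hWc a (hSW a.2) b (hSW b.2))⟩⟩
  obtain ⟨R, hR⟩ := CfsgLib.Coprime.exists_invariant_sylow hSF hcop
    (Or.inl (CfsgLib.Coprime.isSolvable_of_isMulCommutative S)) q
  have hRc : Nat.card R = q := by
    rw [R.card_eq_multiplicity, F.2.2.2, Nat.factorization_mul Nat.card_pos.ne' (Fact.out : q.Prime).pos.ne',
      Finsupp.add_apply, Nat.factorization_eq_zero_of_not_dvd hqP,
      Nat.Prime.factorization_self (Fact.out : q.Prime), zero_add, pow_one]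
  haveI : IsCyclic R := isCyclic_of_prime_card hRc
  obtain ⟨x, hxg⟩ := IsCyclic.exists_zpow_surjective (G := R)
  have hxq : orderOf ((x : F.1) : G) = q := by
    rw [Subgroup.orderOf_coe, Subgroup.orderOf_coe, orderOf_eq_card_of_forall_mem_zpowers hxg, hRc]
  have hgen : (R : Subgroup F.1).map F.1.subtype = Subgroup.zpowers ((x : F.1) : G) := by
    refine (Subgroup.eq_of_le_of_card_ge ?_ ?_).symm
    · exact Subgroup.zpowers_le.mpr ⟨x, x.2, rfl⟩
    · rw [Subgroup.card_map_of_injective F.1.subtype_injective, hRc, Nat.card_zpowers, hxq]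
  obtain ⟨y, hyS, hy1, hxy⟩ := exists_cent_of_cyclic hq (S := S)
    (fun h => hst.1 ((Subgroup.map_eq_bot_iff_of_injective _ W.subtype_injective).mp h))
    (fun s hs => hWe s (hSW hs))
    (fun h => by
      rw [hS, Subgroup.card_map_of_injective W.subtype_injective, hst.2 h, Subgroup.card_top, hW]
      norm_num) hxq
    (fun s hs => hgen ▸ (Subgroup.mem_normalizer_iff.mp (hR hs) _).mp (hgen.symm ▸ Subgroup.mem_zpowers _))
  exact hfree y (hSW hyS) hy1 _ (F.2.2.1 (x : F.1).2) hxy hxq

theorem exists_core {D H W : Subgroup G} {e m : G} (h : CoreHyp D H W e m) :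
    ∃ N, Core D H W e m N := by
  classical
  haveI : Fact (Nat.Prime 3) := ⟨Nat.prime_three⟩
  haveI : Fact (Nat.Prime 2) := ⟨Nat.prime_two⟩
  set H' := H.subgroupOf D with hH'
  haveI : H'.Normal := ⟨fun n hn d => by
    have e1 : d * n * d⁻¹ = n := Subtype.ext (by
      show (d : G) * n * (d : G)⁻¹ = n
      rw [← h.H_cen n hn d d.2, mul_inv_cancel_right])
    rw [e1]; exact hn⟩
  let π := QuotientGroup.mk' H'
  have hπ : Function.Surjective π := QuotientGroup.mk'_surjective _
  have hker : π.ker = H' := QuotientGroup.ker_mk' H'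
  have hH3 : (Nat.card H).Coprime 3 := by
    obtain ⟨n, hn⟩ := h.H_two.exists_card_eq
    rw [hn]; exact Nat.Coprime.pow_left n (by norm_num)
  have htwo : ∀ z ∈ H, z ^ 3 = 1 → z = 1 := fun z hz h3 => by
    have h1 : orderOf z ∣ Nat.card H := Subgroup.orderOf_dvd_natCard H hz
    exact orderOf_eq_one_iff.mp (Nat.eq_one_of_dvd_coprimes hH3 h1 (orderOf_dvd_of_pow_eq_one h3))
  have he3 : e ^ 3 = 1 := h.e_ord ▸ pow_orderOf_eq_one e
  have he1 : e ≠ 1 := fun e1 => by have := h.e_ord; rw [e1, orderOf_one] at this; omega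
  set c := π ⟨e, h.e_mem⟩ with hc
  have hc1 : c ≠ 1 := fun e1 => he1 (htwo e ((QuotientGroup.eq_one_iff (N := H') _).mp e1) he3)
  have hc3 : c ^ 3 = 1 := by
    rw [hc, ← map_pow, show (⟨e, h.e_mem⟩ : D) ^ 3 = 1 from Subtype.ext he3, map_one]
  have hoc : orderOf c = 3 := orderOf_eq_prime hc3 hc1
  have hX : Nat.card (Subgroup.zpowers c) = 3 := by rw [Nat.card_zpowers, hoc]
  have hC : Subgroup.centralizer (Subgroup.zpowers c : Set (D ⧸ H')) = Subgroup.zpowers c := by
    refine le_antisymm (fun z hz => ?_) ?_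
    · obtain ⟨g, rfl⟩ := hπ z
      have hgc : π g * c = c * π g := (Subgroup.mem_centralizer_iff.mp hz c (Subgroup.mem_zpowers c)).symm
      have hd : (g : G) * e * (g : G)⁻¹ * e⁻¹ ∈ H := by
        have h1 : g * ⟨e, h.e_mem⟩ * g⁻¹ * (⟨e, h.e_mem⟩ : D)⁻¹ ∈ π.ker := by
          rw [MonoidHom.mem_ker, map_mul, map_mul, map_mul, map_inv, map_inv, ← hc, hgc,
            mul_inv_cancel_right, mul_inv_cancel]
        rw [hker] at h1
        exact h1
      set k := (g : G) * e * (g : G)⁻¹ * e⁻¹ with hk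
      have hge : (g : G) * e * (g : G)⁻¹ = k * e := by rw [hk]; group
      have hcm : Commute k e := h.H_cen k hd e h.e_mem
      have hk3 : k ^ 3 = 1 := by
        have h1 := congrArg (fun z => z ^ 3) hge
        simp only [conj_pow, he3, mul_one, mul_inv_cancel, hcm.mul_pow] at h1
        exact h1.symm
      rw [htwo k hd hk3, one_mul] at hge
      obtain ⟨z, hzH, i, hi⟩ := h.sc g g.2 (mul_inv_eq_iff_eq_mul.mp hge)
      refine Subgroup.mem_zpowers_iff.mpr ⟨i, ?_⟩
      rw [zpow_natCast, hc, ← map_pow, eq_comm, ← mul_inv_eq_one, ← map_inv, ← map_mul,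
        ← MonoidHom.mem_ker, hker, hH', Subgroup.mem_subgroupOf]
      show (g : G) * (e ^ i)⁻¹ ∈ H
      rw [hi, mul_inv_cancel_right]; exact hzH
    · intro z hz
      refine Subgroup.mem_centralizer_iff.mpr fun w hw => ?_
      obtain ⟨i, rfl⟩ := Subgroup.mem_zpowers_iff.mp hz
      obtain ⟨j, rfl⟩ := Subgroup.mem_zpowers_iff.mp hw
      exact ((Commute.refl c).zpow_zpow j i).eq
  have hW' : ∀ (w : G), w ∈ W → ∀ d ∈ D, w * d * w⁻¹ ∈ D := fun w hw d hd =>
    (Subgroup.mem_normalizer_iff.mp (h.W_D hw) d).mp hd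
  have hWn : ∀ (w : G), w ∈ W → ∀ d ∈ D, w⁻¹ * d * w ∈ D := fun w hw d hd => by
    simpa using hW' w⁻¹ (inv_mem hw) d hd
  have simple_case : ∀ (q : ℕ) [Fact q.Prime], (q = 5 ∨ q = 7) → ∀ (P : Subgroup G), P ≤ D →
      (Nat.card P).Coprime 3 → (∀ d ∈ D, ∀ p ∈ P, d * p * d⁻¹ ∈ P) →
      Nat.card D = Nat.card P * (if q = 5 then 60 else 168) → W ≤ Subgroup.normalizer (P : Set G) → False :=
    fun q _ hq P hPD hP3 hPn hcard hWP => no_quot hq hPD hP3 hPn hcard h.W_card h.W_comm h.W_exp h.W_D hWP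
      fun y hy hy1 x hx hxy => by
        obtain ⟨h5, h7⟩ := h.free y hy hy1 x hx hxy
        rcases hq with rfl | rfl <;> assumption
  rcases Cfsg.Agent.S3331.result (Subgroup.zpowers c) hX hC with
      ⟨N0, hN0, hnil, hcop, hind⟩ | ⟨N0, hN0, -, hsq, ⟨e5⟩⟩ | ⟨e7⟩
  · haveI := hN0
    haveI := hnil
    let ρ := (QuotientGroup.mk' N0).comp π
    have hρ : Function.Surjective ρ := (QuotientGroup.mk'_surjective N0).comp hπ
    set N := (N0.comap π).map D.subtype with hN
    have hmemN : ∀ {g : G} (hg : g ∈ D), g ∈ N ↔ ρ ⟨g, hg⟩ = 1 := by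
      intro g hg
      constructor
      · rintro ⟨d, hd, rfl⟩
        exact (QuotientGroup.eq_one_iff _).mpr hd
      · intro h1
        exact ⟨⟨g, hg⟩, (QuotientGroup.eq_one_iff (N := N0) _).mp h1, rfl⟩
    have hcardQ : Nat.card ((D ⧸ H') ⧸ N0) = 3 ∨ Nat.card ((D ⧸ H') ⧸ N0) = 6 := by
      rcases hind with h3 | ⟨⟨f⟩⟩
      · exact Or.inl h3
      · exact Or.inr (by rw [Nat.card_congr f.toEquiv, Nat.card_perm, Nat.card_fin]; rfl)
    set E := ρ ⟨e, h.e_mem⟩ with hE
    set M := ρ ⟨m, h.m_mem⟩ with hM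
    have hE3 : E ^ 3 = 1 := by
      rw [hE, ← map_pow, show (⟨e, h.e_mem⟩ : D) ^ 3 = 1 from Subtype.ext he3, map_one]
    have hE1 : E ≠ 1 := by
      intro h1
      have h2 : c ∈ N0 := (QuotientGroup.eq_one_iff _).mp h1
      exact hc1 (orderOf_eq_one_iff.mp (Nat.eq_one_of_dvd_coprimes hcop
        (Subgroup.orderOf_dvd_natCard N0 h2) (by rw [hoc])))
    have hME : M * E * M⁻¹ = E⁻¹ := by
      rw [hM, hE, ← map_mul, ← map_inv, ← map_mul, ← map_inv]
      exact congrArg ρ (Subtype.ext h.inv)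
    let φ : Fin 3 × Fin 2 → (D ⧸ H') ⧸ N0 := fun p => E ^ (p.1 : ℕ) * M ^ (p.2 : ℕ)
    have hMcomm : ∀ i : ℕ, M = E ^ i → False := fun i hi => by
      rw [hi, ← pow_succ, pow_succ', mul_inv_cancel_right] at hME
      have h2 : E * E = 1 := mul_eq_one_iff_eq_inv.mpr hME
      exact hE1 (by simpa [pow_succ, h2] using hE3)
    have hoE : orderOf E = 3 := orderOf_eq_prime hE3 hE1
    have hφ : Function.Injective φ := by
      rintro ⟨i, j⟩ ⟨i', j'⟩ heq
      have heq' : E ^ (i : ℕ) * M ^ (j : ℕ) = E ^ (i' : ℕ) * M ^ (j' : ℕ) := heq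
      have key : ∀ a b : Fin 3, E ^ (a : ℕ) = E ^ (b : ℕ) → a = b := fun a b hab => by
        rw [pow_inj_mod, hoE, Nat.mod_eq_of_lt a.isLt, Nat.mod_eq_of_lt b.isLt] at hab
        exact Fin.ext hab
      fin_cases j <;> fin_cases j' <;> simp only [pow_zero, pow_one, mul_one] at heq'
      · exact Prod.ext (key _ _ heq') rfl
      · exfalso
        refine hMcomm (2 * (i' : ℕ) + i) ?_
        rw [pow_add, heq', ← mul_assoc, ← pow_add, show 2 * (i' : ℕ) + i' = 3 * i' by omega, pow_mul,
          hE3, one_pow, one_mul]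
      · exfalso
        refine hMcomm (2 * (i : ℕ) + i') ?_
        rw [pow_add, ← heq', ← mul_assoc, ← pow_add, show 2 * (i : ℕ) + i = 3 * i by omega, pow_mul,
          hE3, one_pow, one_mul]
      · exact Prod.ext (key _ _ (mul_right_cancel heq')) rfl
    have hcard6 : Nat.card ((D ⧸ H') ⧸ N0) = 6 := by
      have := Nat.card_le_card_of_injective φ hφ
      rw [Nat.card_prod, Nat.card_fin, Nat.card_fin] at this
      omega
    have hφs : Function.Surjective φ :=
      ((Nat.bijective_iff_injective_and_card φ).mpr ⟨hφ, by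
        rw [Nat.card_prod, Nat.card_fin, Nat.card_fin, hcard6]⟩).2
    have hNle : N ≤ D := Subgroup.map_subtype_le _
    have hNcop : (Nat.card N).Coprime 3 := by
      rw [hN, Subgroup.card_map_of_injective D.subtype_injective]
      have h1 := (N0.comap π).card_mul_index
      rw [Subgroup.index_comap_of_surjective _ hπ] at h1
      have h2 := N0.card_mul_index
      have h3 := Subgroup.card_eq_card_quotient_mul_card_subgroup H'
      rw [← h2, show Nat.card H' = Nat.card H from
        Nat.card_congr (Subgroup.subgroupOfEquivOfLe h.H_le).toEquiv] at h3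
      have hi : N0.index ≠ 0 := Subgroup.index_ne_zero_of_finite
      have : Nat.card (N0.comap π) = Nat.card N0 * Nat.card H :=
        Nat.eq_of_mul_eq_mul_right (Nat.pos_of_ne_zero hi) (by rw [h1, h3]; ring)
      rw [this]
      exact Nat.Coprime.mul_left hcop hH3
    have hnormal : ∀ d ∈ D, ∀ n ∈ N, d * n * d⁻¹ ∈ N := fun d hd n hn => by
      rw [hmemN (mul_mem (mul_mem hd (hNle hn)) (inv_mem hd)),
        show (⟨d * n * d⁻¹, mul_mem (mul_mem hd (hNle hn)) (inv_mem hd)⟩ : D) =
          ⟨d, hd⟩ * ⟨n, hNle hn⟩ * (⟨d, hd⟩ : D)⁻¹ from rfl, map_mul, map_mul, map_inv,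
        (hmemN (hNle hn)).mp hn, mul_one, mul_inv_cancel]
    have hmax : ∀ R : Subgroup G, R ≤ D → (Nat.card R).Coprime 3 →
        (∀ d ∈ D, ∀ r ∈ R, d * r * d⁻¹ ∈ R) → R ≤ N := by
      intro R hRD hR3 hRn r hr
      rw [hmemN (hRD hr)]
      set K := (R.subgroupOf D).map ρ with hK
      have hKn : ∀ x, ∀ k ∈ K, x * k * x⁻¹ ∈ K := by
        intro x k hk
        obtain ⟨d, rfl⟩ := hρ x
        obtain ⟨s, hs, rfl⟩ := hk
        exact ⟨d * s * d⁻¹, hRn d d.2 s hs, by rw [map_mul, map_mul, map_inv]⟩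
      have hKdvd : Nat.card K ∣ 2 := by
        have h1 : Nat.card K ∣ 6 := hcard6 ▸ Subgroup.card_subgroup_dvd_card K
        have h2 : Nat.card K ∣ Nat.card R := by
          rw [← Nat.card_congr (Subgroup.subgroupOfEquivOfLe hRD).toEquiv]
          exact Subgroup.card_map_dvd _ ρ
        exact (Nat.Coprime.coprime_dvd_left h2 hR3).dvd_of_dvd_mul_right (by simpa using h1)
      set k := ρ ⟨r, hRD hr⟩ with hk'
      have hkK : k ∈ K := ⟨⟨r, hRD hr⟩, hr, rfl⟩
      by_contra hk1
      have hord : orderOf k ∣ 2 := (Subgroup.orderOf_dvd_natCard K hkK).trans hKdvd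
      have hK2 : ∀ y ∈ K, y = 1 ∨ y = k := by
        intro y hy
        by_contra hy'
        push Not at hy'
        have h3 : 3 ≤ Nat.card K := by
          haveI : Fintype K := Fintype.ofFinite K
          rw [Nat.card_eq_fintype_card, ← Finset.card_univ]
          refine le_trans (le_of_eq ?_) (Finset.card_le_univ ({(1 : K), ⟨k, hkK⟩, ⟨y, hy⟩} : Finset K))
          rw [Finset.card_insert_of_notMem (by
              simp only [Finset.mem_insert, Finset.mem_singleton, Subtype.ext_iff, OneMemClass.coe_one]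
              rintro (h | h)
              · exact hk1 h.symm
              · exact hy'.1 h.symm),
            Finset.card_insert_of_notMem (by
              simp only [Finset.mem_singleton, Subtype.ext_iff]; exact Ne.symm hy'.2),
            Finset.card_singleton]
        have := Nat.le_of_dvd (by norm_num) hKdvd
        omega
      have hkE : E * k = k * E := by
        rcases hK2 _ (hKn E k hkK) with h1 | h1
        · exact absurd (conj_eq_one_iff.mp h1) hk1
        · exact mul_inv_eq_iff_eq_mul.mp h1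
      have hk2 : k * k = 1 := by
        rw [← pow_two]; exact orderOf_dvd_iff_pow_eq_one.mp hord
      obtain ⟨⟨i, j⟩, hij⟩ := hφs k
      have hij' : E ^ (i : ℕ) * M ^ (j : ℕ) = k := hij
      fin_cases j <;> simp only [pow_zero, pow_one, mul_one] at hij'
      · rw [← hij', ← pow_add] at hk2
        have h5 : 3 ∣ (i : ℕ) + i := by
          have h5 := orderOf_dvd_of_pow_eq_one hk2
          rwa [hoE] at h5
        have : (i : ℕ) = 0 := by omega
        exact hk1 (by rw [← hij', this, pow_zero])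
      · rw [← hij', ← mul_assoc, ← pow_succ', pow_succ, mul_assoc, mul_assoc] at hkE
        have h6 : E * M = M * E := mul_left_cancel hkE
        rw [← h6, mul_inv_cancel_right] at hME
        exact hE1 (by
          have h2 : E * E = 1 := mul_eq_one_iff_eq_inv.mpr hME
          simpa [pow_succ, h2] using hE3)
    have hnilN : Group.IsNilpotent N := by
      haveI : Group.IsNilpotent (N0.comap π) := by
        let ψ : N0.comap π →* N0 := π.subgroupComap N0
        refine Subgroup.isNilpotent_of_ker_le_center ψ (fun x hx => Subgroup.mem_center_iff.mpr fun y => ?_)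
        have hxH : ((x : D) : G) ∈ H := (QuotientGroup.eq_one_iff (x : D)).mp (congrArg Subtype.val hx)
        exact Subtype.ext (Subtype.ext (h.H_cen _ hxH _ (y : D).2).symm)
      exact Group.nilpotent_of_mulEquiv ((N0.comap π).equivMapOfInjective D.subtype D.subtype_injective)
    refine ⟨N, fun z hz => ?_, hNle, hNcop, hnilN, hnormal, fun w hw => ?_, fun g hg => ?_, fun i hi hiN => ?_, hmax⟩
    · rw [hmemN (h.H_le hz)]
      show QuotientGroup.mk' N0 (π ⟨z, h.H_le hz⟩) = 1
      rw [show π ⟨z, h.H_le hz⟩ = 1 from (QuotientGroup.eq_one_iff _).mpr hz, map_one]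
    · refine Subgroup.mem_normalizer_iff_map_conj_eq.mpr (Subgroup.eq_of_le_of_card_ge (hmax _ ?_ ?_ ?_)
        (le_of_eq (Subgroup.card_map_of_injective (MulAut.conj w).injective).symm))
      · rintro _ ⟨n, hn, rfl⟩; exact hW' w hw n (hNle hn)
      · rwa [Subgroup.card_map_of_injective (MulAut.conj w).injective]
      · rintro d hd _ ⟨n, hn, rfl⟩
        refine ⟨w⁻¹ * d * w * n * (w⁻¹ * d * w)⁻¹, hnormal _ (hWn w hw d hd) n hn, ?_⟩
        show w * (w⁻¹ * d * w * n * (w⁻¹ * d * w)⁻¹) * w⁻¹ = d * (w * n * w⁻¹) * d⁻¹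
        group
    · obtain ⟨⟨i, j⟩, hij⟩ := hφs (ρ ⟨g, hg⟩)
      have hd : e ^ (i : ℕ) * m ^ (j : ℕ) ∈ D := mul_mem (pow_mem h.e_mem _) (pow_mem h.m_mem _)
      refine ⟨i, j, g * (e ^ (i : ℕ) * m ^ (j : ℕ))⁻¹, ?_, i.isLt, j.isLt, by
        rw [mul_assoc, inv_mul_cancel_right]⟩
      rw [hmemN (mul_mem hg (inv_mem hd)), show (⟨g * (e ^ (i : ℕ) * m ^ (j : ℕ))⁻¹, mul_mem hg (inv_mem hd)⟩ : D) =
        ⟨g, hg⟩ * ((⟨e, h.e_mem⟩ : D) ^ (i : ℕ) * (⟨m, h.m_mem⟩ : D) ^ (j : ℕ))⁻¹ from Subtype.ext (by simp),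
        map_mul, map_inv, map_mul, map_pow, map_pow, ← hij, mul_inv_eq_one]
    · rw [hmemN (pow_mem h.e_mem i), show (⟨e ^ i, pow_mem h.e_mem i⟩ : D) = ⟨e, h.e_mem⟩ ^ i from rfl,
        map_pow] at hiN
      have : 3 ∣ i := hoE ▸ orderOf_dvd_of_pow_eq_one hiN
      omega
  · -- alternating quotient
    exfalso
    haveI := hN0
    haveI : Fact (Nat.Prime 5) := ⟨by norm_num⟩
    set P := (N0.comap π).map D.subtype with hP
    have hcN0 : (Nat.card N0).Coprime 3 := by
      by_contra hh
      obtain ⟨z, hz⟩ := exists_prime_orderOf_dvd_card' (G := N0) 3 ((Nat.prime_three.dvd_iff_not_coprime).mpr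
        (fun hh' => hh hh'.symm))
      have := orderOf_dvd_of_pow_eq_one (show z ^ 2 = 1 from Subtype.ext (hsq z z.2))
      rw [hz] at this; norm_num at this
    have hcardP : Nat.card P = Nat.card N0 * Nat.card H ∧ Nat.card D = Nat.card P * 60 := by
      have h1 := (N0.comap π).card_mul_index
      rw [Subgroup.index_comap_of_surjective _ hπ] at h1
      have h2 := N0.card_mul_index
      have h3 := Subgroup.card_eq_card_quotient_mul_card_subgroup H'
      rw [← h2, show Nat.card H' = Nat.card H from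
        Nat.card_congr (Subgroup.subgroupOfEquivOfLe h.H_le).toEquiv] at h3
      have hi : N0.index = 60 := by
        show Nat.card ((D ⧸ H') ⧸ N0) = 60
        rw [Nat.card_congr e5.toEquiv, Nat.card_eq_fintype_card]
        rfl
      rw [hi] at h1 h3
      have hh : Nat.card (N0.comap π) = Nat.card N0 * Nat.card H :=
        Nat.eq_of_mul_eq_mul_right (show 0 < 60 by norm_num) (by rw [h1, h3]; ring)
      rw [hP, Subgroup.card_map_of_injective D.subtype_injective]
      exact ⟨hh, h1.symm⟩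
    have hnormalP : ∀ d ∈ D, ∀ p ∈ P, d * p * d⁻¹ ∈ P := by
      rintro d hd _ ⟨p, hp, rfl⟩
      exact ⟨⟨d, hd⟩ * p * (⟨d, hd⟩ : D)⁻¹, (hN0.comap π).conj_mem p hp ⟨d, hd⟩, rfl⟩
    have hP3 : (Nat.card P).Coprime 3 := by rw [hcardP.1]; exact Nat.Coprime.mul_left hcN0 hH3
    refine simple_case 5 (Or.inl rfl) P (Subgroup.map_subtype_le _) hP3 hnormalP hcardP.2 fun w hw => ?_
    refine Subgroup.mem_normalizer_iff_map_conj_eq.mpr (Subgroup.eq_of_le_of_card_ge ?_
      (le_of_eq (Subgroup.card_map_of_injective (MulAut.conj w).injective).symm))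
    rintro _ ⟨p, hp, rfl⟩
    obtain ⟨d, hd, rfl⟩ := hp
    have hwd : w * (d : G) * w⁻¹ ∈ D := hW' w hw d d.2
    refine ⟨⟨_, hwd⟩, ?_, rfl⟩
    -- a normal three-prime subgroup of the alternating quotient is trivial
    let σ : D →* D :=
      { toFun := fun x => ⟨w * (x : G) * w⁻¹, hW' w hw x x.2⟩
        map_one' := Subtype.ext (by simp)
        map_mul' := fun x y => Subtype.ext (conj_mul.symm) }
    have hσs : Function.Surjective σ := fun x => ⟨⟨w⁻¹ * (x : G) * w, hWn w hw x x.2⟩, Subtype.ext (by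
      show w * (w⁻¹ * (x : G) * w) * w⁻¹ = x; group)⟩
    let ψ := e5.toMonoidHom.comp ((QuotientGroup.mk' N0).comp π)
    haveI : ((N0.comap π).map σ).Normal := (hN0.comap π).map σ hσs
    haveI hIn : (((N0.comap π).map σ).map ψ).Normal := Subgroup.Normal.map inferInstance ψ
      (e5.surjective.comp ((QuotientGroup.mk'_surjective N0).comp hπ))
    haveI : IsSimpleGroup (alternatingGroup (Fin 5)) := (alternatingGroup.isSimpleGroup (by simp))
    rcases hIn.eq_bot_or_eq_top with hb | hb
    · have h1 : ψ (σ d) = 1 := by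
        rw [← Subgroup.mem_bot, ← hb]; exact ⟨σ d, ⟨d, hd, rfl⟩, rfl⟩
      have h2 : QuotientGroup.mk' N0 (π (σ d)) = 1 := e5.injective (h1.trans (map_one e5).symm)
      exact (QuotientGroup.eq_one_iff (N := N0) _).mp h2
    · exfalso
      have h1 : Nat.card (((N0.comap π).map σ).map ψ) ∣ Nat.card P := by
        rw [hP, Subgroup.card_map_of_injective D.subtype_injective]
        exact (Subgroup.card_map_dvd _ ψ).trans (Subgroup.card_map_dvd _ σ)
      rw [hb, Subgroup.card_top, Nat.card_eq_fintype_card,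
        show Fintype.card (alternatingGroup (Fin 5)) = 60 from rfl] at h1
      have := Nat.Coprime.coprime_dvd_left h1 hP3
      norm_num at this
  · -- the quotient is the linear group
    exfalso
    haveI : Fact (Nat.Prime 7) := ⟨by norm_num⟩
    refine simple_case 7 (Or.inr rfl) H h.H_le hH3 (fun d hd p hp => ?_) ?_ h.W_H
    · rw [← h.H_cen p hp d hd, mul_inv_cancel_right]; exact hp
    · have h3 := Subgroup.card_eq_card_quotient_mul_card_subgroup H'
      rw [show Nat.card H' = Nat.card H from Nat.card_congr (Subgroup.subgroupOfEquivOfLe h.H_le).toEquiv,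
        Nat.card_congr e7.some.toEquiv] at h3
      have hc' := CfsgLib.SL2.card_PSL (F := ZMod 7)
      rw [Nat.card_zmod, show Nat.gcd 2 (7 - 1) = 2 from rfl] at hc'
      norm_num at hc'
      rw [← Nat.card_eq_fintype_card] at hc'
      rw [h3, show Nat.card (Matrix.ProjectiveSpecialLinearGroup (Fin 2) (ZMod 7)) = 168 by omega, mul_comm]
      norm_num

end CfsgLib.PSpFourThree
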