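import Cfsg.Agent.Lib.PSpFourThree.Eight.UtCore

/-!
The large case: the centralizer of a four group of double transpositions.
-/

set_option autoImplicit false
set_option maxRecDepth 20000
set_option linter.style.haveILetI false
set_option linter.unusedSectionVars false

namespace CfsgLib.PSpFourThree

open CfsgLib.SymNineThree CfsgLib.SymNineThree.Mon CfsgLib.PSpFourLocal
open CfsgLib.SymNineThree.Six (sA sB sU sV sW sT)

attribute [local instance 2000] List.decidableBAll List.decidableBEx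

/-- A double transposition of the four group. -/
def dA : P6 := Equiv.swap 0 3 * Equiv.swap 4 5
/-- Another one. -/
def dB : P6 := Equiv.swap 0 4 * Equiv.swap 3 5
/-- A double transposition on the other side. -/
def cA : P6 := Equiv.swap 0 1 * Equiv.swap 2 3
/-- Another one. -/
def cB : P6 := Equiv.swap 0 2 * Equiv.swap 1 3
/-- The change of labels. -/
def gam : P6 := Equiv.swap 0 1 * (Equiv.swap 2 4 * Equiv.swap 4 3)

/-- The elementary abelian group of order eight. -/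
def E0S : Subgroup P6 := Subgroup.centralizer ({sU, dA, dB} : Set P6)

theorem mem_E0S {σ : P6} : σ ∈ E0S ↔ σ * sU = sU * σ ∧ σ * dA = dA * σ ∧ σ * dB = dB * σ := by
  rw [E0S, Subgroup.mem_centralizer_iff]
  simp [eq_comm]

/-- Its image under the exchange of the blocks. -/
def E1S : Subgroup P6 := Subgroup.centralizer ({sV, cA, cB} : Set P6)

theorem mem_E1S {σ : P6} : σ ∈ E1S ↔ σ * sV = sV * σ ∧ σ * cA = cA * σ ∧ σ * cB = cB * σ := by
  rw [E1S, Subgroup.mem_centralizer_iff]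
  simp [eq_comm]

instance : DecidablePred (· ∈ E0S) := fun _ => decidable_of_iff _ mem_E0S.symm

instance : DecidablePred (· ∈ E1S) := fun _ => decidable_of_iff _ mem_E1S.symm

theorem e0_comm : ∀ σ : P6, σ ∈ E0S → ∀ τ : P6, τ ∈ E0S → σ * τ = τ * σ := by decide +kernel

theorem e0_sq : ∀ σ : P6, σ ∈ E0S → σ * σ = 1 := by decide +kernel

theorem e1_sq : ∀ σ : P6, σ ∈ E1S → σ * σ = 1 := by decide +kernel

theorem e0_mem : sU ∈ E0S ∧ dA ∈ E0S ∧ dB ∈ E0S ∧ gam * sW * gam⁻¹ ∈ E0S ∧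
    gam * (sU * sV) * gam⁻¹ ∈ E0S ∧ sV ∈ E1S ∧ cA ∈ E1S ∧ cB ∈ E1S := by
  refine ⟨?_, ?_, ?_, ?_, ?_, ?_, ?_, ?_⟩ <;> decide +kernel

theorem e0_conj : ∀ σ : P6, σ ∈ E0S → sB * σ * sB⁻¹ ∈ E0S ∧
    (gam⁻¹ * σ * gam ∈ S8 ∨ sU * sV * (gam⁻¹ * σ * gam) ∈ S8) := by decide +kernel

theorem s8_e0 : ∀ τ : P6, τ ∈ S8 → ∀ σ : P6, σ ∈ E0S →
    gam * τ * gam⁻¹ * σ * (gam * τ * gam⁻¹)⁻¹ ∈ E0S := by decide +kernel

theorem e1_swap : ∀ σ : P6, σ ∈ E0S → sW * σ * sW⁻¹ ∈ E1S := by decide +kernel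

theorem cent_sV : ∀ σ : P6, σ * sV = sV * σ → (σ * σ * σ) * (σ * σ * σ) * ((σ * σ * σ) * (σ * σ * σ)) = 1 := by
  decide +kernel

theorem e1_word : ∀ σ : P6, σ * sV = sV * σ → σ * σ * (σ * σ) = 1 →
    σ * (sA * σ * sA⁻¹) * (σ * (sA * σ * sA⁻¹)) * (σ * (sA * σ * sA⁻¹) * (σ * (sA * σ * sA⁻¹))) = 1 →
    σ ∈ E1S := by decide +kernel

theorem e1_span : ∀ σ : P6, σ ∈ E1S → σ ≠ 1 → σ ≠ sV → ∀ τ : P6, τ ∈ E1S →
    [1, sV, σ, sV * σ, sA * σ * sA⁻¹, sV * (sA * σ * sA⁻¹), σ * (sA * σ * sA⁻¹),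
      sV * (σ * (sA * σ * sA⁻¹))].any (fun ρ : P6 => ρ == τ) = true := by decide +kernel

theorem e1_free : ∀ i : Fin 3, ∀ j : Fin 2, (sA ^ (i : ℕ) * sU ^ (j : ℕ)) * cA = cA * (sA ^ (i : ℕ) * sU ^ (j : ℕ)) →
    (sA ^ (i : ℕ) * sU ^ (j : ℕ)) * cB = cB * (sA ^ (i : ℕ) * sU ^ (j : ℕ)) → (i : ℕ) = 0 ∧ (j : ℕ) = 0 := by
  decide +kernel

theorem q8_commutator : ∀ u : S23, q4 u → ∀ v : S23, q4 v →
    u * v * u⁻¹ * v⁻¹ = 1 ∨ u * v * u⁻¹ * v⁻¹ = -1 := by decide +kernel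

theorem w2_vals : ((List.range 27).all fun v => !Nat.beq (mulM (trC v) 3) (mulM 3 (trC v)) ||
    (([0, 9, 18, 3, 6, 12, 15, 21, 24].any fun w => Nat.beq w v) &&
      ((List.range 3).any fun i => (List.range 3).any fun j => Nat.beq v (addV (3 * j) (9 * i))))) = true := by
  decide +kernel

theorem w2_card : Fintype.card {v : Fin 27 //
    Nat.beq (mulM (trC v) 3) (mulM 3 (trC v)) = true} = 9 := by decide +kernel

theorem wt_w2 : wtV 12 = 2 ∧ wtV 15 = 2 ∧ wtV 21 = 2 ∧ wtV 24 = 2 ∧ addV 3 3 = 6 ∧ addV 26 18 = 17 := by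
  decide +kernel

universe u

variable {G : Type u} [Group G] [Finite G] {X : Ctx G}

namespace Core

variable {D H W : Subgroup G} {e m : G} {N : Subgroup G}

theorem mem_of_coprime (hN : Core D H W e m N) (he : e ∈ D) (he3 : e ^ 3 = 1) {n : G} (hn : n ∈ N) (k : ℕ)
    (ho : (orderOf (n * e ^ k)).Coprime 3) : n * e ^ k ∈ N := by
  have key : ∀ M : ℕ, ∃ n' ∈ N, (n * e ^ k) ^ M = n' * e ^ (k * M) := by
    intro M
    induction M with
    | zero => exact ⟨1, one_mem _, by simp⟩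
    | succ M ih =>
      obtain ⟨n', hn', h⟩ := ih
      refine ⟨n' * (e ^ (k * M) * n * (e ^ (k * M))⁻¹), mul_mem hn' (hN.normal _ (pow_mem he _) n hn), ?_⟩
      rw [pow_succ, h, Nat.mul_succ, pow_add]
      group
  set M := orderOf (n * e ^ k) with hM
  obtain ⟨n', hn', h⟩ := key M
  rw [hM, pow_orderOf_eq_one, ← hM] at h
  have hmem : e ^ (k * M % 3) ∈ N := by
    rw [← pow_eq_pow_mod (k * M) he3, eq_inv_of_mul_eq_one_right h.symm]
    exact inv_mem hn'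
  have h0 := hN.e_not _ (Nat.mod_lt _ (by norm_num)) hmem
  have h3 : 3 ∣ k * M := Nat.dvd_of_mod_eq_zero h0
  obtain ⟨j, rfl⟩ := (ho.symm).dvd_of_dvd_mul_right h3
  rw [pow_mul, he3, one_pow, mul_one]
  exact hn

end Core

namespace Big

variable {U : Coord X} (B : Big U)

include B

/-- The group of order eight. -/
noncomputable def E0 : Subgroup G := E0S.map B.L2.ρ

/-- Its centralizer. -/
noncomputable def D0 : Subgroup G := Subgroup.centralizer (B.E0 : Set G)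

/-- The conjugate under the exchange of the last two axes. -/
noncomputable def E1 : Subgroup G := E1S.map B.L1.ρ

/-- The element changing the labels. -/
noncomputable def gm : G := B.L2.ρ gam

/-- The double transposition in the normalizer of `J`. -/
noncomputable def nd : G := B.L2.ρ (sU * sV)

theorem mem_E0 {σ : P6} : B.L2.ρ σ ∈ B.E0 ↔ σ ∈ E0S :=
  ⟨fun ⟨_, hτ, e⟩ => B.L2.inj e ▸ hτ, fun h => ⟨σ, h, rfl⟩⟩

theorem E0_comm {x y : G} (hx : x ∈ B.E0) (hy : y ∈ B.E0) : x * y = y * x := by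
  obtain ⟨σ, hσ, rfl⟩ := hx
  obtain ⟨τ, hτ, rfl⟩ := hy
  rw [← map_mul, ← map_mul, e0_comm σ hσ τ hτ]

theorem E0_le : B.E0 ≤ B.D0 := fun _ hx => Subgroup.mem_centralizer_iff.mpr fun _ hy => B.E0_comm hy hx

theorem E0_sq {x : G} (hx : x ∈ B.E0) : x * x = 1 := by
  obtain ⟨σ, hσ, rfl⟩ := hx
  rw [← map_mul, e0_sq σ hσ, map_one]

theorem alpha_eq : U.f (of 3) = B.L1.ρ sV := B.vals1.2.2.2.1.symm

theorem alpha_mem : U.f (of 3) ∈ B.E0 := by rw [← B.vU]; exact B.mem_E0.mpr e0_mem.1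

theorem nine_D0 : U.ι 9 ∈ B.D0 := Subgroup.mem_centralizer_iff.mpr fun y hy => by
  obtain ⟨σ, -, rfl⟩ := hy
  exact B.L2.comm σ

theorem flip_D0 : U.f (of 108) ∈ B.D0 := Subgroup.mem_centralizer_iff.mpr fun y hy => by
  obtain ⟨σ, -, rfl⟩ := hy
  exact (B.flip_two σ).symm

theorem sc0 {g : G} (hg : g ∈ B.D0) (h : g * U.ι 9 = U.ι 9 * g) :
    ∃ x ∈ B.E0, ∃ i : ℕ, g = x * U.ι 9 ^ i := by
  obtain ⟨i, σ, rfl⟩ := B.L2.surj g h
  refine ⟨B.L2.ρ σ, B.mem_E0.mpr (mem_E0S.mpr ?_), i, (B.L2.comm_pow σ i).symm⟩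
  have key : ∀ τ ∈ E0S, σ * τ = τ * σ := fun τ hτ => by
    have h1 := Subgroup.mem_centralizer_iff.mp hg _ (B.mem_E0.mpr hτ)
    rw [← mul_assoc, B.L2.comm_pow τ i, mul_assoc, mul_assoc, ← map_mul, ← map_mul] at h1
    exact (B.L2.inj (mul_left_cancel h1)).symm
  exact ⟨key _ e0_mem.1, key _ e0_mem.2.1, key _ e0_mem.2.2.1⟩

theorem three_vals : U.ι 3 ∈ U.JC 3 ∧ U.ι 9 ∈ U.JC 3 := by
  constructor <;> exact (U.mem_JC B.h8 (by norm_num) (by norm_num)).mpr (by decide +kernel)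

theorem mem_W_cases {g : G} (hg : g ∈ U.JC 3) : ∃ v, v ∈ [0, 9, 18, 3, 6, 12, 15, 21, 24] ∧ g = U.ι v ∧
    g ∈ Subgroup.zpowers (U.ι 3) ⊔ Subgroup.zpowers (U.ι 9) := by
  obtain ⟨v, hv, rfl, hb⟩ := U.exists_JC B.h8 (by norm_num) hg
  have h := List.all_eq_true.mp w2_vals v (List.mem_range.mpr hv)
  simp only [hb, Bool.not_true, Bool.false_or, Bool.and_eq_true, List.any_eq_true, List.mem_range,
    Nat.beq_eq] at h
  obtain ⟨⟨w, hw, rfl⟩, i, hi, j, hj, hij⟩ := h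
  refine ⟨w, hw, rfl, ?_⟩
  have hpow : ∀ k < 3, U.ι (9 * k) ∈ Subgroup.zpowers (U.ι 9) ∧ U.ι (3 * k) ∈ Subgroup.zpowers (U.ι 3) := by
    intro k hk
    interval_cases k
    · simp [U.ι_zero]
    · exact ⟨Subgroup.mem_zpowers _, Subgroup.mem_zpowers _⟩
    · show U.ι 18 ∈ _ ∧ U.ι 6 ∈ _
      rw [show (18 : ℕ) = addV 9 9 from wt_p0.2.2.2.2.2.2.1.symm, ← wt_w2.2.2.2.2.1,
        U.ι_add (by norm_num) (by norm_num), U.ι_add (by norm_num) (by norm_num)]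
      exact ⟨mul_mem (Subgroup.mem_zpowers _) (Subgroup.mem_zpowers _),
        mul_mem (Subgroup.mem_zpowers _) (Subgroup.mem_zpowers _)⟩
  rw [hij, U.ι_add (by omega) (by omega)]
  exact mul_mem (Subgroup.mem_sup_left (hpow j hj).2) (Subgroup.mem_sup_right (hpow i hi).1)

theorem normE0 : U.JC 3 ≤ Subgroup.normalizer (B.E0 : Set G) := fun g hg => by
  obtain ⟨-, -, -, hmem⟩ := B.mem_W_cases hg
  refine (sup_le (Subgroup.zpowers_le.mpr (mem_of_map_conj _ ?_))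
    (Subgroup.zpowers_le.mpr (mem_of_map_conj _ ?_))) hmem
  · intro y hy
    obtain ⟨σ, hσ, rfl⟩ := hy
    rw [← B.vB, ← map_inv, ← map_mul, ← map_mul]
    exact B.mem_E0.mpr (e0_conj σ hσ).1
  · intro y hy
    rw [← Subgroup.mem_centralizer_iff.mp B.nine_D0 y hy, mul_inv_cancel_right]
    exact hy

theorem normD0 : U.JC 3 ≤ Subgroup.normalizer (B.D0 : Set G) := fun g hg =>
  mem_of_map_conj _ fun d hd => Subgroup.mem_centralizer_iff.mpr fun y hy => by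
    have h := Subgroup.mem_centralizer_iff.mp hd (g⁻¹ * y * g)
      (by simpa using (Subgroup.mem_normalizer_iff.mp (B.normE0 (inv_mem hg)) y).mp hy)
    calc y * (g * d * g⁻¹) = g * (g⁻¹ * y * g * d) * g⁻¹ := by group
      _ = g * (d * (g⁻¹ * y * g)) * g⁻¹ := by rw [h]
      _ = _ := by group

theorem comm_alpha {x : G} (hx : x ∈ B.D0) : x * U.f (of 3) = U.f (of 3) * x :=
  (Subgroup.mem_centralizer_iff.mp hx _ B.alpha_mem).symm

theorem cent_three {x : G} (hx : x ∈ B.D0) (h : x * U.ι 3 = U.ι 3 * x) :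
    ∃ (i : ℕ) (σ : P6), x = U.ι 3 ^ i * B.L1.ρ σ ∧ σ * sV = sV * σ := by
  obtain ⟨i, σ, rfl⟩ := B.L1.surj x h
  refine ⟨i, σ, rfl, ?_⟩
  have h1 := B.comm_alpha hx
  rw [B.alpha_eq, mul_assoc, ← map_mul, ← mul_assoc (B.L1.ρ sV), B.L1.comm_pow sV i, mul_assoc,
    ← map_mul] at h1
  exact B.L1.inj (mul_left_cancel h1)

theorem sq_root {p q : ℕ} (hp : p < 27) (e : addV p p = q) {x : G} (h : x * U.ι q = U.ι q * x) :
    x * U.ι p = U.ι p * x := by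
  rw [← e, U.ι_add hp hp] at h
  have h4 := (show Commute x (U.ι p * U.ι p) from h).mul_right h
  rwa [show U.ι p * U.ι p * (U.ι p * U.ι p) = U.ι p by
    rw [← mul_assoc, X.cube' (U.ι_mem hp), one_mul]] at h4

theorem coreHyp0 : CoreHyp B.D0 B.E0 (U.JC 3) (U.ι 9) (U.f (of 108)) where
  H_le := B.E0_le
  H_two := fun x => ⟨1, Subtype.ext (by
    show (x : G) ^ 2 ^ 1 = 1
    rw [pow_one, pow_two]; exact B.E0_sq x.2)⟩
  H_cen h hh d hd := Subgroup.mem_centralizer_iff.mp hd h hh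
  e_ord := B.L2.orderOf_e
  e_mem := B.nine_D0
  m_mem := B.flip_D0
  inv := B.flip_nine
  sc := fun _ hg h => B.sc0 hg h
  W_card := U.card_JC B.h8 (by norm_num) w2_card
  W_comm := U.JC_comm 3
  W_exp := U.JC_exp 3
  W_D := B.normD0
  W_H := B.normE0
  free y hy hy1 x hx hxy := by
    obtain ⟨v, hv, rfl, -⟩ := B.mem_W_cases hy
    obtain ⟨w1, w2, w3, w4, a6, -⟩ := wt_w2
    simp only [List.mem_cons, List.not_mem_nil, or_false] at hv
    have small : ∀ {k : ℕ}, x ^ k = 1 → ¬ 5 ∣ k → ¬ 7 ∣ k → orderOf x ≠ 5 ∧ orderOf x ≠ 7 := by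
      intro k hk h5 h7
      have hd := orderOf_dvd_of_pow_eq_one hk
      exact ⟨fun e => h5 (e ▸ hd), fun e => h7 (e ▸ hd)⟩
    have hnine : x * U.ι 9 = U.ι 9 * x → orderOf x ≠ 5 ∧ orderOf x ≠ 7 := by
      intro h
      obtain ⟨h', hh', i, rfl⟩ := B.sc0 hx h
      refine small (k := 6) ?_ (by norm_num) (by norm_num)
      rw [(show Commute h' (U.ι 9 ^ i) from
        Subgroup.mem_centralizer_iff.mp (pow_mem B.nine_D0 i) h' hh').mul_pow, ← pow_mul,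
        show h' ^ 6 = 1 by rw [show 6 = 2 * 3 from rfl, pow_mul, pow_two, B.E0_sq hh', one_pow],
        mul_comm i, show 6 = 3 * 2 from rfl, mul_assoc, pow_mul, X.cube _ B.L2.e_mem, one_pow, one_mul]
    have hthree : x * U.ι 3 = U.ι 3 * x → orderOf x ≠ 5 ∧ orderOf x ≠ 7 := by
      intro h
      obtain ⟨i, σ, rfl, hσ⟩ := B.cent_three hx h
      refine small (k := 12) ?_ (by norm_num) (by norm_num)
      rw [(show Commute (U.ι 3 ^ i) (B.L1.ρ σ) from (B.L1.comm_pow σ i).symm).mul_pow, ← pow_mul,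
        ← map_pow, show σ ^ 12 = 1 by simpa [pow_succ, mul_assoc] using cent_sV σ hσ, map_one,
        mul_comm i, show 12 = 3 * 4 from rfl, mul_assoc, pow_mul, X.cube _ B.L1.e_mem, one_pow, one_mul]
    rcases hv with rfl | rfl | rfl | rfl | rfl | rfl | rfl | rfl | rfl
    · exact absurd U.ι_zero hy1
    · exact hnine hxy
    · exact hnine (B.sq_root (by norm_num) wt_p0.2.2.2.2.2.2.1 hxy)
    · exact hthree hxy
    · exact hthree (B.sq_root (by norm_num) a6 hxy)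
    all_goals exact U.orderOf_cent B.h8 (by norm_num) (by simp [w1, w2, w3, w4]) hxy

/-- The core of the centralizer of the group of order eight. -/
theorem exists_N0 : ∃ N, Core B.D0 B.E0 (U.JC 3) (U.ι 9) (U.f (of 108)) N := exists_core B.coreHyp0

theorem N0_le {N : Subgroup G} (hN : Core B.D0 B.E0 (U.JC 3) (U.ι 9) (U.f (of 108)) N) :
    N ≤ B.E0 ⊔ (N ⊓ B.E1) := by
  haveI : IsMulCommutative (U.JC 3) := ⟨⟨fun a b => Subtype.ext (U.JC_comm 3 a a.2 b b.2)⟩⟩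
  have hc := U.card_JC B.h8 (by norm_num) w2_card
  have hnc : ¬ IsCyclic (U.JC 3) :=
    CfsgLib.Coprime.not_isCyclic_of_exponent (U.JC_exp 3) (by norm_num) (by rw [hc]; norm_num)
  have hcop : (Nat.card (U.JC 3)).Coprime (Nat.card N) := by
    rw [hc, show 9 = 3 ^ 2 from rfl]; exact hN.coprime.symm.pow_left 2
  refine CfsgLib.Coprime.le_of_centralizer_le hnc hN.inv_W hcop fun y hy hy1 x hx => ?_
  obtain ⟨hxN, hxy'⟩ := Subgroup.mem_inf.mp hx
  have hxy := mem_centralizer_iff'.mp hxy'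
  have hxD := hN.le hxN
  have hord : ∀ {z : G}, z ∈ N → (orderOf z).Coprime 3 := fun hz =>
    hN.coprime.coprime_dvd_left (Subgroup.orderOf_dvd_natCard N hz)
  have hnine : x * U.ι 9 = U.ι 9 * x → x ∈ B.E0 ⊔ (N ⊓ B.E1) := fun h => by
    obtain ⟨u, hu, i, rfl⟩ := B.sc0 hxD h
    have hi : U.ι 9 ^ (i % 3) ∈ N := by
      rw [← pow_eq_pow_mod i (X.cube _ B.L2.e_mem), show U.ι 9 ^ i = u⁻¹ * (u * U.ι 9 ^ i) by group]
      exact mul_mem (inv_mem (hN.H_le hu)) hxN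
    have hi0 := hN.e_not _ (Nat.mod_lt i (by norm_num)) hi
    rw [pow_eq_pow_mod i (X.cube _ B.L2.e_mem), hi0, pow_zero, mul_one]
    exact Subgroup.mem_sup_left hu
  have hJ : x ∈ Subgroup.normalizer (X.J : Set G) → x ∈ B.E0 ⊔ (N ⊓ B.E1) := fun h =>
    hnine (U.comm_of_invariant (fun _ h' => (show _ ∈ U.JC 3 from h').1) hN.coprime hN.inv_W hxN h B.three_vals.2)
  have hthree : x * U.ι 3 = U.ι 3 * x → x ∈ B.E0 ⊔ (N ⊓ B.E1) := fun h => by
    obtain ⟨i, σ, rfl, hσ⟩ := B.cent_three hxD h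
    have h1 := Emb.pow_eq_one_of_coprime B.L1 (hord hxN)
    rw [h1, one_mul] at hxN ⊢
    have four : ∀ {τ : P6}, τ * sV = sV * τ → B.L1.ρ τ ∈ N → τ * τ * (τ * τ) = 1 := by
      intro τ hτ hτN
      have h12 : orderOf τ ∣ 4 * 3 := orderOf_dvd_of_pow_eq_one
        (show τ ^ 12 = 1 by simpa [pow_succ, mul_assoc] using cent_sV τ hτ)
      have ho : (orderOf τ).Coprime 3 := by
        rw [← orderOf_injective B.L1.ρ B.L1.inj τ]; exact hord hτN
      have := orderOf_dvd_iff_pow_eq_one.mp (ho.dvd_of_dvd_mul_right h12)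
      simpa [pow_succ, mul_assoc] using this
    have h9 : B.L1.ρ (sA * σ * sA⁻¹) ∈ N := by
      rw [map_mul, map_mul, map_inv, B.vals1.1]
      exact hN.normal _ B.nine_D0 _ hxN
    have hσ' : sA * σ * sA⁻¹ * sV = sV * (sA * σ * sA⁻¹) := by
      have hA : Commute sA sV := by
        show sA * sV = sV * sA
        decide +kernel
      exact ((hA.mul_left hσ).mul_left hA.inv_left).eq
    refine Subgroup.mem_sup_right ⟨hxN, σ, e1_word σ hσ (four hσ hxN) ?_, rfl⟩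
    exact four (show Commute (σ * (sA * σ * sA⁻¹)) sV from Commute.mul_left hσ hσ').eq
      (by rw [map_mul]; exact mul_mem hxN h9)
  obtain ⟨v, hv, rfl, -⟩ := B.mem_W_cases hy
  obtain ⟨w1, w2, w3, w4, a6, -⟩ := wt_w2
  simp only [List.mem_cons, List.not_mem_nil, or_false] at hv
  rcases hv with rfl | rfl | rfl | rfl | rfl | rfl | rfl | rfl | rfl
  · exact absurd U.ι_zero hy1
  · exact hnine hxy
  · exact hnine (B.sq_root (by norm_num) wt_p0.2.2.2.2.2.2.1 hxy)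
  · exact hthree hxy
  · exact hthree (B.sq_root (by norm_num) a6 hxy)
  · exact hJ (U.cent_wt_two B.h8 (by norm_num) w1 x hxy)
  · exact hJ (U.cent_wt_two B.h8 (by norm_num) w2 x hxy)
  · exact hJ (U.cent_wt_two B.h8 (by norm_num) w3 x hxy)
  · exact hJ (U.cent_wt_two B.h8 (by norm_num) w4 x hxy)

theorem N0_sq {N : Subgroup G} (hN : Core B.D0 B.E0 (U.JC 3) (U.ι 9) (U.f (of 108)) N) {x : G}
    (hx : x ∈ N) : x * x = 1 := by
  have hc : ∀ (a : B.E0) (b : ↥(N ⊓ B.E1)), Commute ((B.E0).subtype a) ((N ⊓ B.E1).subtype b) :=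
    fun a b => Subgroup.mem_centralizer_iff.mp (hN.le b.2.1) a a.2
  have hle : N ≤ (MonoidHom.noncommCoprod B.E0.subtype (N ⊓ B.E1).subtype hc).range := by
    rw [MonoidHom.noncommCoprod_range, Subgroup.range_subtype, Subgroup.range_subtype]
    exact B.N0_le hN
  obtain ⟨⟨a, b⟩, rfl⟩ := hle hx
  show (a : G) * b * ((a : G) * b) = 1
  rw [((show Commute (a : G) b from hc a b).symm).mul_mul_mul_comm, B.E0_sq a.2, one_mul]
  obtain ⟨σ, hσ, e⟩ := b.2.2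
  rw [← e, ← map_mul, e1_sq σ hσ, map_one]

/-! ### The two quaternion groups commute -/

theorem nd_eq : B.nd = U.f (of 21) := by
  show B.L2.ρ (sU * sV) = _
  rw [map_mul, B.vU, B.vV, ← U.f_mul (U.top8 B.h8 _) (U.top8 B.h8 _)]
  congr 1

theorem nd_facts : B.nd * B.nd = 1 ∧ B.nd * U.ι 9 = U.ι 9 * B.nd ∧ B.nd * U.tq = U.tq * B.nd ∧
    B.nd * U.ι 13 * B.nd⁻¹ = U.ι 17 ∧ B.nd * U.ι 17 * B.nd⁻¹ = U.ι 13 := by
  refine ⟨by rw [nd, ← map_mul, show sU * sV * (sU * sV) = 1 by decide +kernel, map_one],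
    B.L2.comm _, ?_, ?_, ?_⟩
  · rw [B.tq_eq, nd, ← map_mul, ← map_mul, show sU * sV * sW = sW * (sU * sV) by decide +kernel]
  · rw [B.nd_eq]; exact U.conj_ι B.h8 (by norm_num) (by norm_num) (by norm_num) (by decide +kernel)
  · rw [B.nd_eq]; exact U.conj_ι B.h8 (by norm_num) (by norm_num) (by norm_num) (by decide +kernel)

theorem gm_facts : B.gm * U.ι 9 = U.ι 9 * B.gm ∧ U.f (of 108) * B.gm = B.gm * U.f (of 108) :=
  ⟨B.L2.comm _, B.flip_two _⟩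

theorem nd_conj {q : G} (hq : q ∈ U.Qa B.h8) : B.nd * q * B.nd⁻¹ ∈ B.Qb := by
  obtain ⟨n2, n9, nt, n13, -⟩ := B.nd_facts
  refine B.mem_Qb_of ?_ ?_ ?_
  · have hq13 : q * U.ι 13 = U.ι 13 * q := by rw [U.ι_thirteen]; exact mem_centralizer_iff'.mp hq.1.1
    have h17 : B.nd * q * B.nd⁻¹ * U.ι 17 = U.ι 17 * (B.nd * q * B.nd⁻¹) := by
      rw [← n13, conj_mul, conj_mul, hq13]
    refine B.sq_root (by norm_num) wt_p0.2.2.2.2.2.2.2.2.2.1 h17
  · exact ((Commute.mul_left nt hq.1.2.1).mul_left (Commute.inv_left nt)).eq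
  · refine Nat.Coprime.coprime_dvd_left (orderOf_dvd_of_pow_eq_one (n := 4) ?_) (by norm_num)
    rw [conj_pow, hq.2, mul_one, mul_inv_cancel]

/-- The step of the commutator trick. -/
theorem comm_step {q : G} (hq : q ∈ U.Qa B.h8) : ∃ c ∈ B.Ut,
    q * (B.nd * q * B.nd⁻¹) * U.ι 9 * (q * (B.nd * q * B.nd⁻¹))⁻¹ * (U.ι 9)⁻¹ =
      c * (q * U.ι 9 * q⁻¹ * (U.ι 9)⁻¹ * (B.nd * (q * U.ι 9 * q⁻¹ * (U.ι 9)⁻¹) * B.nd⁻¹)) := by
  obtain ⟨-, n9, -, -, -⟩ := B.nd_facts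
  set n := B.nd
  set q1 := q * U.ι 9 * q⁻¹ * (U.ι 9)⁻¹ with hq1
  have h1 : q1 ∈ U.Qa B.h8 := (U.comm_nine B.h8 hq).1
  have hc1 := B.comm_mem_Ut hq (B.nd_conj h1)
  have hc2 := inv_mem (B.comm_mem_Ut h1 (B.nd_conj h1))
  refine ⟨_, mul_mem hc1 hc2, ?_⟩
  have e : q * (n * q * n⁻¹) * U.ι 9 * (q * (n * q * n⁻¹))⁻¹ * (U.ι 9)⁻¹ = q * (n * q1 * n⁻¹) * q⁻¹ * q1 := by
    have h9 : n⁻¹ * U.ι 9 * n = U.ι 9 := by rw [mul_assoc, ← n9, inv_mul_cancel_left]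
    calc _ = q * (n * (q * (n⁻¹ * U.ι 9 * n) * q⁻¹) * n⁻¹) * q⁻¹ * (U.ι 9)⁻¹ := by group
      _ = q * (n * (q1 * U.ι 9) * n⁻¹) * q⁻¹ * (U.ι 9)⁻¹ := by rw [h9, hq1]; group
      _ = q * (n * q1 * n⁻¹ * (n * U.ι 9 * n⁻¹)) * q⁻¹ * (U.ι 9)⁻¹ := by group
      _ = q * (n * q1 * n⁻¹ * U.ι 9) * q⁻¹ * (U.ι 9)⁻¹ := by rw [n9, mul_inv_cancel_right]
      _ = q * (n * q1 * n⁻¹) * q⁻¹ * q1 := by rw [hq1]; group
  rw [e]
  show _ = q * (n * q1 * n⁻¹) * q⁻¹ * (n * q1 * n⁻¹)⁻¹ * (q1 * (n * q1 * n⁻¹) * q1⁻¹ * (n * q1 * n⁻¹)⁻¹)⁻¹ *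
    (q1 * (n * q1 * n⁻¹))
  group

theorem comm_Qa_self {v : G} (hv : v ∈ U.Qa B.h8) :
    v * (B.nd * v * B.nd⁻¹) = B.nd * v * B.nd⁻¹ * v ∧
      B.gm * (v * (B.nd * v * B.nd⁻¹)) * B.gm⁻¹ ∈ Classical.choose B.exists_N0 := by
  classical
  obtain ⟨N, hN⟩ := B.exists_Nu
  have hN0 := Classical.choose_spec B.exists_N0
  set N0 := Classical.choose B.exists_N0 with hN0def
  obtain ⟨n2, n9, nt, -, -⟩ := B.nd_facts
  obtain ⟨g9, g108⟩ := B.gm_facts
  obtain ⟨htC, ht2, -, -, -⟩ := U.tq_facts B.h8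
  set n := B.nd with hn
  set e := U.ι 9 with he
  set g := B.gm with hg
  have ht9 : U.tq * e = e * U.tq := ((U.nine_facts B.h8).2.1).symm
  -- reaching every class
  have tcomm : ∀ {q : G}, q ∈ U.Qa B.h8 →
      U.tq * q * e * (U.tq * q)⁻¹ * e⁻¹ = q * e * q⁻¹ * e⁻¹ := by
    intro q hq
    have h1 : Commute U.tq (q * e * q⁻¹) :=
      ((show Commute U.tq q from hq.1.2.1.symm).mul_right ht9).mul_right
        (show Commute U.tq q from hq.1.2.1.symm).inv_right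
    calc U.tq * q * e * (U.tq * q)⁻¹ * e⁻¹ = U.tq * (q * e * q⁻¹) * U.tq⁻¹ * e⁻¹ := by group
      _ = _ := by rw [h1.eq, mul_inv_cancel_right]
  obtain ⟨q1, hq1, hq1v⟩ := U.comm_nine_surj B.h8 hv
  obtain ⟨q, hq, hq'⟩ := U.comm_nine_surj B.h8 hq1
  set p := q * e * q⁻¹ * e⁻¹ with hp
  have hpQ : p ∈ U.Qa B.h8 := (U.comm_nine B.h8 hq).1
  have hpv : p * e * p⁻¹ * e⁻¹ = v ∨ p * e * p⁻¹ * e⁻¹ = U.tq * v := by
    rcases hq' with h | h <;> rw [h]
    · exact hq1v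
    · rw [tcomm hq1]; exact hq1v
  obtain ⟨c, hc, hz⟩ := B.comm_step hq
  obtain ⟨c', hc', hz2⟩ := B.comm_step hpQ
  rw [← hn, ← he] at hz hz2
  rw [← hp] at hz
  set x := q * (n * q * n⁻¹) with hx
  set z := x * e * x⁻¹ * e⁻¹ with hzdef
  set w := p * e * p⁻¹ * e⁻¹ with hw
  have hwQ : w ∈ U.Qa B.h8 := (U.comm_nine B.h8 hpQ).1
  have hD := B.Qa_le_Du
  have hxD : x ∈ B.Du := mul_mem (hD.1 hq) (hD.2 (B.nd_conj hq))
  have hzD : z ∈ B.Du := mul_mem (mul_mem (mul_mem hxD B.nine_mem) (inv_mem hxD)) (inv_mem B.nine_mem)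
  have hcc : ∀ {d : G}, d ∈ B.Ut → ∀ {y : G}, y ∈ B.Du → d * y = y * d := fun hd _ hy =>
    Subgroup.mem_centralizer_iff.mp hy _ hd
  have hzn : n * z = z * n := by
    set c0 := (q * (n * q * n⁻¹) * q⁻¹ * (n * q * n⁻¹)⁻¹)⁻¹ with hc0
    have hc0U : c0 ∈ B.Ut := inv_mem (B.comm_mem_Ut hq (B.nd_conj hq))
    have hnx : n * x * n⁻¹ = c0 * x := by
      have hni : n⁻¹ = n := inv_eq_of_mul_eq_one_right n2
      have : n * x * n⁻¹ = n * q * n⁻¹ * q := by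
        rw [hx, hni, show n * (q * (n * q * n)) * n = n * q * n * q * (n * n) by group, n2, mul_one]
      rw [this, hx, hc0]; group
    have h : n * z * n⁻¹ = z := by
      have hne : n * e * n⁻¹ = e := by rw [n9, mul_inv_cancel_right]
      calc n * z * n⁻¹ = n * x * n⁻¹ * (n * e * n⁻¹) * (n * x * n⁻¹)⁻¹ * (n * e * n⁻¹)⁻¹ := by
            rw [hzdef]; group
        _ = c0 * (x * e * x⁻¹) * c0⁻¹ * e⁻¹ := by rw [hne, hnx]; group
        _ = z := by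
          rw [hcc hc0U (mul_mem (mul_mem hxD B.nine_mem) (inv_mem hxD)), mul_inv_cancel_right, hzdef]
    exact mul_inv_eq_iff_eq_mul.mp h
  have hzg : g * z * g⁻¹ ∈ B.D0 := Subgroup.mem_centralizer_iff.mpr fun y hy => by
    obtain ⟨σ, hσ, rfl⟩ := hy
    have hcom : Commute z (B.L2.ρ (gam⁻¹ * σ * gam)) := by
      rcases (e0_conj σ hσ).2 with h | h
      · exact (hcc (B.mem_Ut.mpr h) hzD).symm
      · have h1 : Commute z (B.L2.ρ (sU * sV)) := hzn.symm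
        have h2 : Commute z (B.L2.ρ (sU * sV * (gam⁻¹ * σ * gam))) := (hcc (B.mem_Ut.mpr h) hzD).symm
        have h3 := h1.inv_right.mul_right h2
        rwa [← map_inv, ← map_mul, inv_mul_cancel_left] at h3
    have e1 : B.L2.ρ σ = g * B.L2.ρ (gam⁻¹ * σ * gam) * g⁻¹ := by
      rw [hg, gm, ← map_inv, ← map_mul, ← map_mul]; congr 1; group
    rw [e1, conj_mul, conj_mul, hcom.eq]
  have hz2eq : z * e * z⁻¹ * e⁻¹ = c' * (w * (n * w * n⁻¹)) := by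
    rw [← hz2, hz]
    have hy : p * (n * p * n⁻¹) * e * (p * (n * p * n⁻¹))⁻¹ ∈ B.Du :=
      mul_mem (mul_mem (mul_mem (hD.1 hpQ) (hD.2 (B.nd_conj hpQ))) B.nine_mem)
        (inv_mem (mul_mem (hD.1 hpQ) (hD.2 (B.nd_conj hpQ))))
    calc _ = c * (p * (n * p * n⁻¹) * e * (p * (n * p * n⁻¹))⁻¹) * c⁻¹ * e⁻¹ := by group
      _ = _ := by rw [hcc hc hy, mul_inv_cancel_right]
  -- membership in the core
  have hz2N : z * e * z⁻¹ * e⁻¹ ∈ N := by
    rw [hz2eq]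
    exact mul_mem (hN.H_le hc') (mul_mem ((B.Qa_le_Nu hN).1 hwQ) ((B.Qa_le_Nu hN).2 (B.nd_conj hwQ)))
  have hcop : (orderOf (g * (z * e * z⁻¹ * e⁻¹) * g⁻¹)).Coprime 3 := by
    rw [show g * (z * e * z⁻¹ * e⁻¹) * g⁻¹ = MulAut.conj g (z * e * z⁻¹ * e⁻¹) from rfl, MulEquiv.orderOf_eq]
    exact hN.coprime.coprime_dvd_left (Subgroup.orderOf_dvd_natCard N hz2N)
  have hge : g * e * g⁻¹ = e := by rw [g9, mul_inv_cancel_right]
  have hz2g : g * (z * e * z⁻¹ * e⁻¹) * g⁻¹ = g * z * g⁻¹ * e * (g * z * g⁻¹)⁻¹ * e⁻¹ := by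
    calc _ = g * z * g⁻¹ * (g * e * g⁻¹) * (g * z * g⁻¹)⁻¹ * (g * e * g⁻¹)⁻¹ := by group
      _ = _ := by rw [hge]
  have hmem : g * (z * e * z⁻¹ * e⁻¹) * g⁻¹ ∈ N0 := by
    obtain ⟨i, j, n0, hn0, -, hj, hd⟩ := hN0.dec _ hzg
    rw [hz2g, hd] at hcop ⊢
    interval_cases j
    · rw [pow_zero, mul_one, show n0 * e ^ i * e * (n0 * e ^ i)⁻¹ * e⁻¹ =
        n0 * (e * n0⁻¹ * e⁻¹) by group] at hcop ⊢
      exact mul_mem hn0 (hN0.normal e B.nine_D0 _ (inv_mem hn0))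
    · have h1 : e ^ i * U.f (of 108) * e * (e ^ i * U.f (of 108))⁻¹ = e⁻¹ := by
        calc _ = e ^ i * (U.f (of 108) * e * (U.f (of 108))⁻¹) * (e ^ i)⁻¹ := by group
          _ = e⁻¹ := by rw [B.flip_nine, ← he]; group
      have h2 : n0 * e ^ i * U.f (of 108) ^ 1 * e * (n0 * e ^ i * U.f (of 108) ^ 1)⁻¹ * e⁻¹ =
          n0 * (e⁻¹ * n0⁻¹ * e⁻¹⁻¹) * e ^ 1 := by
        calc _ = n0 * (e ^ i * U.f (of 108) * e * (e ^ i * U.f (of 108))⁻¹) * n0⁻¹ * e⁻¹ := by group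
          _ = n0 * (e⁻¹ * n0⁻¹ * e⁻¹⁻¹) * (e⁻¹ * e⁻¹) := by rw [h1]; group
          _ = _ := by
            rw [pow_one, show e⁻¹ * e⁻¹ = e from by
              rw [← mul_inv_rev]; exact inv_eq_of_mul_eq_one_right (X.cube' B.L2.e_mem)]
      rw [h2] at hcop ⊢
      exact hN0.mem_of_coprime B.nine_D0 (X.cube _ B.L2.e_mem)
        (mul_mem hn0 (hN0.normal e⁻¹ (inv_mem B.nine_D0) _ (inv_mem hn0))) 1 hcop
  set y := w * (n * w * n⁻¹) with hydef
  have hyD : y ∈ B.Du := mul_mem (hD.1 hwQ) (hD.2 (B.nd_conj hwQ))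
  have hy2 : y * y = 1 := by
    have h := B.N0_sq hN0 hmem
    rw [hz2eq, conj_mul, conj_eq_one_iff,
      (show Commute c' y from hcc hc' hyD).symm.mul_mul_mul_comm, B.Ut_sq hc', one_mul] at h
    exact h
  have hwc : w * (n * w * n⁻¹) = n * w * n⁻¹ * w := by
    obtain ⟨h2a, h2b⟩ := U.Qa_two_els B.h8 hwQ
    rcases h2b with h | h
    · rcases h2a h with e1 | e1 <;> rw [e1]
      · simp
      · rw [nt, mul_inv_cancel_right]
    · set w' := n * w * n⁻¹ with hw'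
      have hw't : w' * w' = U.tq := by rw [hw', conj_mul, h, nt, mul_inv_cancel_right]
      have hwt : Commute w U.tq := hwQ.1.2.1
      have hw'c : Commute w' U.tq := ((Commute.mul_left nt hwQ.1.2.1).mul_left (Commute.inv_left nt))
      have key : w * w' = w'⁻¹ * w⁻¹ := by
        rw [← mul_inv_rev]; exact eq_inv_of_mul_eq_one_left (by rw [hydef] at hy2; exact hy2)
      have a1 : w'⁻¹ = U.tq * w' := inv_eq_of_mul_eq_one_left (by rw [mul_assoc, hw't, ht2])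
      have a2 : w⁻¹ = U.tq * w := inv_eq_of_mul_eq_one_left (by rw [mul_assoc, h, ht2])
      rw [key, a1, a2, hw'c.mul_mul_mul_comm, ht2, one_mul]
  -- from the representative to `v`
  have hvw : v * (n * v * n⁻¹) = w * (n * w * n⁻¹) ∧
      (v * (n * v * n⁻¹) = n * v * n⁻¹ * v) := by
    rcases hpv with h | h
    · rw [← h]; exact ⟨rfl, hwc⟩
    · have hv' : v = U.tq * w := by rw [h, ← mul_assoc, ht2, one_mul]
      have hnt : n * U.tq * n⁻¹ = U.tq := by rw [nt, mul_inv_cancel_right]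
      have c1 : Commute U.tq w := hwQ.1.2.1.symm
      have c2 : Commute U.tq (n * w * n⁻¹) :=
        (((show Commute U.tq n from nt.symm).mul_right c1).mul_right (show Commute U.tq n from nt.symm).inv_right)
      have e1 : n * v * n⁻¹ = U.tq * (n * w * n⁻¹) := by rw [hv', ← conj_mul, hnt]
      rw [e1, hv', c1.symm.mul_mul_mul_comm, c2.symm.mul_mul_mul_comm, ht2, one_mul, one_mul]
      exact ⟨rfl, hwc⟩
  refine ⟨hvw.2, ?_⟩
  rw [hvw.1]
  -- the part in the four transpositions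
  have hsplit : g * (z * e * z⁻¹ * e⁻¹) * g⁻¹ = g * c' * g⁻¹ * (g * y * g⁻¹) := by
    rw [hz2eq, conj_mul]
  have hc'N : g * c' * g⁻¹ ∈ B.E0 := by
    obtain ⟨τ, hτ, rfl⟩ := hc'
    have hcn : Commute (B.L2.ρ τ) n := by
      have h1 : Commute (z * e * z⁻¹ * e⁻¹) n :=
        ((((show Commute z n from hzn.symm)).mul_left n9.symm).mul_left
          (show Commute z n from hzn.symm).inv_left).mul_left (show Commute e n from n9.symm).inv_left
      have hni : n⁻¹ = n := inv_eq_of_mul_eq_one_right n2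
      have h2 : Commute y n := by
        show y * n = n * y
        have hh : n * y * n⁻¹ = y := by
          rw [hydef, ← conj_mul, show n * (n * w * n⁻¹) * n⁻¹ = w by
            rw [hni, show n * (n * w * n) * n = (n * n) * w * (n * n) by group, n2, one_mul, mul_one]]
          exact hwc.symm
        exact (mul_inv_eq_iff_eq_mul.mp hh).symm
      rw [hz2eq] at h1
      have h3 := h1.mul_left h2.inv_left
      rwa [mul_inv_cancel_right] at h3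
    rw [hg, gm, ← map_inv, ← map_mul, ← map_mul]
    refine B.mem_E0.mpr (mem_E0S.mpr ?_)
    have ht8 : ∀ σ : P6, σ ∈ S8 → σ * (sU * sV) = sU * sV * σ →
        gam * σ * gam⁻¹ ∈ E0S := by decide +kernel
    refine mem_E0S.mp (ht8 τ hτ (B.L2.inj ?_))
    rw [map_mul, map_mul (f := B.L2.ρ) (sU * sV) τ]
    exact hcn.eq
  rw [hsplit] at hmem
  have := mul_mem (inv_mem (hN0.H_le hc'N)) hmem
  rwa [inv_mul_cancel_left] at this

/-- The two quaternion groups commute. -/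
theorem comm_Qa {v w : G} (hv : v ∈ U.Qa B.h8) (hw : w ∈ U.Qa B.h8) :
    v * (B.nd * w * B.nd⁻¹) = B.nd * w * B.nd⁻¹ * v := by
  obtain ⟨n2, n9, nt, n13, n17⟩ := B.nd_facts
  obtain ⟨htC, ht2, -, -, -⟩ := U.tq_facts B.h8
  set n := B.nd
  rcases eq_or_ne v 1 with rfl | h1
  · simp
  rcases eq_or_ne v U.tq with rfl | h2
  · exact ((show Commute U.tq n from nt.symm).mul_right hw.1.2.1.symm).mul_right
      (show Commute U.tq n from nt.symm).inv_right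
  let A := Subgroup.centralizer ({n⁻¹ * v * n} : Set G)
  have hA : ∀ {u : G}, (u ∈ A ↔ v * (n * u * n⁻¹) = n * u * n⁻¹ * v) := fun {u} => by
    rw [mem_centralizer_iff']
    constructor <;> intro h
    · calc v * (n * u * n⁻¹) = n * (n⁻¹ * v * n * u) * n⁻¹ := by group
        _ = n * (u * (n⁻¹ * v * n)) * n⁻¹ := by rw [h]
        _ = _ := by group
    · calc u * (n⁻¹ * v * n) = n⁻¹ * (n * u * n⁻¹ * v) * n := by group
        _ = n⁻¹ * (v * (n * u * n⁻¹)) * n := by rw [h]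
        _ = _ := by group
  have hav : X.a * v = v * X.a := (mem_centralizer_iff'.mp hv.1.1).symm
  have rot : ∀ {u : G}, u ∈ U.Qa B.h8 → u ∈ A → U.ι 18 * u * (U.ι 18)⁻¹ ∈ A := by
    intro u hu huA
    rw [hA] at huA ⊢
    have hua : Commute X.a u := (mem_centralizer_iff'.mp hu.1.1).symm
    have h17 : U.ι 17 * u * (U.ι 17)⁻¹ = U.ι 18 * u * (U.ι 18)⁻¹ := by
      rw [← wt_w2.2.2.2.2.2, U.ι_add (by norm_num) (by norm_num), ← U.inv_a]
      have hc : Commute X.a⁻¹ (U.ι 18) := X.comm _ (inv_mem X.a_mem_J) _ (U.ι_mem (by norm_num))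
      calc X.a⁻¹ * U.ι 18 * u * (X.a⁻¹ * U.ι 18)⁻¹ = U.ι 18 * (X.a⁻¹ * u * X.a) * (U.ι 18)⁻¹ := by
            rw [hc.eq]; group
        _ = _ := by rw [hua.inv_left.eq, inv_mul_cancel_right]
    have han : X.a * (n * u * n⁻¹) * X.a⁻¹ = n * (U.ι 18 * u * (U.ι 18)⁻¹) * n⁻¹ := by
      rw [← h17, ← U.ι_thirteen, ← n17]; group
    rw [← han]
    calc v * (X.a * (n * u * n⁻¹) * X.a⁻¹) = X.a * (X.a⁻¹ * (v * X.a) * (n * u * n⁻¹)) * X.a⁻¹ := by group
      _ = X.a * (v * (n * u * n⁻¹)) * X.a⁻¹ := by rw [← hav, inv_mul_cancel_left]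
      _ = X.a * (n * u * n⁻¹ * v) * X.a⁻¹ := by rw [huA]
      _ = X.a * (n * u * n⁻¹) * (v * X.a⁻¹) := by group
      _ = X.a * (n * u * n⁻¹) * (X.a⁻¹ * v) := by
        rw [((show Commute X.a v from hav).inv_left).eq]
      _ = _ := by group
  have hvA : v ∈ A := hA.mpr (B.comm_Qa_self hv).1
  have e9 : U.ι 9 * v * (U.ι 9)⁻¹ ∈ A := by
    have h18 : U.ι 18 = U.ι 9 * U.ι 9 := by
      rw [← U.ι_add (by norm_num) (by norm_num), wt_p0.2.2.2.2.2.2.1]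
    have hv2 : U.ι 18 * v * (U.ι 18)⁻¹ ∈ U.Qa B.h8 := by
      rw [h18, show U.ι 9 * U.ι 9 * v * (U.ι 9 * U.ι 9)⁻¹ =
        U.ι 9 * (U.ι 9 * v * (U.ι 9)⁻¹) * (U.ι 9)⁻¹ by group]
      exact U.nine_conj B.h8 (U.nine_conj B.h8 hv)
    have h := rot hv2 (rot hv hvA)
    have e : U.ι 18 * U.ι 18 = U.ι 9 := by
      rw [h18, ← mul_assoc, X.cube' B.L2.e_mem, one_mul]
    rwa [show U.ι 18 * (U.ι 18 * v * (U.ι 18)⁻¹) * (U.ι 18)⁻¹ = U.ι 18 * U.ι 18 * v * (U.ι 18 * U.ι 18)⁻¹ by group,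
      e] at h
  have htA : U.tq ∈ A := hA.mpr (by rw [nt, mul_inv_cancel_right]; exact hv.1.2.1)
  exact hA.mp (U.Qa_le B.h8 htA hv hvA h1 h2 e9 hw)

end Big

end CfsgLib.PSpFourThree
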