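import Cfsg.Agent.Lib.PSpFourThree.Eight.Classes
import Cfsg.Agent.Lib.PSpFourThree.KindTwo
import Cfsg.Agent.S0215

/-!
The large case: the centralizer of the fixed involution and a pair normalizes the elementary group.
-/

set_option autoImplicit false
set_option maxRecDepth 20000
set_option linter.style.haveILetI false
set_option linter.unusedSectionVars false

namespace CfsgLib.PSpFourThree

open CfsgLib.SymNineThree CfsgLib.SymNineThree.Mon
open CfsgLib.SymNineThree.Six (sA sB sU sV sW sT)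

attribute [local instance 2000] List.decidableBAll List.decidableBEx

theorem gam_pre : gam⁻¹ * sU * gam ∈ S8 ∧ gam⁻¹ * sT * gam ∈ S8 ∧ gam⁻¹ * sV * gam ∈ S8 := by
  refine ⟨?_, ?_, ?_⟩ <;> decide +kernel

theorem cent_sU_words : ∀ σ : P6, σ * sU = sU * σ → ∃ a : Fin 2, ∃ d : Fin 4, ∃ b : Fin 3, ∃ c : Fin 2,
    sU ^ (a : ℕ) * (([1, dA, dB, dA * dB] : List P6).getD d 1) * sB ^ (b : ℕ) * sV ^ (c : ℕ) = σ := by
  decide +kernel

theorem conj_uT : ∃ γ : P6, γ * (sU * sT) * γ⁻¹ = sU * sV := by decide +kernel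

theorem sT_ne : sT ≠ sV := by decide +kernel

/-- A fixed point free automorphism of order two of a subgroup inverts it. -/
theorem inverts_of_fpf {Q : Type*} [Group Q] [Finite Q] {N : Subgroup Q} {p : Q}
    (hN : ∀ a ∈ N, p * a * p⁻¹ ∈ N) (hp : p * p = 1) (hfix : ∀ a ∈ N, p * a * p⁻¹ = a → a = 1)
    {a : Q} (ha : a ∈ N) : p * a * p⁻¹ = a⁻¹ := by
  let φ : N → N := fun x => ⟨(x : Q)⁻¹ * (p * x * p⁻¹), mul_mem (inv_mem x.2) (hN x x.2)⟩
  have hinj : Function.Injective φ := by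
    intro x y h
    have h' : (x : Q)⁻¹ * (p * x * p⁻¹) = (y : Q)⁻¹ * (p * y * p⁻¹) := congrArg Subtype.val h
    have e : p * ((y : Q) * (x : Q)⁻¹) * p⁻¹ = (y : Q) * (x : Q)⁻¹ := by
      calc p * ((y : Q) * (x : Q)⁻¹) * p⁻¹ =
            y * ((y : Q)⁻¹ * (p * y * p⁻¹)) * ((x : Q)⁻¹ * (p * x * p⁻¹))⁻¹ * (x : Q)⁻¹ := by group
        _ = _ := by rw [h']; group
    exact Subtype.ext (mul_inv_eq_one.mp (hfix _ (mul_mem y.2 (inv_mem x.2)) e)).symm
  obtain ⟨x, hx⟩ := Finite.injective_iff_surjective.mp hinj ⟨a, ha⟩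
  have e : a = (x : Q)⁻¹ * (p * x * p⁻¹) := (congrArg Subtype.val hx).symm
  have hpi : p⁻¹ = p := inv_eq_of_mul_eq_one_right hp
  rw [e, hpi]
  calc p * ((x : Q)⁻¹ * (p * x * p)) * p = p * (x : Q)⁻¹ * p * x * (p * p) := by group
    _ = (p⁻¹ * (x : Q)⁻¹ * p⁻¹) * x := by rw [hp, mul_one, hpi]
    _ = _ := by group

universe u

variable {G : Type u} [Group G] [Finite G] {X : Ctx G}

namespace Big

variable {U : Coord X} (B : Big U)

include B

theorem commute_three {x : G} (h1 : Commute x (B.L2.ρ sU)) (h2 : Commute x (B.L2.ρ sT))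
    (h3 : Commute x (B.L2.ρ sV)) {τ : P6} (hτ : τ ∈ S8) :
    Commute x (B.L2.ρ (gam * τ * gam⁻¹)) := by
  obtain ⟨ρ, hρ, e⟩ := List.any_eq_true.mp (s8_gam τ hτ)
  rw [beq_iff_eq] at e
  rw [← e]
  simp only [List.mem_cons, List.not_mem_nil, or_false] at hρ
  rcases hρ with rfl | rfl | rfl | rfl | rfl | rfl | rfl | rfl <;> try simp only [map_one, map_mul]
  · exact Commute.one_right _
  · exact h1
  · exact h2
  · exact h3
  · exact h1.mul_right h2
  · exact h1.mul_right h3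
  · exact h2.mul_right h3
  · exact (h1.mul_right h2).mul_right h3

theorem norm_cent_sU {σ : P6} (h : σ * sU = sU * σ) :
    B.L2.ρ σ ∈ Subgroup.normalizer (B.E32 : Set G) := by
  obtain ⟨a, d, b, c, e⟩ := cent_sU_words σ h
  rw [← e]
  set M := (Subgroup.normalizer (B.E32 : Set G)).comap B.L2.ρ
  have hE : ∀ {τ : P6}, τ ∈ E0S → τ ∈ M := fun hτ =>
    B.D0_norm (B.E32_le_D0 (Subgroup.mem_sup_left (B.mem_E0.mpr hτ)))
  have hB : sB ∈ M := by
    show B.L2.ρ sB ∈ Subgroup.normalizer (B.E32 : Set G)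
    rw [B.vB]; exact B.W_norm B.three_vals.1
  have hV : sV ∈ M := by
    show B.L2.ρ sV ∈ Subgroup.normalizer (B.E32 : Set G)
    rw [B.vV, ← B.vals0.2.2.1]; exact B.L0_norm _
  refine (mul_mem (mul_mem (mul_mem (pow_mem (hE e0_mem.1) a) ?_) (pow_mem hB b)) (pow_mem hV c) : _ ∈ M)
  fin_cases d
  · exact one_mem _
  · exact hE e0_mem.2.1
  · exact hE e0_mem.2.2.1
  · exact mul_mem (hE e0_mem.2.1) (hE e0_mem.2.2.1)

theorem flip_alpha : Commute (U.f (of 108)) (U.f (of 3)) := by rw [← B.vU]; exact B.flip_two sU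

/-- The stabilizer of the pair of flips. -/
theorem cent_flip_le {g : G} (hga : g * U.f (of 3) = U.f (of 3) * g)
    (h1 : g * U.f (of 18) * g⁻¹ = U.f (of 18) ∧ g * B.L2.ρ sT * g⁻¹ = B.L2.ρ sT ∨
      g * U.f (of 18) * g⁻¹ = B.L2.ρ sT ∧ g * B.L2.ρ sT * g⁻¹ = U.f (of 18)) : g ∈ B.HH := by
  classical
  haveI : Fact (Nat.Prime 3) := ⟨Nat.prime_three⟩
  refine ⟨?_, mem_centralizer_iff'.mpr hga⟩
  obtain ⟨N, hN⟩ := B.exists_Nu
  obtain ⟨g9, g108⟩ := B.gm_facts
  set e := U.ι 9 with he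
  set k := B.gm with hk
  set y := g * e * g⁻¹ with hy
  have tr : ∀ {p q : G}, g * p * g⁻¹ = q → Commute e p → Commute y q := fun h hc => by
    show _ = _
    rw [← h, hy, conj_mul, conj_mul, hc.eq]
  have cU : Commute y (B.L2.ρ sU) := by
    rw [B.vU]
    exact tr (by rw [hga, mul_inv_cancel_right]) (by rw [← B.vU]; exact (B.L2.comm sU).symm)
  have c9V : Commute e (U.f (of 18)) := by rw [← B.vV]; exact (B.L2.comm sV).symm
  have c9T : Commute e (B.L2.ρ sT) := (B.L2.comm sT).symm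
  have cVT : Commute y (B.L2.ρ sT) ∧ Commute y (B.L2.ρ sV) := by
    rw [B.vV]
    rcases h1 with ⟨a, b⟩ | ⟨a, b⟩
    · exact ⟨tr b c9T, tr a c9V⟩
    · exact ⟨tr a c9V, tr b c9T⟩
  have hy' : k⁻¹ * y * k ∈ B.Du := Subgroup.mem_centralizer_iff.mpr fun z hz => by
    obtain ⟨τ, hτ, rfl⟩ := hz
    have h := (B.commute_three cU cVT.1 cVT.2 hτ).eq
    rw [map_mul, map_mul, map_inv, show B.L2.ρ gam = k from rfl] at h
    calc B.L2.ρ τ * (k⁻¹ * y * k) = k⁻¹ * (k * B.L2.ρ τ * k⁻¹ * y) * k := by group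
      _ = k⁻¹ * (y * (k * B.L2.ρ τ * k⁻¹)) * k := by rw [h]
      _ = _ := by group
  set y' := k⁻¹ * y * k with hy'def
  have hy3 : y' ^ 3 = 1 := by
    rw [hy'def, show k⁻¹ * y * k = (k⁻¹ * g) * e * (k⁻¹ * g)⁻¹ by rw [hy]; group, conj_pow,
      X.cube _ B.L2.e_mem, mul_one, mul_inv_cancel]
  have hy1 : y' ≠ 1 := fun h => B.L2.e_ne (by
    rw [hy'def, show k⁻¹ * y * k = (k⁻¹ * g) * e * (k⁻¹ * g)⁻¹ by rw [hy]; group, conj_eq_one_iff] at h
    exact h)
  -- Sylow subgroups of order three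
  have hcard : ¬ 9 ∣ Nat.card B.Du := by
    intro h9
    have hle : Nat.card B.Du ≤ 3 * 2 * Nat.card N := by
      have hs : Function.Surjective (fun p : (Fin 3 × Fin 2) × N =>
          (⟨(p.2 : G) * e ^ (p.1.1 : ℕ) * U.f (of 108) ^ (p.1.2 : ℕ),
            mul_mem (mul_mem (hN.le p.2.2) (pow_mem B.nine_mem _)) (pow_mem B.flip_mem _)⟩ : B.Du)) := by
        rintro ⟨d, hd⟩
        obtain ⟨i, j, n, hn, hi, hj, rfl⟩ := hN.dec d hd
        exact ⟨((⟨i, hi⟩, ⟨j, hj⟩), ⟨n, hn⟩), rfl⟩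
      have := Nat.card_le_card_of_surjective _ hs
      rwa [Nat.card_prod, Nat.card_prod, Nat.card_fin, Nat.card_fin] at this
    obtain ⟨q, hq⟩ := Subgroup.card_dvd_of_le hN.le
    have hc : (9 : ℕ).Coprime (Nat.card N) := by
      rw [show 9 = 3 ^ 2 from rfl]; exact hN.coprime.symm.pow_left 2
    rw [hq] at h9 hle
    have h9q := hc.dvd_of_dvd_mul_left h9
    have hq6 : q ≤ 6 := Nat.le_of_mul_le_mul_left (by rw [mul_comm (Nat.card N) 6]; exact hle) Nat.card_pos
    have hq0 : 0 < q := by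
      rcases Nat.eq_zero_or_pos q with rfl | h
      · rw [mul_zero] at hq; exact absurd hq Nat.card_pos.ne'
      · exact h
    have := Nat.le_of_dvd hq0 h9q
    omega
  let eD : B.Du := ⟨e, B.nine_mem⟩
  let yD : B.Du := ⟨y', hy'⟩
  have ord : ∀ z : B.Du, (z : G) ^ 3 = 1 → (z : G) ≠ 1 → Nat.card (Subgroup.zpowers z) = 3 := fun z h3 hne => by
    rw [Nat.card_zpowers]
    exact orderOf_eq_prime (Subtype.ext h3) fun h => hne (congrArg Subtype.val h)
  have hf : (Nat.card B.Du).factorization 3 = 1 := by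
    have h3 : 3 ∣ Nat.card B.Du := by
      rw [← ord eD (X.cube _ B.L2.e_mem) B.L2.e_ne]; exact Subgroup.card_subgroup_dvd_card _
    have := Nat.prime_three.factorization_pos_of_dvd Nat.card_pos.ne' h3
    by_contra hne
    exact hcard ((Nat.prime_three.pow_dvd_iff_le_factorization Nat.card_pos.ne').mpr
      (show 2 ≤ (Nat.card B.Du).factorization 3 by omega))
  let P : Sylow 3 B.Du := Sylow.ofCard (Subgroup.zpowers eD)
    (by rw [ord eD (X.cube _ B.L2.e_mem) B.L2.e_ne, hf, pow_one])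
  let Q : Sylow 3 B.Du := Sylow.ofCard (Subgroup.zpowers yD) (by rw [ord yD hy3 hy1, hf, pow_one])
  obtain ⟨d, hd⟩ := MulAction.exists_smul_eq B.Du Q P
  have hmem : d * yD * d⁻¹ ∈ Subgroup.zpowers eD := by
    have h : d * yD * d⁻¹ ∈ ((d • Q : Sylow 3 B.Du) : Subgroup B.Du) :=
      ⟨yD, Subgroup.mem_zpowers yD, rfl⟩
    rw [hd] at h
    exact h
  obtain ⟨n, hn⟩ := (Submonoid.mem_powers_iff _ _).mp (mem_powers_iff_mem_zpowers.mpr hmem)
  have hn' : (d : G) * y' * (d : G)⁻¹ = e ^ n := (congrArg Subtype.val hn).symm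
  set l := k * d * k⁻¹ with hl
  have hlN : l ∈ Subgroup.normalizer (B.E32 : Set G) := B.Ug_norm fun τ hτ => by
    have h := Subgroup.mem_centralizer_iff.mp d.2 _ (B.mem_Ut.mpr hτ)
    rw [map_mul, map_mul, map_inv, show B.L2.ρ gam = k from rfl, hl, conj_mul, conj_mul, h]
  have hla : Commute l (U.f (of 3)) := by
    have h := Subgroup.mem_centralizer_iff.mp d.2 _ (B.mem_Ut.mpr gam_pre.1)
    have e' : U.f (of 3) = k * B.L2.ρ (gam⁻¹ * sU * gam) * k⁻¹ := by
      rw [← B.vU, map_mul, map_mul, map_inv, show B.L2.ρ gam = k from rfl]; group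
    show _ = _
    rw [e', hl, conj_mul, conj_mul, h]
  have hke : k * e * k⁻¹ = e := by rw [g9, mul_inv_cancel_right]
  have hconj : l * g * e * (l * g)⁻¹ = e ^ n := by
    calc l * g * e * (l * g)⁻¹ = k * (d * y' * (d : G)⁻¹) * k⁻¹ := by rw [hl, hy'def, hy]; group
      _ = e ^ n := by rw [hn', ← conj_pow, hke]
  have finish : ∀ z : G, z ∈ Subgroup.normalizer (B.E32 : Set G) → Commute z (U.f (of 3)) →
      z * (l * g) * e = e * (z * (l * g)) → g ∈ Subgroup.normalizer (B.E32 : Set G) := by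
    intro z hz hza hze
    obtain ⟨i, σ, hσ⟩ := B.L2.surj _ hze
    have hc : Commute (z * (l * g)) (U.f (of 3)) := hza.mul_left (hla.mul_left hga)
    rw [hσ, ← B.vU] at hc
    have hs : σ * sU = sU * σ := by
      have h := hc.eq
      rw [mul_assoc, ← map_mul, ← mul_assoc (B.L2.ρ sU), B.L2.comm_pow sU i, mul_assoc, ← map_mul] at h
      exact B.L2.inj (mul_left_cancel h)
    have h2 : z * (l * g) ∈ Subgroup.normalizer (B.E32 : Set G) := by
      rw [hσ]; exact mul_mem (B.D0_norm (pow_mem B.nine_D0 i)) (B.norm_cent_sU hs)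
    have h3 := mul_mem (inv_mem (mul_mem hz hlN)) h2
    rwa [show (z * l)⁻¹ * (z * (l * g)) = g by group] at h3
  rw [pow_eq_pow_mod n (X.cube _ B.L2.e_mem)] at hconj
  have := Nat.mod_lt n (show 0 < 3 by norm_num)
  interval_cases hm : n % 3
  · exact absurd (conj_eq_one_iff.mp (hconj.trans (pow_zero e))) B.L2.e_ne
  · refine finish 1 (one_mem _) (Commute.one_left _) ?_
    rw [one_mul]
    exact mul_inv_eq_iff_eq_mul.mp (hconj.trans (pow_one e))
  · refine finish (U.f (of 108)) (B.D0_norm B.flip_D0) B.flip_alpha ?_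
    refine mul_inv_eq_iff_eq_mul.mp ?_
    calc U.f (of 108) * (l * g) * e * (U.f (of 108) * (l * g))⁻¹ =
        U.f (of 108) * (l * g * e * (l * g)⁻¹) * (U.f (of 108))⁻¹ := by group
      _ = (U.f (of 108) * e * (U.f (of 108))⁻¹) ^ 2 := by rw [hconj, conj_pow]
      _ = e := by
        rw [he, B.flip_nine, inv_pow, inv_eq_iff_mul_eq_one, pow_two]
        exact X.cube' B.L2.e_mem

theorem only_rT : U.Only (U.f (of 3) * B.L2.ρ sT) [1] := by
  obtain ⟨γ, hγ⟩ := conj_uT
  have h := Coord.Only.conj U B.only_nd (B.L2.ρ γ)⁻¹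
  rw [nd, ← hγ, map_mul, map_mul, map_inv] at h
  rw [← B.vU, ← map_mul]
  simpa [mul_assoc] using h

theorem r2_eq : B.L2.ρ sT = B.pr 1 2 * U.f (of 18) := by
  rw [B.pr_one_two, ← B.vV, ← map_mul]
  exact congrArg _ (by decide +kernel)

/-- The centralizer of the fixed involution and of a pair. -/
theorem cent_pair_base {g : G} (hga : g * U.f (of 3) = U.f (of 3) * g)
    (hgu : g * B.pr 1 2 = B.pr 1 2 * g) : g ∈ B.HH := by
  classical
  haveI : Fact (Nat.Prime 2) := ⟨Nat.prime_two⟩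
  obtain ⟨o18, o3, h18, h3, o21, -, -, -, -, -, -, -⟩ := B.class_facts
  obtain ⟨e18, e21, -, -, -, -⟩ := B.elem_eqs
  set α := U.f (of 3) with hα
  set u := B.pr 1 2 with hu
  set r := U.f (of 18) with hr
  set C2 := Subgroup.centralizer ({α} : Set G) ⊓ Subgroup.centralizer ({u} : Set G) with hC2
  have hau : Commute α u := B.E32_comm B.alpha_E (B.pr_mem 1 2)
  let Z : Subgroup G :=
    { carrier := {z | z = 1 ∨ z = α ∨ z = u ∨ z = α * u}
      one_mem' := Or.inl rfl
      mul_mem' := fun {a b} ha hb => by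
        have e1 : α * α = 1 := B.alpha_sq
        have e2 : u * u = 1 := B.pr_sq 1 2
        have e3 : u * α = α * u := hau.symm.eq
        have e4 : α * (α * u) = u := by rw [← mul_assoc, e1, one_mul]
        have e5 : u * (α * u) = α := by rw [← mul_assoc, e3, mul_assoc, e2, mul_one]
        have e6 : α * u * α = u := by rw [mul_assoc, e3, e4]
        have e7 : α * u * u = α := by rw [mul_assoc, e2, mul_one]
        have e8 : α * u * (α * u) = 1 := by rw [← mul_assoc, e6, e2]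
        rcases ha with rfl | rfl | rfl | rfl <;> rcases hb with rfl | rfl | rfl | rfl <;>
          simp [e1, e2, e3, e4, e5, e6, e7, e8]
      inv_mem' := fun {a} ha => by
        rcases ha with rfl | rfl | rfl | rfl
        · exact Or.inl inv_one
        · exact Or.inr (Or.inl (inv_eq_of_mul_eq_one_right B.alpha_sq))
        · exact Or.inr (Or.inr (Or.inl (inv_eq_of_mul_eq_one_right (B.pr_sq 1 2))))
        · exact Or.inr (Or.inr (Or.inr (inv_eq_of_mul_eq_one_right
            (B.E32_sq (mul_mem B.alpha_E (B.pr_mem 1 2)))))) }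
  have hZE : ∀ z ∈ Z, z ∈ B.E32 := by
    rintro z (rfl | rfl | rfl | rfl)
    · exact one_mem _
    · exact B.alpha_E
    · exact B.pr_mem 1 2
    · exact mul_mem B.alpha_E (B.pr_mem 1 2)
  have hEC : ∀ w ∈ B.E32, w ∈ C2 := fun w hw =>
    ⟨mem_centralizer_iff'.mpr (B.E32_comm hw B.alpha_E), mem_centralizer_iff'.mpr (B.E32_comm hw (B.pr_mem 1 2))⟩
  have hcen : ∀ z ∈ Z, ∀ x ∈ C2, Commute x z := by
    intro z hz x hx
    have ca : Commute x α := mem_centralizer_iff'.mp hx.1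
    have cu : Commute x u := mem_centralizer_iff'.mp hx.2
    rcases hz with rfl | rfl | rfl | rfl
    · exact Commute.one_right x
    · exact ca
    · exact cu
    · exact ca.mul_right cu
  set ZC := Z.subgroupOf C2 with hZC
  haveI : ZC.Normal := ⟨fun z hz c => by
    have e : c * z * c⁻¹ = z := Subtype.ext (by
      show (c : G) * z * (c : G)⁻¹ = z
      rw [(hcen z hz c c.2).eq, mul_inv_cancel_right])
    rw [e]; exact hz⟩
  let π := QuotientGroup.mk' ZC
  have hπ : Function.Surjective π := QuotientGroup.mk'_surjective ZC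
  have hπ1 : ∀ x : C2, π x = 1 ↔ (x : G) ∈ Z := fun x => QuotientGroup.eq_one_iff x
  have hrC : r ∈ C2 := by
    refine ⟨mem_centralizer_iff'.mpr ?_, mem_centralizer_iff'.mpr ?_⟩
    · rw [← e18]; exact (B.alpha_comm sU).symm
    · rw [hu, B.pr_one_two, hr, ← B.vV, ← map_mul, ← map_mul]
      exact congrArg _ (by decide +kernel)
  let rC : C2 := ⟨r, hrC⟩
  have hru : Commute r u := mem_centralizer_iff'.mp hrC.2
  have hαr : U.Only r [1, 2] ∧ U.Has r 2 := ⟨o18, h18⟩
  -- the coset of the flip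
  have coset : ∀ x : C2, π x * π rC = π rC * π x →
      (x : G) * r * (x : G)⁻¹ = r ∧ (x : G) * B.L2.ρ sT * (x : G)⁻¹ = B.L2.ρ sT ∨
        (x : G) * r * (x : G)⁻¹ = B.L2.ρ sT ∧ (x : G) * B.L2.ρ sT * (x : G)⁻¹ = r := by
    intro x hx
    have hz : (x : G) * r * (x : G)⁻¹ * r⁻¹ ∈ Z := (hπ1 (x * rC * x⁻¹ * rC⁻¹)).mp (by
      rw [map_mul, map_mul, map_mul, map_inv, map_inv, hx, mul_inv_cancel_right, mul_inv_cancel])
    have hxu : Commute (x : G) u := mem_centralizer_iff'.mp x.2.2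
    have hT : (x : G) * B.L2.ρ sT * (x : G)⁻¹ = u * ((x : G) * r * (x : G)⁻¹) := by
      rw [B.r2_eq, ← hu, ← hr, ← conj_mul, hxu.eq, mul_inv_cancel_right]
    rw [hT, B.r2_eq, ← hu, ← hr]
    set z := (x : G) * r * (x : G)⁻¹ * r⁻¹ with hzdef
    have hxr : (x : G) * r * (x : G)⁻¹ = z * r := by rw [hzdef]; group
    have hb2 : U.Has ((x : G) * r * (x : G)⁻¹) 2 := hαr.2.conj U _
    rw [hxr] at hb2 ⊢
    rcases hz with e | e | e | e <;> rw [e] at hb2 ⊢
    · exact Or.inl ⟨one_mul r, by rw [one_mul]⟩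
    · exfalso
      rw [hα, hr, e21] at hb2
      exact U.not_conj_of o21 hb2 (by simp) 1 (by simp)
    · refine Or.inr ⟨rfl, ?_⟩
      rw [← mul_assoc, B.pr_sq, one_mul]
    · exfalso
      rw [mul_assoc, hu, hr, ← B.r2_eq] at hb2
      exact U.not_conj_of B.only_rT hb2 (by simp) 1 (by simp [hα])
  -- isolation
  have iso : ∀ g : C2 ⧸ ZC, g * π rC * g⁻¹ * π rC = π rC * (g * π rC * g⁻¹) → g * π rC * g⁻¹ = π rC := by
    intro gq hgq
    obtain ⟨c, rfl⟩ := hπ gq
    rw [← map_inv, ← map_mul, ← map_mul] at hgq ⊢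
    set x := c * rC * c⁻¹ with hx
    have hxH : (x : G) ∈ B.HH := B.cent_flip_le (mem_centralizer_iff'.mp x.2.1) (coset x hgq)
    have hca : ∀ {p : G}, U.f (of 432) * α * (U.f (of 432))⁻¹ = r → (c : G) * r * (c : G)⁻¹ = p →
        ((c : G) * U.f (of 432)) * α * ((c : G) * U.f (of 432))⁻¹ = p := fun h h' => by
      rw [← h', ← h]; group
    have h432 : U.f (of 432) * α * (U.f (of 432))⁻¹ = r := by
      have hc := class_codes
      simp only [List.all_cons, List.all_nil, Bool.and_true, Bool.and_eq_true] at hc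
      exact U.conj_f B.h8 (by norm_num) (by norm_num) (by norm_num) hc.1
    have hx' : (x : G) = (c : G) * r * (c : G)⁻¹ := rfl
    have hcu : Commute (c : G) u := mem_centralizer_iff'.mp c.2.2
    have h432' : U.f (of 3) ≠ U.f (of 18) := fun h =>
      absurd (congrArg (fun z : Mon => (z.c : ℕ)) (U.f_inj (U.top8 B.h8 _) (U.top8 B.h8 _) h))
        (by rw [code_of (by norm_num), code_of (by norm_num)]; norm_num)
    have hne : (x : G) ≠ α := fun h => by
      rw [hx'] at h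
      refine h432' ?_
      have hca' : Commute (c : G) α := mem_centralizer_iff'.mp c.2.1
      calc α = (c : G)⁻¹ * α * c := by rw [mul_assoc, ← hca'.eq, inv_mul_cancel_left]
        _ = r := by rw [← h]; group
    have hxu : (x : G) * u ∈ B.HH := mul_mem hxH (B.E32_le_HH (B.pr_mem 1 2))
    have eT : (c : G) * B.L2.ρ sT * (c : G)⁻¹ = (x : G) * u := by
      rw [hx', B.r2_eq, ← hu, ← hr, hru.symm.eq]
      calc (c : G) * (r * u) * (c : G)⁻¹ = (c : G) * r * (c : G)⁻¹ * ((c : G) * u * (c : G)⁻¹) := by group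
        _ = _ := by rw [hcu.eq, mul_inv_cancel_right]
    obtain ⟨k, hk⟩ : ∃ k : G, k * α * k⁻¹ = B.L2.ρ sT := by
      obtain ⟨γ, hγ⟩ : ∃ γ : P6, γ * sU * γ⁻¹ = sT := by decide +kernel
      refine ⟨B.L2.ρ γ, ?_⟩
      rw [hα, ← B.vU, ← map_inv, ← map_mul, ← map_mul, hγ]
    rcases B.alpha_form hxH (g := (c : G) * U.f (of 432)) (hca h432 hx'.symm) with e1 | ⟨a, b, hab, hform⟩
    · exact absurd e1 hne
    rcases B.alpha_form hxu (g := (c : G) * k) (by rw [← eT, ← hk, ← hα]; group) with e2 | ⟨a', b', -, hform'⟩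
    · exfalso
      rcases hform with h | h <;> rw [h] at e2
      · have hd := B.dec_unique (B.pr_mem 1 2) B.alpha_E (σ := Equiv.swap a b) (τ := 1)
          (by rw [map_one, one_mul]; exact e2)
        exact hab (Equiv.swap_eq_one_iff.mp hd.1)
      · have hd := B.dec_unique (mul_mem (B.pr_mem a b) (B.pr_mem 1 2)) B.alpha_E (σ := Equiv.swap a b) (τ := 1)
          (by rw [map_one, one_mul, ← mul_assoc]; exact e2)
        exact hab (Equiv.swap_eq_one_iff.mp hd.1)
    obtain ⟨w, hw, hwe⟩ : ∃ w, (w = 1 ∨ w = B.pr a b) ∧ (x : G) = B.L0.ρ (Equiv.swap a b) * w := by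
      rcases hform with h | h
      · exact ⟨1, Or.inl rfl, by rw [h, mul_one]⟩
      · exact ⟨_, Or.inr rfl, h⟩
    obtain ⟨w', hw', hwe'⟩ : ∃ w', (w' = 1 ∨ w' = B.pr a' b') ∧
        (x : G) * u = B.L0.ρ (Equiv.swap a' b') * w' := by
      rcases hform' with h | h
      · exact ⟨1, Or.inl rfl, by rw [h, mul_one]⟩
      · exact ⟨_, Or.inr rfl, h⟩
    have hwE : ∀ {z : G} {p q : Fin 6}, (z = 1 ∨ z = B.pr p q) → z ∈ B.E32 := by
      rintro z p q (rfl | rfl)
      · exact one_mem _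
      · exact B.pr_mem _ _
    rw [hwe, mul_assoc] at hwe'
    obtain ⟨hsw, hww⟩ := B.dec_unique (mul_mem (hwE hw) (B.pr_mem 1 2)) (hwE hw') hwe'
    have h12 : B.pr 1 2 = B.pr a b := by
      have hpr : B.pr a' b' = B.pr a b := by
        have key : ∀ a b a' b' : Fin 6, a ≠ b → Equiv.swap a b = Equiv.swap a' b' →
            (a' = a ∧ b' = b ∨ a' = b ∧ b' = a) := by decide +kernel
        rcases key a b a' b' hab hsw with ⟨p, q⟩ | ⟨p, q⟩ <;> rw [p, q]
        exact B.pr_symm _ _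
      rw [hpr] at hw'
      have h1 : u = w⁻¹ * w' := by rw [← hww, inv_mul_cancel_left]
      rcases hw with rfl | rfl <;> rcases hw' with rfl | rfl
      · exact absurd (h1.trans (by simp)) (B.pr_ne (show (1 : Fin 6) ≠ 2 by decide)).1
      · exact h1.trans (by simp)
      · exact h1.trans (by rw [mul_one, inv_eq_of_mul_eq_one_right (B.pr_sq a b)])
      · exact absurd (h1.trans (inv_mul_cancel _)) (B.pr_ne (show (1 : Fin 6) ≠ 2 by decide)).1
    have hswap : Equiv.swap a b = sU := by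
      rcases B.pr_inj (show (1 : Fin 6) ≠ 2 by decide) hab h12 with ⟨rfl, rfl⟩ | ⟨rfl, rfl⟩
      · rfl
      · exact Equiv.swap_comm _ _
    rw [hswap, e18] at hwe
    rw [← mul_inv_eq_one, ← map_inv, ← map_mul, hπ1]
    show (x : G) * r⁻¹ ∈ Z
    rw [hwe]
    rcases hw with rfl | rfl
    · exact Or.inl (by rw [mul_one, mul_inv_cancel])
    · exact Or.inr (Or.inr (Or.inl (by rw [← h12, ← hu, hru.eq, mul_inv_cancel_right])))
  have hr2 : π rC * π rC = 1 := by
    rw [← map_mul, hπ1]; exact Or.inl (U.f_sq B.h8 (by norm_num) (by decide +kernel))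
  have hrne : π rC ≠ 1 := fun h => by
    obtain ⟨-, h2, hno⟩ := B.pr_ne (show (1 : Fin 6) ≠ 2 by decide)
    have hE : r ∈ B.E32 := hZE r ((hπ1 rC).mp h)
    exact absurd (B.L0_inter (show B.L0.ρ sU ∈ B.E32 by rw [e18]; exact hE)) (by decide +kernel)
  have hord : orderOf (π rC) = 2 := orderOf_eq_prime (by rw [pow_two]; exact hr2) hrne
  obtain ⟨P, hP⟩ := (show IsPGroup 2 (Subgroup.zpowers (π rC)) from
    IsPGroup.of_card (n := 1) (by rw [Nat.card_zpowers, hord]; norm_num)).exists_le_sylow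
  obtain ⟨N, hNn, hNodd, hNc⟩ := Cfsg.Agent.S0215.result P (π rC) hord (hP (Subgroup.mem_zpowers _))
    fun gq hgq => isolated_of_comm hr2 iso gq (by
      obtain ⟨m, hm⟩ := P.isPGroup' ⟨_, mul_mem (hP (Subgroup.mem_zpowers _)) hgq⟩
      exact ⟨m, congrArg Subtype.val hm⟩)
  -- the odd subgroup is trivial
  have hodd : ∀ a ∈ N, a * a = 1 → a = 1 := by
    intro a ha h2
    have hd : orderOf (⟨a, ha⟩ : N) ∣ 2 := orderOf_dvd_of_pow_eq_one (Subtype.ext (by simpa [pow_two] using h2))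
    have hd' := orderOf_dvd_natCard (⟨a, ha⟩ : N)
    have h1 := Nat.eq_one_of_dvd_coprimes ((Nat.coprime_two_left).mpr hNodd) hd hd'
    exact congrArg Subtype.val (orderOf_eq_one_iff.mp h1)
  have inE : ∀ x : C2, π x ∈ N → (x : G) ∈ B.HH → π x = 1 := by
    intro x hxN hxH
    have hall : ∀ w ∈ B.E32, w * ((x : G) * x) = (x : G) * x * w := by
      intro w hw
      let wC : C2 := ⟨w, hEC w hw⟩
      have hcE : (x : G) * w * (x : G)⁻¹ * w⁻¹ ∈ B.E32 :=
        mul_mem ((Subgroup.mem_normalizer_iff.mp hxH.1 w).mp hw) (inv_mem hw)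
      have hcN : π (x * wC * x⁻¹ * wC⁻¹) ∈ N := by
        have : π x * (π wC * (π x)⁻¹ * (π wC)⁻¹) ∈ N :=
          mul_mem hxN (hNn.conj_mem _ (inv_mem hxN) (π wC))
        simpa [mul_assoc] using this
      have hz := (hπ1 _).mp (hodd _ hcN (by
        rw [← map_mul, hπ1]
        exact Or.inl (B.E32_sq hcE)))
      set z := (x : G) * w * (x : G)⁻¹ * w⁻¹ with hzdef
      have hzx : Commute (x : G) z := hcen z hz x x.2
      have e : (x : G) * w * (x : G)⁻¹ = z * w := by rw [hzdef]; group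
      have e2 : (x : G) * x * w * ((x : G) * x)⁻¹ = w := by
        calc _ = (x : G) * ((x : G) * w * (x : G)⁻¹) * (x : G)⁻¹ := by group
          _ = (x : G) * z * (x : G)⁻¹ * ((x : G) * w * (x : G)⁻¹) := by nth_rewrite 1 [e]; group
          _ = w := by rw [hzx.eq, mul_inv_cancel_right, e, ← mul_assoc, B.E32_sq (hZE z hz), one_mul]
      exact (mul_inv_eq_iff_eq_mul.mp e2).symm
    have hxx := B.E32_sq (B.cent_E32 hall)
    have h4 : π x * π x * (π x * π x) = 1 := by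
      rw [← map_mul, ← map_mul, hπ1]; exact Or.inl hxx
    exact hodd _ hxN (hodd _ (mul_mem hxN hxN) h4)
  have cent3 : ∀ {a b c : Fin 6}, a ≠ b → b ≠ c → a ≠ c → ∀ {y : G}, Commute y α →
      Commute y (B.pr a b) → Commute y (B.pr b c) → y ∈ B.HH := by
    intro a b c hab hbc hac y ya yp yq
    obtain ⟨σ, h1, h2, h0⟩ := three_perm a b c hab hbc hac
    set s := B.L0.ρ σ with hs
    have hy : s⁻¹ * y * s ∈ B.D0 := Subgroup.mem_centralizer_iff.mpr fun z hz => by
      obtain ⟨τ, hτ, rfl⟩ := hz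
      have hc : ∀ {p : G}, Commute y (s * p * s⁻¹) → p * (s⁻¹ * y * s) = s⁻¹ * y * s * p := fun {p} h => by
        calc p * (s⁻¹ * y * s) = s⁻¹ * (s * p * s⁻¹ * y) * s := by group
          _ = s⁻¹ * (y * (s * p * s⁻¹)) * s := by rw [h.eq]
          _ = _ := by group
      let M := (Subgroup.centralizer ({s⁻¹ * y * s} : Set G)).comap B.L2.ρ
      have b0 : sU ∈ M := mem_centralizer_iff'.mpr (hc (by
        rw [B.vU, hs, ← B.alpha_comm, mul_inv_cancel_right]; exact ya))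
      have b1 : dA ∈ M := mem_centralizer_iff'.mpr (hc (by
        rw [hs, ← B.pr_one_two, B.pr_conj, h1, h2]; exact yp))
      have b2 : sB * dA * sB⁻¹ ∈ M := mem_centralizer_iff'.mpr (hc (by
        rw [hs, ← B.pr_two_zero, B.pr_conj, h2, h0]; exact yq))
      obtain ⟨ρ, hρ, e⟩ := List.any_eq_true.mp (e0_span τ hτ)
      rw [beq_iff_eq] at e
      subst e
      refine mem_centralizer_iff'.mp (?_ : ρ ∈ M)
      simp only [List.mem_cons, List.not_mem_nil, or_false] at hρ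
      rcases hρ with rfl | rfl | rfl | rfl | rfl | rfl | rfl | rfl
      · exact one_mem _
      · exact b0
      · exact b1
      · exact mul_mem b0 b1
      · exact b2
      · exact mul_mem b0 b2
      · exact mul_mem b1 b2
      · exact mul_mem b0 (mul_mem b1 b2)
    refine ⟨?_, mem_centralizer_iff'.mpr ya.eq⟩
    have := mul_mem (mul_mem (B.L0_norm σ) (B.D0_norm hy)) (inv_mem (B.L0_norm σ))
    rwa [← hs, show s * (s⁻¹ * y * s) * s⁻¹ = y by group] at this
  let pC : Fin 6 → Fin 6 → C2 := fun i j => ⟨B.pr i j, hEC _ (B.pr_mem i j)⟩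
  have sqfix : ∀ x : C2, ∀ w : C2, π x * π w = π w * π x → Commute ((x : G) * x) (w : G) := by
    intro x w h
    have hz : (x : G) * w * (x : G)⁻¹ * (w : G)⁻¹ ∈ Z := (hπ1 (x * w * x⁻¹ * w⁻¹)).mp (by
      rw [map_mul, map_mul, map_mul, map_inv, map_inv, h, mul_inv_cancel_right, mul_inv_cancel])
    set z := (x : G) * w * (x : G)⁻¹ * (w : G)⁻¹ with hzdef
    have e : (x : G) * w * (x : G)⁻¹ = z * w := by rw [hzdef]; group
    show _ = _
    refine mul_inv_eq_iff_eq_mul.mp ?_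
    calc (x : G) * x * w * ((x : G) * x)⁻¹ = (x : G) * ((x : G) * w * (x : G)⁻¹) * (x : G)⁻¹ := by group
      _ = (x : G) * z * (x : G)⁻¹ * ((x : G) * w * (x : G)⁻¹) := by nth_rewrite 1 [e]; group
      _ = w := by
        rw [(hcen z hz x x.2).eq, mul_inv_cancel_right, e, ← mul_assoc, B.E32_sq (hZE z hz), one_mul]
  have sq_one : ∀ x : C2, π x ∈ N → (x : G) * x ∈ B.HH → π x = 1 := fun x hxN hH => by
    have h := inE (x * x) (by rw [map_mul]; exact mul_mem hxN hxN) hH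
    rw [map_mul] at h
    exact hodd _ hxN h
  have hinv : ∀ k : Fin 6, k ≠ 1 → k ≠ 2 → ∀ a ∈ N, π (pC 1 k) * a * (π (pC 1 k))⁻¹ = a⁻¹ := by
    intro k hk1 hk2 a ha
    refine inverts_of_fpf (fun b hb => hNn.conj_mem b hb _) ?_ (fun b hb hfix => ?_) ha
    · rw [← map_mul, hπ1]; exact Or.inl (B.pr_sq 1 k)
    obtain ⟨x, rfl⟩ := hπ b
    refine sq_one x hb (cent3 (a := 2) (b := 1) (c := k) (by decide) (Ne.symm hk1) (Ne.symm hk2) ?_ ?_ ?_)
    · exact (show Commute (x : G) α from mem_centralizer_iff'.mp x.2.1).mul_left (mem_centralizer_iff'.mp x.2.1)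
    · rw [B.pr_symm 2 1]
      exact (show Commute (x : G) u from mem_centralizer_iff'.mp x.2.2).mul_left (mem_centralizer_iff'.mp x.2.2)
    · exact sqfix x (pC 1 k) (mul_inv_eq_iff_eq_mul.mp hfix).symm
  have hcent : ∀ k l : Fin 6, k ≠ 1 → k ≠ 2 → l ≠ 1 → l ≠ 2 → ∀ a ∈ N,
      a * π (pC k l) = π (pC k l) * a := by
    intro k l hk1 hk2 hl1 hl2 a ha
    have e : pC k l = pC 1 k * pC 1 l := Subtype.ext (by
      show B.pr k l = B.pr 1 k * B.pr 1 l
      rw [B.pr_symm 1 k, B.pr_trans])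
    have h1 := hinv l hl1 hl2 a ha
    have h2 := hinv k hk1 hk2 a⁻¹ (inv_mem ha)
    rw [inv_inv] at h2
    refine (mul_inv_eq_iff_eq_mul.mp ?_).symm
    rw [e, map_mul]
    calc π (pC 1 k) * π (pC 1 l) * a * (π (pC 1 k) * π (pC 1 l))⁻¹ =
        π (pC 1 k) * (π (pC 1 l) * a * (π (pC 1 l))⁻¹) * (π (pC 1 k))⁻¹ := by group
      _ = a := by rw [h1, h2]
  have hN1 : ∀ a ∈ N, a = 1 := by
    intro a ha
    obtain ⟨x, rfl⟩ := hπ a
    refine sq_one x ha (cent3 (a := 4) (b := 3) (c := 5) (by decide) (by decide) (by decide) ?_ ?_ ?_)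
    · exact (show Commute (x : G) α from mem_centralizer_iff'.mp x.2.1).mul_left (mem_centralizer_iff'.mp x.2.1)
    · exact sqfix x (pC 4 3) (hcent 4 3 (by decide) (by decide) (by decide) (by decide) _ ha)
    · exact sqfix x (pC 3 5) (hcent 3 5 (by decide) (by decide) (by decide) (by decide) _ ha)
  let gC : C2 := ⟨g, mem_centralizer_iff'.mpr hga, mem_centralizer_iff'.mpr hgu⟩
  have hgr : π gC * π rC = π rC * π gC := by
    have h := hN1 _ (hNc (π gC))
    rw [mul_inv_eq_one, mul_inv_eq_iff_eq_mul] at h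
    exact h.symm
  exact B.cent_flip_le hga (coset gC hgr)

/-- The centralizer of the fixed involution and of any pair. -/
theorem cent_pair {i j : Fin 6} (h : i ≠ j) {g : G} (hga : g * U.f (of 3) = U.f (of 3) * g)
    (hgu : g * B.pr i j = B.pr i j * g) : g ∈ B.HH := by
  obtain ⟨σ, h1, h2⟩ := pair_perm i j h
  set s := B.L0.ρ σ with hs
  have hsa : Commute s (U.f (of 3)) := (B.alpha_comm σ).symm
  have e : B.pr i j = s * B.pr 1 2 * s⁻¹ := by rw [hs, B.pr_conj, h1, h2]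
  have hmem := B.cent_pair_base (g := s⁻¹ * g * s)
    ((hsa.inv_left.mul_left hga).mul_left hsa).eq (by
      rw [e] at hgu
      calc s⁻¹ * g * s * B.pr 1 2 = s⁻¹ * (g * (s * B.pr 1 2 * s⁻¹)) * s := by group
        _ = s⁻¹ * (s * B.pr 1 2 * s⁻¹ * g) * s := by rw [hgu]
        _ = _ := by group)
  have := mul_mem (mul_mem (B.L0_mem σ) hmem) (inv_mem (B.L0_mem σ))
  rwa [← hs, show s * (s⁻¹ * g * s) * s⁻¹ = g by group] at this

end Big

end CfsgLib.PSpFourThree
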