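import Cfsg.Agent.Lib.PSpFourThree.Eight.Thirty

/-!
The large case: the elementary group of order thirty-two as the module of even subsets of six points.
-/

set_option autoImplicit false
set_option maxRecDepth 20000
set_option linter.style.haveILetI false
set_option linter.unusedSectionVars false

namespace CfsgLib.PSpFourThree

open CfsgLib.SymNineThree CfsgLib.SymNineThree.Mon
open CfsgLib.SymNineThree.Six (sA sB sU sV sW sT)

attribute [local instance 2000] List.decidableBAll List.decidableBEx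

theorem pair_perm : ∀ i j : Fin 6, i ≠ j → ∃ σ : P6, σ 1 = i ∧ σ 2 = j := by decide +kernel

theorem three_perm : ∀ i j k : Fin 6, i ≠ j → j ≠ k → i ≠ k →
    ∃ σ : P6, σ 1 = i ∧ σ 2 = j ∧ σ 0 = k := by decide +kernel

theorem six_perm : ∀ a b c d : Fin 6, a ≠ b → a ≠ c → a ≠ d → b ≠ c → b ≠ d → c ≠ d →
    ∃ σ : P6, σ 1 = a ∧ σ 2 = b ∧ σ 0 = c ∧ σ 3 = d := by decide +kernel

theorem stab_words : ∀ σ : P6, (σ 1 = 1 ∧ σ 2 = 2 ∨ σ 1 = 2 ∧ σ 2 = 1) →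
    ∃ a : Fin 2, ∃ b : Fin 3, ∃ c : Fin 2, ∃ d : Fin 4,
      sU ^ (a : ℕ) * (([1, sT, sB * sT * sB⁻¹, sB * (sB * sT * sB⁻¹) * sB⁻¹] : List P6).getD d 1 *
        (sB ^ (b : ℕ) * sV ^ (c : ℕ))) = σ := by decide +kernel

theorem e0_span : ∀ τ : P6, τ ∈ E0S →
    [1, sU, dA, sU * dA, sB * dA * sB⁻¹, sU * (sB * dA * sB⁻¹), dA * (sB * dA * sB⁻¹),
      sU * (dA * (sB * dA * sB⁻¹))].any (fun ρ : P6 => ρ == τ) = true := by decide +kernel

theorem fix_e1 : ∀ σ : P6, σ ∈ E1S → sA * σ * sA⁻¹ = σ → σ = 1 ∨ σ = sV := by decide +kernel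

theorem fix_e0 : ∀ τ : P6, τ ∈ E0S → sB * τ * sB⁻¹ = τ → τ = 1 ∨ τ = sU := by decide +kernel

theorem e1_comm_part : ∀ σ : P6, σ ∈ E1S → σ ≠ 1 → σ ≠ sV →
    ∃ b : Fin 3, sA ^ (b : ℕ) * (σ * (sA * σ⁻¹ * sA⁻¹)) * (sA ^ (b : ℕ))⁻¹ = sT * sU := by decide +kernel

theorem label_facts : gam * (sU * sV) * gam⁻¹ = sB * dA * sB⁻¹ ∧ gam * sW * gam⁻¹ = sU * dA := by
  refine ⟨?_, ?_⟩ <;> decide +kernel

theorem tn_conj : ∃ a : Fin 3,
    sB ^ (a : ℕ) * (gam * (sW * (sU * sV)) * gam⁻¹) * (sB ^ (a : ℕ))⁻¹ = sU * dA := by decide +kernel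

theorem tri_check : dA * (sB * dA * sB⁻¹) = sB * (sB * dA * sB⁻¹) * sB⁻¹ := by decide +kernel

theorem swap_pair : sW 1 = 4 ∧ sW 2 = 5 ∧ sA 1 = 2 ∧ sA 2 = 0 ∧ sW * dA * sW⁻¹ = sT * sU ∧
    sU 1 = 2 ∧ sU 2 = 1 := by decide +kernel

/-- The conditions on the image of a pair `{0, p}`. -/
def starHyp (p a b : Fin 6) : Bool :=
  Nat.ble 1 p && !(a == b) && (List.finRange 6).all fun i =>
    !(Nat.ble 1 i && Nat.blt i p) ||
      ((a == 0 || a == i || b == 0 || b == i) && !((a == 0 && b == i) || (a == i && b == 0)) &&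
        (List.finRange 6).all fun k => !(Nat.ble 1 k && Nat.blt k p) || !(a == i && b == k))

/-- A permutation restoring the pair `{0, p}` and fixing the earlier ones. -/
def starGood (p a b : Fin 6) (σ : P6) : Bool :=
  ((σ a == 0 && σ b == p) || (σ a == p && σ b == 0)) && (List.finRange 6).all fun i =>
    !(Nat.ble 1 i && Nat.blt i p) || ((σ 0 == 0 && σ i == i) || (σ 0 == i && σ i == 0))

theorem star_check : ∀ p a b : Fin 6, starHyp p a b = true → ∃ σ : P6, starGood p a b σ = true := by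
  decide +kernel

theorem star_step (p a b : Fin 6) (hp : 1 ≤ (p : ℕ)) (hab : a ≠ b)
    (h1 : ∀ i : Fin 6, 1 ≤ (i : ℕ) → (i : ℕ) < (p : ℕ) →
      (a = 0 ∨ a = i ∨ b = 0 ∨ b = i) ∧ ¬ ((a = 0 ∧ b = i) ∨ (a = i ∧ b = 0)))
    (h2 : ∀ i k : Fin 6, 1 ≤ (i : ℕ) → (i : ℕ) < (p : ℕ) → 1 ≤ (k : ℕ) → (k : ℕ) < (p : ℕ) →
      ¬ (a = i ∧ b = k)) :
    ∃ σ : P6, ((σ a = 0 ∧ σ b = p) ∨ (σ a = p ∧ σ b = 0)) ∧
      ∀ i : Fin 6, 1 ≤ (i : ℕ) → (i : ℕ) < (p : ℕ) → (σ 0 = 0 ∧ σ i = i) ∨ (σ 0 = i ∧ σ i = 0) := by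
  have blt : ∀ {m n : ℕ}, Nat.blt m n = true ↔ m < n := ⟨Nat.le_of_ble_eq_true, Nat.ble_eq_true_of_le⟩
  obtain ⟨σ, hσ⟩ := star_check p a b (by
    simp only [starHyp, Bool.and_eq_true, Nat.ble_eq, Bool.not_eq_true', beq_eq_false_iff_ne,
      List.all_eq_true, Bool.or_eq_true, beq_iff_eq, Bool.or_eq_false_iff, Bool.and_eq_false_iff]
    refine ⟨⟨hp, hab⟩, fun i _ => ?_⟩
    by_cases hi : 1 ≤ (i : ℕ) ∧ (i : ℕ) < (p : ℕ)
    · right
      obtain ⟨e1, e2⟩ := h1 i hi.1 hi.2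
      refine ⟨⟨by tauto, by tauto⟩, fun k _ => ?_⟩
      by_cases hk : 1 ≤ (k : ℕ) ∧ (k : ℕ) < (p : ℕ)
      · exact Or.inr (by have := h2 i k hi.1 hi.2 hk.1 hk.2; tauto)
      · left
        rw [← Bool.not_eq_true, ← Bool.not_eq_true, blt, Nat.ble_eq]
        tauto
    · left
      rw [← Bool.not_eq_true, ← Bool.not_eq_true, blt, Nat.ble_eq]
      tauto)
  simp only [starGood, Bool.and_eq_true, Bool.or_eq_true, beq_iff_eq, List.all_eq_true,
    Bool.not_eq_true'] at hσ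
  refine ⟨σ, hσ.1, fun i hi1 hi2 => (hσ.2 i (List.mem_finRange i)).resolve_left ?_⟩
  rw [Nat.ble_eq_true_of_le hi1, blt.mpr hi2]
  simp

theorem pair_fix : ∀ σ : P6, (∀ i : Fin 6, (σ 0 = 0 ∧ σ i = i) ∨ (σ 0 = i ∧ σ i = 0)) → σ = 1 := by
  decide +kernel

universe u

variable {G : Type u} [Group G] [Finite G] {X : Ctx G}

namespace Big

variable {U : Coord X} (B : Big U)

include B

/-- The involution attached to a pair. -/
noncomputable def pr (i j : Fin 6) : G :=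
  if h : i = j then 1 else
    B.L0.ρ (pair_perm i j h).choose * B.L2.ρ dA * (B.L0.ρ (pair_perm i j h).choose)⁻¹

theorem pr_self (i : Fin 6) : B.pr i i = 1 := dif_pos rfl

theorem dA_comm {σ : P6} (h : σ 1 = 1 ∧ σ 2 = 2 ∨ σ 1 = 2 ∧ σ 2 = 1) :
    Commute (B.L0.ρ σ) (B.L2.ρ dA) := by
  set M := (Subgroup.centralizer ({B.L2.ρ dA} : Set G)).comap B.L0.ρ
  have hM : ∀ {τ : P6}, Commute (B.L0.ρ τ) (B.L2.ρ dA) → τ ∈ M := fun hc =>
    mem_centralizer_iff'.mpr hc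
  obtain ⟨eA, -, hTU, -, -⟩ := u_facts
  have hU : sU ∈ M := hM (by
    rw [B.vals0.2.2.1, ← B.vV]
    show _ = _
    rw [← map_mul, ← map_mul]
    refine congrArg _ ?_
    decide +kernel)
  have hV : sV ∈ M := hM (by rw [B.vals0.2.2.2.1]; exact B.flip_two dA)
  have hB : sB ∈ M := hM (by rw [B.vals0.2.1]; exact (B.L2.comm dA).symm)
  have hT : sT ∈ M := hM (by
    rw [eA, map_mul]
    refine Commute.mul_right ?_ ?_
    · exact B.r02
    · rw [B.vV, ← B.vals0.2.2.1]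
      show _ = _
      rw [← map_mul, ← map_mul, hTU])
  obtain ⟨a, b, c, d, e⟩ := stab_words σ h
  rw [← e]
  refine mem_centralizer_iff'.mp (show B.L0.ρ _ ∈ Subgroup.centralizer ({B.L2.ρ dA} : Set G) from
    (mul_mem (pow_mem hU a) (mul_mem ?_ (mul_mem (pow_mem hB b) (pow_mem hV c))) : _ ∈ M))
  have h1 := mul_mem (mul_mem hB hT) (inv_mem hB)
  have h2 := mul_mem (mul_mem hB h1) (inv_mem hB)
  fin_cases d
  · exact one_mem _
  · exact hT
  · exact h1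
  · exact h2

theorem pr_eq {σ : P6} {i j : Fin 6} (h1 : σ 1 = i) (h2 : σ 2 = j) :
    B.pr i j = B.L0.ρ σ * B.L2.ρ dA * (B.L0.ρ σ)⁻¹ := by
  have hne : i ≠ j := fun e => absurd (σ.injective (h1.trans (e.trans h2.symm))) (by decide)
  rw [pr, dif_neg hne]
  obtain ⟨c1, c2⟩ := (pair_perm i j hne).choose_spec
  set τ := (pair_perm i j hne).choose
  have hc := B.dA_comm (σ := σ⁻¹ * τ) (Or.inl ⟨by
      rw [Equiv.Perm.mul_apply, c1, ← h1]; exact σ.symm_apply_apply 1, by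
      rw [Equiv.Perm.mul_apply, c2, ← h2]; exact σ.symm_apply_apply 2⟩)
  have e : B.L0.ρ τ = B.L0.ρ σ * B.L0.ρ (σ⁻¹ * τ) := by rw [← map_mul, mul_inv_cancel_left]
  rw [e, mul_assoc (B.L0.ρ σ), hc.eq]
  group

theorem pr_symm (i j : Fin 6) : B.pr i j = B.pr j i := by
  rcases eq_or_ne i j with rfl | h
  · rfl
  obtain ⟨σ, h1, h2⟩ := pair_perm i j h
  obtain ⟨-, -, -, -, -, u1, u2⟩ := swap_pair
  rw [B.pr_eq h1 h2, B.pr_eq (σ := σ * sU) (i := j) (j := i) (by rw [Equiv.Perm.mul_apply, u1, h2])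
    (by rw [Equiv.Perm.mul_apply, u2, h1]), map_mul]
  symm
  calc B.L0.ρ σ * B.L0.ρ sU * B.L2.ρ dA * (B.L0.ρ σ * B.L0.ρ sU)⁻¹ =
      B.L0.ρ σ * (B.L0.ρ sU * B.L2.ρ dA * (B.L0.ρ sU)⁻¹) * (B.L0.ρ σ)⁻¹ := by group
    _ = _ := by rw [(B.dA_comm (Or.inr ⟨u1, u2⟩)).eq, mul_inv_cancel_right]

theorem pr_conj (τ : P6) (i j : Fin 6) :
    B.L0.ρ τ * B.pr i j * (B.L0.ρ τ)⁻¹ = B.pr (τ i) (τ j) := by
  rcases eq_or_ne i j with rfl | h
  · rw [B.pr_self, B.pr_self, mul_one, mul_inv_cancel]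
  obtain ⟨σ, h1, h2⟩ := pair_perm i j h
  rw [B.pr_eq h1 h2, B.pr_eq (σ := τ * σ) (by rw [Equiv.Perm.mul_apply, h1])
    (by rw [Equiv.Perm.mul_apply, h2]), map_mul]
  group

theorem pr_one_two : B.pr 1 2 = B.L2.ρ dA := by
  rw [B.pr_eq (σ := 1) (i := 1) (j := 2) rfl rfl, map_one, one_mul, inv_one, mul_one]

theorem pr_two_zero : B.pr 2 0 = B.L2.ρ (sB * dA * sB⁻¹) := by
  obtain ⟨-, -, a1, a2, -, -, -⟩ := swap_pair
  rw [B.pr_eq a1 a2, B.vals0.1, ← B.vB, map_mul, map_mul, map_inv]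

theorem pr_four_five : B.pr 4 5 = B.L1.ρ (sT * sU) := by
  obtain ⟨w1, w2, -, -, e, -, -⟩ := swap_pair
  rw [B.pr_eq w1 w2, B.vals0.2.2.2.2, B.swap_apply, e]

theorem pr_mem (i j : Fin 6) : B.pr i j ∈ B.E32 := by
  rcases eq_or_ne i j with rfl | h
  · rw [B.pr_self]; exact one_mem _
  obtain ⟨σ, h1, h2⟩ := pair_perm i j h
  rw [B.pr_eq h1 h2]
  exact (Subgroup.mem_normalizer_iff.mp (B.L0_norm σ) _).mp (Subgroup.mem_sup_left (B.mem_E0.mpr e0_mem.2.1))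

theorem pr_sq (i j : Fin 6) : B.pr i j * B.pr i j = 1 := B.E32_sq (B.pr_mem i j)

theorem triangle0 : B.pr 1 2 * B.pr 2 0 = B.pr 1 0 := by
  have h01 : B.pr 0 1 = B.L2.ρ (sB * (sB * dA * sB⁻¹) * sB⁻¹) := by
    obtain ⟨-, -, a1, a2, -, -, -⟩ := swap_pair
    have e := B.pr_conj sA 2 0
    rw [show sA 2 = 0 by decide, show sA 0 = 1 by decide] at e
    rw [← e, B.pr_two_zero, B.vals0.1, ← B.vB]
    simp only [map_mul, map_inv]
  rw [B.pr_one_two, B.pr_two_zero, B.pr_symm 1 0, h01, ← map_mul]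
  exact congrArg _ tri_check

theorem pr_trans (i j k : Fin 6) : B.pr i j * B.pr j k = B.pr i k := by
  rcases eq_or_ne i j with rfl | hij
  · rw [B.pr_self, one_mul]
  rcases eq_or_ne j k with rfl | hjk
  · rw [B.pr_self, mul_one]
  rcases eq_or_ne i k with rfl | hik
  · rw [B.pr_symm j i, B.pr_sq, B.pr_self]
  obtain ⟨σ, h1, h2, h0⟩ := three_perm i j k hij hjk hik
  rw [← h1, ← h2, ← h0, ← B.pr_conj, ← B.pr_conj, ← B.pr_conj, conj_mul, B.triangle0]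

theorem pr_comm (i j k l : Fin 6) : B.pr i j * B.pr k l = B.pr k l * B.pr i j :=
  B.E32_comm (B.pr_mem i j) (B.pr_mem k l)

/-! ### The fixed involution -/

theorem alpha_comm (σ : P6) : U.f (of 3) * B.L0.ρ σ = B.L0.ρ σ * U.f (of 3) := B.flip_zero σ

theorem E32_dec {x : G} (hx : x ∈ B.E32) : ∃ τ ∈ E0S, ∃ σ ∈ E1S, x = B.L2.ρ τ * B.L1.ρ σ := by
  have hc : ∀ (a : B.E0) (b : B.E1), Commute (B.E0.subtype a) (B.E1.subtype b) :=
    fun a b => B.E32_comm (Subgroup.mem_sup_left a.2) (Subgroup.mem_sup_right b.2)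
  have hr : x ∈ (MonoidHom.noncommCoprod B.E0.subtype B.E1.subtype hc).range := by
    rw [MonoidHom.noncommCoprod_range, Subgroup.range_subtype, Subgroup.range_subtype]
    exact hx
  obtain ⟨⟨⟨_, τ, hτ, rfl⟩, ⟨_, σ, hσ, rfl⟩⟩, e⟩ := hr
  exact ⟨τ, hτ, σ, hσ, e.symm⟩

theorem nd_conj_code : ∃ h : G, h * B.nd * h⁻¹ = U.f (of 3) * B.pr 1 2 * B.pr 4 5 := by
  obtain ⟨y0, hy0, a, ha, σ, hσ, h1, hV, e, -⟩ := B.exists_gen
  obtain ⟨n2, n9, nt, -, -⟩ := B.nd_facts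
  obtain ⟨htC, ht2, ht1, -, -⟩ := U.tq_facts B.h8
  set n := B.nd with hn
  set g := B.gm with hg
  set y := y0 * U.ι 9 * y0⁻¹ * (U.ι 9)⁻¹ with hydef
  have hy : y ∈ U.Qa B.h8 := (U.comm_nine B.h8 hy0).1
  have hy0' : U.ι 9 * y0⁻¹ * (U.ι 9)⁻¹ ∈ U.Qa B.h8 := U.nine_conj B.h8 (inv_mem hy0)
  have hmul : ∀ {p q : G}, p ∈ U.Qa B.h8 → q ∈ U.Qa B.h8 → B.dia (p * q) = B.dia p * B.dia q := by
    intro p q hp hq
    show g * (p * q * (n * (p * q) * n⁻¹)) * g⁻¹ = g * (p * (n * p * n⁻¹)) * g⁻¹ * (g * (q * (n * q * n⁻¹)) * g⁻¹)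
    rw [conj_mul, ← conj_mul (a := p) (b := n) (c := q), (show Commute q (n * p * n⁻¹) from B.comm_Qa hq hp).mul_mul_mul_comm]
  have hone : B.dia 1 = 1 := by simp [dia]
  have hinv : B.dia y0⁻¹ = (B.dia y0)⁻¹ := eq_inv_of_mul_eq_one_left (by
    rw [← hmul (inv_mem hy0) hy0, inv_mul_cancel, hone])
  have hai : U.ι 9 * a * (U.ι 9)⁻¹ = a := by
    obtain ⟨τ, -, rfl⟩ := ha
    rw [← B.L2.comm, mul_inv_cancel_right]
  have hdy : B.dia y = B.L1.ρ (σ * (sA * σ⁻¹ * sA⁻¹)) := by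
    have hmemA : a ∈ B.E32 := Subgroup.mem_sup_left ha
    have hmemS : B.L1.ρ σ ∈ B.E32 := Subgroup.mem_sup_right ⟨σ, hσ, rfl⟩
    rw [hydef, show y0 * U.ι 9 * y0⁻¹ * (U.ι 9)⁻¹ = y0 * (U.ι 9 * y0⁻¹ * (U.ι 9)⁻¹) by group,
      hmul hy0 hy0', ← B.dia_conj, hinv, e]
    simp only [map_mul, map_inv, B.vals1.1]
    rw [B.E32_comm hmemA hmemS]
    calc B.L1.ρ σ * a * (U.ι 9 * (B.L1.ρ σ * a)⁻¹ * (U.ι 9)⁻¹) =
        B.L1.ρ σ * (a * (U.ι 9 * a * (U.ι 9)⁻¹)⁻¹) * (U.ι 9 * (B.L1.ρ σ)⁻¹ * (U.ι 9)⁻¹) := by group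
      _ = _ := by rw [hai, mul_inv_cancel, mul_one]
  obtain ⟨b, hb⟩ := e1_comm_part σ hσ h1 hV
  obtain ⟨k, hk⟩ := tn_conj
  have hy2 : y * y = U.tq := by
    rcases (U.Qa_two_els B.h8 hy).2 with h | h
    · exfalso
      have hne : σ * (sA * σ⁻¹ * sA⁻¹) ≠ 1 := fun e1 => by
        rw [e1, mul_one, mul_inv_cancel] at hb
        exact absurd hb (by decide +kernel)
      rcases (U.Qa_two_els B.h8 hy).1 h with e1 | e1
      · rw [e1, hone] at hdy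
        exact hne (B.L1.inj (hdy.symm.trans (map_one _).symm))
      · rw [e1] at hdy
        have : B.dia U.tq = 1 := by
          show g * (U.tq * (n * U.tq * n⁻¹)) * g⁻¹ = 1
          rw [nt, mul_inv_cancel_right, ht2, mul_one, mul_inv_cancel]
        rw [this] at hdy
        exact hne (B.L1.inj (hdy.symm.trans (map_one _).symm))
    · exact h
  have hconj : g * y * n * (g * y)⁻¹ = B.dia y * B.L2.ρ (gam * (sW * (sU * sV)) * gam⁻¹) := by
    have hyi : y⁻¹ = U.tq * y := inv_eq_of_mul_eq_one_left (by rw [mul_assoc, hy2, ht2])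
    have hc : Commute U.tq (n * y * n⁻¹) :=
      ((show Commute U.tq n from nt.symm).mul_right hy.1.2.1.symm).mul_right
        (show Commute U.tq n from nt.symm).inv_right
    calc g * y * n * (g * y)⁻¹ = g * (y * (n * y⁻¹ * n⁻¹) * n) * g⁻¹ := by group
      _ = g * (y * (n * U.tq * n⁻¹ * (n * y * n⁻¹)) * n) * g⁻¹ := by rw [hyi]; group
      _ = g * (y * (n * y * n⁻¹ * U.tq) * n) * g⁻¹ := by rw [nt, mul_inv_cancel_right, hc.eq]
      _ = g * (y * (n * y * n⁻¹)) * g⁻¹ * (g * (U.tq * n) * g⁻¹) := by group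
      _ = _ := by
        have e2 : g * (U.tq * n) * g⁻¹ = B.L2.ρ (gam * (sW * (sU * sV)) * gam⁻¹) := by
          rw [hg, hn, gm, nd, B.tq_eq, ← map_inv, ← map_mul, ← map_mul, ← map_mul]
        rw [e2]
        rfl
  refine ⟨U.ι 9 ^ (b : ℕ) * U.ι 3 ^ (k : ℕ) * (g * y), ?_⟩
  have c31 : Commute (U.ι 3 ^ (k : ℕ)) (B.L1.ρ (σ * (sA * σ⁻¹ * sA⁻¹))) :=
    (B.L1.comm_pow _ _).symm
  have c92 : Commute (U.ι 9 ^ (b : ℕ)) (B.L2.ρ (sU * dA)) := (B.L2.comm_pow _ _).symm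
  calc U.ι 9 ^ (b : ℕ) * U.ι 3 ^ (k : ℕ) * (g * y) * n * (U.ι 9 ^ (b : ℕ) * U.ι 3 ^ (k : ℕ) * (g * y))⁻¹ =
      U.ι 9 ^ (b : ℕ) * (U.ι 3 ^ (k : ℕ) * (g * y * n * (g * y)⁻¹) * (U.ι 3 ^ (k : ℕ))⁻¹) *
        (U.ι 9 ^ (b : ℕ))⁻¹ := by group
    _ = U.ι 9 ^ (b : ℕ) * (B.L1.ρ (σ * (sA * σ⁻¹ * sA⁻¹)) * B.L2.ρ (sU * dA)) * (U.ι 9 ^ (b : ℕ))⁻¹ := by
      rw [hconj, hdy, ← mul_assoc (U.ι 3 ^ (k : ℕ)), c31.eq, ← hk, map_mul (f := B.L2.ρ)
        (sB ^ (k : ℕ) * _), map_mul (f := B.L2.ρ) (sB ^ (k : ℕ)), map_inv, map_pow, B.vB]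
      group
    _ = B.L1.ρ (sT * sU) * B.L2.ρ (sU * dA) := by
      rw [← conj_mul, c92.eq, mul_inv_cancel_right, ← hb, map_mul (f := B.L1.ρ) (sA ^ (b : ℕ) * _),
        map_mul (f := B.L1.ρ) (sA ^ (b : ℕ)), map_inv, map_pow, B.vals1.1]
    _ = _ := by
      rw [← B.pr_four_five, map_mul, B.vU, ← B.pr_one_two,
        B.E32_comm (B.pr_mem 4 5) (mul_mem (Subgroup.mem_sup_left B.alpha_mem) (B.pr_mem 1 2))]

theorem tq_conj_alpha (i j : Fin 6) (h : i ≠ j) :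
    ∃ k : G, k * U.tq * k⁻¹ = U.f (of 3) * B.pr i j := by
  obtain ⟨σ, h1, h2⟩ := pair_perm i j h
  have hl : gam * sW * gam⁻¹ = sU * dA := label_facts.2
  refine ⟨B.L0.ρ σ * B.gm, ?_⟩
  rw [B.pr_eq h1 h2, B.tq_eq, gm]
  calc B.L0.ρ σ * B.L2.ρ gam * B.L2.ρ sW * (B.L0.ρ σ * B.L2.ρ gam)⁻¹ =
      B.L0.ρ σ * (B.L2.ρ gam * B.L2.ρ sW * (B.L2.ρ gam)⁻¹) * (B.L0.ρ σ)⁻¹ := by group
    _ = B.L0.ρ σ * (U.f (of 3) * B.L2.ρ dA) * (B.L0.ρ σ)⁻¹ := by
      rw [← map_inv, ← map_mul, ← map_mul, hl, map_mul, B.vU]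
    _ = _ := by rw [← mul_assoc, ← B.alpha_comm]; group

theorem only_nd : U.Only B.nd [1] := by rw [B.nd_eq]; exact U.only_double_of B.h8 (Or.inr ⟨B⟩)

theorem has_tq : U.Has U.tq 3 := by
  have h := U.has_code B.h8 (m := 432) (v := 13) (by norm_num) (by norm_num) (by norm_num) (by decide +kernel)
  rwa [show wtV 13 = 3 by decide +kernel] at h

/-- Three disjoint pairs. -/
theorem base_hole : B.pr 1 2 * B.pr 0 3 * B.pr 4 5 = U.f (of 3) := by
  set c := B.pr 1 2 * B.pr 0 3 * B.pr 4 5 with hc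
  have hmem : c ∈ B.E32 := mul_mem (mul_mem (B.pr_mem 1 2) (B.pr_mem 0 3)) (B.pr_mem 4 5)
  have fA : U.ι 3 * c * (U.ι 3)⁻¹ = c := by
    rw [← B.vals0.1, hc, ← conj_mul, ← conj_mul, B.pr_conj, B.pr_conj, B.pr_conj,
      show sA 1 = 2 by decide, show sA 2 = 0 by decide, show sA 0 = 1 by decide, show sA 3 = 3 by decide,
      show sA 4 = 4 by decide, show sA 5 = 5 by decide, ← B.pr_trans 2 1 0, ← B.pr_trans 1 0 3,
      B.pr_symm 2 1, mul_assoc (B.pr 1 2), ← mul_assoc (B.pr 1 0), B.pr_sq, one_mul]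
  have fB : U.ι 9 * c * (U.ι 9)⁻¹ = c := by
    rw [← B.vals0.2.1, hc, ← conj_mul, ← conj_mul, B.pr_conj, B.pr_conj, B.pr_conj,
      show sB 1 = 1 by decide, show sB 2 = 2 by decide, show sB 0 = 0 by decide, show sB 3 = 4 by decide,
      show sB 4 = 5 by decide, show sB 5 = 3 by decide, mul_assoc, mul_assoc, ← B.pr_trans 0 3 4,
      ← B.pr_trans 5 4 3, mul_assoc, B.pr_comm 5 4 4 3, ← mul_assoc (B.pr 3 4), B.pr_symm 4 3, B.pr_sq,
      one_mul, B.pr_symm 5 4]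
  obtain ⟨τ, hτ, σ, hσ, e⟩ := B.E32_dec hmem
  have hτ9 : U.ι 9 * B.L2.ρ τ * (U.ι 9)⁻¹ = B.L2.ρ τ := by rw [← B.L2.comm, mul_inv_cancel_right]
  have hσfix : sA * σ * sA⁻¹ = σ := by
    refine B.L1.inj (mul_left_cancel (a := B.L2.ρ τ) ?_)
    rw [map_mul, map_mul, map_inv, B.vals1.1]
    nth_rewrite 1 [← hτ9]
    rw [conj_mul, ← e]
    exact fB
  have hc0 : ∃ τ' ∈ E0S, c = B.L2.ρ τ' := by
    rcases fix_e1 σ hσ hσfix with rfl | rfl
    · exact ⟨τ, hτ, by rw [e, map_one, mul_one]⟩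
    · exact ⟨τ * sU, mul_mem hτ e0_mem.1, by rw [e, map_mul, B.vU, B.alpha_eq]⟩
  obtain ⟨τ', hτ', e'⟩ := hc0
  have hτfix : sB * τ' * sB⁻¹ = τ' := by
    refine B.L2.inj ?_
    rw [map_mul, map_mul, map_inv, B.vB, ← e']
    exact fA
  rcases fix_e0 τ' hτ' hτfix with rfl | rfl
  · exfalso
    rw [map_one, hc] at e'
    have h03 : B.pr 0 3 = B.pr 1 2 * B.pr 4 5 := by
      calc B.pr 0 3 = (B.pr 1 2 * B.pr 1 2) * B.pr 0 3 * (B.pr 4 5 * B.pr 4 5) := by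
            rw [B.pr_sq, B.pr_sq, one_mul, mul_one]
        _ = B.pr 1 2 * (B.pr 1 2 * B.pr 0 3 * B.pr 4 5) * B.pr 4 5 := by group
        _ = _ := by rw [e', mul_one]
    obtain ⟨h, hh⟩ := B.nd_conj_code
    obtain ⟨k, hk⟩ := B.tq_conj_alpha 0 3 (by decide)
    rw [h03, ← mul_assoc, ← hh] at hk
    refine U.not_conj_of B.only_nd B.has_tq (by simp) (k⁻¹ * h) ?_
    calc k⁻¹ * h * B.nd * (k⁻¹ * h)⁻¹ = k⁻¹ * (h * B.nd * h⁻¹) * k := by group
      _ = k⁻¹ * (k * U.tq * k⁻¹) * k := by rw [hk]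
      _ = _ := by group
  · rw [e', B.vU]

theorem hole {a b c d e f : Fin 6} (hab : a ≠ b) (hac : a ≠ c) (had : a ≠ d) (hae : a ≠ e) (haf : a ≠ f)
    (hbc : b ≠ c) (hbd : b ≠ d) (hbe : b ≠ e) (hbf : b ≠ f) (hcd : c ≠ d) (hce : c ≠ e) (hcf : c ≠ f)
    (hde : d ≠ e) (hdf : d ≠ f) (hef : e ≠ f) : B.pr a b * B.pr c d * B.pr e f = U.f (of 3) := by
  obtain ⟨σ, h1, h2, h0, h3⟩ := six_perm a b c d hab hac had hbc hbd hcd
  have h45 : σ 4 = e ∧ σ 5 = f ∨ σ 4 = f ∧ σ 5 = e := by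
    have key : ∀ a b c d e f : Fin 6, a ≠ b → a ≠ c → a ≠ d → a ≠ e → a ≠ f → b ≠ c → b ≠ d → b ≠ e → b ≠ f →
        c ≠ d → c ≠ e → c ≠ f → d ≠ e → d ≠ f → e ≠ f → ∀ x : Fin 6,
        x ≠ a → x ≠ b → x ≠ c → x ≠ d → x = e ∨ x = f := by
      intro a b c d e f hab hac had hae haf hbc hbd hbe hbf hcd hce hcf hde hdf hef x xa xb xc xd
      have hcard : ({a, b, c, d, e, f} : Finset (Fin 6)).card = 6 := by
        simp [Finset.card_insert_of_notMem, hab, hac, had, hae, haf, hbc, hbd, hbe, hbf, hcd, hce, hcf,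
          hde, hdf, hef]
      have hu : ({a, b, c, d, e, f} : Finset (Fin 6)) = Finset.univ :=
        Finset.eq_univ_of_card _ (by rw [hcard, Fintype.card_fin])
      have hx : x ∈ ({a, b, c, d, e, f} : Finset (Fin 6)) := hu ▸ Finset.mem_univ x
      simpa [xa, xb, xc, xd] using hx
    have k4 := key a b c d e f hab hac had hae haf hbc hbd hbe hbf hcd hce hcf hde hdf hef (σ 4)
      (by rw [← h1]; exact σ.injective.ne (by decide)) (by rw [← h2]; exact σ.injective.ne (by decide))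
      (by rw [← h0]; exact σ.injective.ne (by decide)) (by rw [← h3]; exact σ.injective.ne (by decide))
    have k5 := key a b c d e f hab hac had hae haf hbc hbd hbe hbf hcd hce hcf hde hdf hef (σ 5)
      (by rw [← h1]; exact σ.injective.ne (by decide)) (by rw [← h2]; exact σ.injective.ne (by decide))
      (by rw [← h0]; exact σ.injective.ne (by decide)) (by rw [← h3]; exact σ.injective.ne (by decide))
    have hne : σ 4 ≠ σ 5 := σ.injective.ne (by decide)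
    rcases k4 with k4 | k4 <;> rcases k5 with k5 | k5
    · exact absurd (k4.trans k5.symm) hne
    · exact Or.inl ⟨k4, k5⟩
    · exact Or.inr ⟨k4, k5⟩
    · exact absurd (k4.trans k5.symm) hne
  have hef' : B.pr e f = B.pr (σ 4) (σ 5) := by
    rcases h45 with ⟨k4, k5⟩ | ⟨k4, k5⟩ <;> rw [k4, k5]
    exact B.pr_symm e f
  rw [hef', ← h1, ← h2, ← h0, ← h3, ← B.pr_conj, ← B.pr_conj, ← B.pr_conj, conj_mul, conj_mul, B.base_hole,
    ← B.alpha_comm, mul_inv_cancel_right]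

theorem pr_gen {K : Subgroup G} (h : ∀ i j, B.pr i j ∈ K) : B.E32 ≤ K := by
  have hα : U.f (of 3) ∈ K := by
    rw [← B.base_hole]; exact mul_mem (mul_mem (h 1 2) (h 0 3)) (h 4 5)
  refine sup_le ?_ ?_
  · rintro _ ⟨τ, hτ, rfl⟩
    obtain ⟨ρ, hρ, e⟩ := List.any_eq_true.mp (e0_span τ hτ)
    rw [beq_iff_eq] at e
    subst e
    have b0 : sU ∈ K.comap B.L2.ρ := by show B.L2.ρ sU ∈ K; rw [B.vU]; exact hα
    have b1 : dA ∈ K.comap B.L2.ρ := by show B.L2.ρ dA ∈ K; rw [← B.pr_one_two]; exact h 1 2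
    have b2 : sB * dA * sB⁻¹ ∈ K.comap B.L2.ρ := by
      show B.L2.ρ _ ∈ K; rw [← B.pr_two_zero]; exact h 2 0
    show ρ ∈ K.comap B.L2.ρ
    simp only [List.mem_cons, List.not_mem_nil, or_false] at hρ
    rcases hρ with rfl | rfl | rfl | rfl | rfl | rfl | rfl | rfl
    · exact one_mem _
    · exact b0
    · exact b1
    · exact mul_mem b0 b1
    · exact b2
    · exact mul_mem b0 b2
    · exact mul_mem b1 b2
    · exact mul_mem b0 (mul_mem b1 b2)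
  · rintro _ ⟨τ, hτ, rfl⟩
    obtain ⟨ρ, hρ, e⟩ := List.any_eq_true.mp
      (e1_span (sT * sU) u_facts.2.1 (by decide +kernel) (by decide +kernel) τ hτ)
    rw [beq_iff_eq] at e
    subst e
    have b0 : sV ∈ K.comap B.L1.ρ := by show B.L1.ρ sV ∈ K; rw [← B.alpha_eq]; exact hα
    have b1 : sT * sU ∈ K.comap B.L1.ρ := by show B.L1.ρ _ ∈ K; rw [← B.pr_four_five]; exact h 4 5
    have b2 : sA * (sT * sU) * sA⁻¹ ∈ K.comap B.L1.ρ := by
      show B.L1.ρ _ ∈ K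
      rw [map_mul, map_mul, map_inv, B.vals1.1, ← B.pr_four_five, ← B.vals0.2.1, B.pr_conj]
      exact h _ _
    show ρ ∈ K.comap B.L1.ρ
    simp only [List.mem_cons, List.not_mem_nil, or_false] at hρ
    rcases hρ with rfl | rfl | rfl | rfl | rfl | rfl | rfl | rfl
    · exact one_mem _
    · exact b0
    · exact b1
    · exact mul_mem b0 b1
    · exact b2
    · exact mul_mem b0 b2
    · exact mul_mem b1 b2
    · exact mul_mem b0 (mul_mem b1 b2)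

/-! ### Distinctness -/

theorem pr_only {i j : Fin 6} (h : i ≠ j) : U.Only (B.pr i j) [1] := by
  obtain ⟨σ, h1, h2⟩ := pair_perm i j h
  have hl := label_facts.1
  rw [B.pr_eq h1 h2]
  refine Coord.Only.conj U ?_ _
  have e : B.L2.ρ dA = (B.L2.ρ sB)⁻¹ * B.L2.ρ gam * B.nd * ((B.L2.ρ sB)⁻¹ * B.L2.ρ gam)⁻¹ := by
    rw [nd, ← map_inv, ← map_mul, ← map_mul, ← map_inv, ← map_mul]
    refine congrArg _ ?_
    calc dA = sB⁻¹ * (sB * dA * sB⁻¹) * sB := by group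
      _ = _ := by rw [← hl]; group
  rw [e]
  exact Coord.Only.conj U B.only_nd _

theorem has_alpha_pr {i j : Fin 6} (h : i ≠ j) : U.Has (U.f (of 3) * B.pr i j) 3 := by
  obtain ⟨k, hk⟩ := B.tq_conj_alpha i j h
  rw [← hk]; exact B.has_tq.conj U k

theorem has_alpha : U.Has (U.f (of 3)) 2 := by
  have h := U.has_code B.h8 (m := 3) (v := 12) (by norm_num) (by norm_num) (by norm_num) (by decide +kernel)
  rwa [wt_w2.1] at h

theorem pr_ne {i j : Fin 6} (h : i ≠ j) : B.pr i j ≠ 1 ∧ B.pr i j ≠ U.f (of 3) ∧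
    (∀ a b : Fin 6, B.pr i j ≠ U.f (of 3) * B.pr a b) := by
  have h1 : B.pr i j ≠ 1 := by
    obtain ⟨σ, h1, h2⟩ := pair_perm i j h
    rw [B.pr_eq h1 h2]
    intro e
    have := conj_eq_one_iff.mp e
    exact absurd (B.L2.inj (this.trans (map_one _).symm)) (by decide +kernel)
  have h2 : B.pr i j ≠ U.f (of 3) := fun e =>
    U.not_conj_of (B.pr_only h) B.has_alpha (by simp) 1 (by simp [e])
  refine ⟨h1, h2, fun a b e => ?_⟩
  rcases eq_or_ne a b with rfl | hab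
  · rw [B.pr_self, mul_one] at e; exact h2 e
  · exact U.not_conj_of (B.pr_only h) (B.has_alpha_pr hab) (by simp) 1 (by simp [e])

theorem pr_inj {a b c d : Fin 6} (hab : a ≠ b) (hcd : c ≠ d) (h : B.pr a b = B.pr c d) :
    (a = c ∧ b = d) ∨ (a = d ∧ b = c) := by
  have shared : ∀ {p q r : Fin 6}, B.pr p q = B.pr p r → q = r := by
    intro p q r e
    by_contra hne
    refine (B.pr_ne hne).1 ?_
    rw [← B.pr_trans q p r, B.pr_symm q p, e, B.pr_sq]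
  rcases eq_or_ne a c with rfl | hac
  · exact Or.inl ⟨rfl, shared h⟩
  rcases eq_or_ne a d with rfl | had
  · exact Or.inr ⟨rfl, shared (h.trans (B.pr_symm c a))⟩
  rcases eq_or_ne b c with rfl | hbc
  · exact absurd (shared ((B.pr_symm b a).trans h)) had
  rcases eq_or_ne b d with rfl | hbd
  · exact absurd (shared ((B.pr_symm b a).trans (h.trans (B.pr_symm c b)))) hac
  exfalso
  have key : ∀ a b c d : Fin 6, ∃ e f : Fin 6,
      a ≠ e ∧ a ≠ f ∧ b ≠ e ∧ b ≠ f ∧ c ≠ e ∧ c ≠ f ∧ d ≠ e ∧ d ≠ f ∧ e ≠ f := by decide +kernel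
  obtain ⟨e, f, hae, haf, hbe, hbf, hce, hcf, hde, hdf, hef⟩ := key a b c d
  have h' := B.hole hab hac had hae haf hbc hbd hbe hbf hcd hce hcf hde hdf hef
  rw [h, B.pr_sq, one_mul] at h'
  exact (B.pr_ne hef).2.1 h'

/-- All elements. -/
theorem E32_cases {x : G} (hx : x ∈ B.E32) :
    ∃ i j, x = B.pr i j ∨ x = U.f (of 3) * B.pr i j := by
  have ha : U.f (of 3) ∈ B.E32 := Subgroup.mem_sup_left B.alpha_mem
  have ha2 : U.f (of 3) * U.f (of 3) = 1 := B.E32_sq ha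
  have prod : ∀ a b c d, ∃ i j, B.pr a b * B.pr c d = B.pr i j ∨ B.pr a b * B.pr c d = U.f (of 3) * B.pr i j := by
    intro a b c d
    rcases eq_or_ne a b with rfl | hab
    · exact ⟨c, d, Or.inl (by rw [B.pr_self, one_mul])⟩
    rcases eq_or_ne c d with rfl | hcd
    · exact ⟨a, b, Or.inl (by rw [B.pr_self, mul_one])⟩
    rcases eq_or_ne b c with rfl | hbc
    · exact ⟨a, d, Or.inl (B.pr_trans a b d)⟩
    rcases eq_or_ne b d with rfl | hbd
    · exact ⟨a, c, Or.inl (by rw [B.pr_symm c b, B.pr_trans])⟩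
    rcases eq_or_ne a c with rfl | hac
    · exact ⟨b, d, Or.inl (by rw [B.pr_symm a b, B.pr_trans])⟩
    rcases eq_or_ne a d with rfl | had
    · exact ⟨b, c, Or.inl (by rw [B.pr_symm a b, B.pr_symm c a, B.pr_trans])⟩
    have key : ∀ a b c d : Fin 6, ∃ e f : Fin 6,
        a ≠ e ∧ a ≠ f ∧ b ≠ e ∧ b ≠ f ∧ c ≠ e ∧ c ≠ f ∧ d ≠ e ∧ d ≠ f ∧ e ≠ f := by decide +kernel
    obtain ⟨e, f, hae, haf, hbe, hbf, hce, hcf, hde, hdf, hef⟩ := key a b c d
    refine ⟨e, f, Or.inr ?_⟩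
    rw [← B.hole hab hac had hae haf hbc hbd hbe hbf hcd hce hcf hde hdf hef, mul_assoc _ (B.pr e f),
      B.pr_sq, mul_one]
  let S : Subgroup G :=
    { carrier := {x | x ∈ B.E32 ∧ ∃ i j, x = B.pr i j ∨ x = U.f (of 3) * B.pr i j}
      one_mem' := ⟨one_mem _, 0, 0, Or.inl (B.pr_self 0).symm⟩
      mul_mem' := fun {p q} hp hq => by
        obtain ⟨hp', a, b, e1⟩ := hp
        obtain ⟨hq', c, d, e2⟩ := hq
        refine ⟨mul_mem hp' hq', ?_⟩
        obtain ⟨i, j, e⟩ := prod a b c d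
        refine ⟨i, j, ?_⟩
        have cab : Commute (B.pr a b) (U.f (of 3)) := B.E32_comm (B.pr_mem a b) ha
        rcases e1 with rfl | rfl <;> rcases e2 with rfl | rfl
        · exact e
        · rw [← mul_assoc, cab.eq, mul_assoc]
          rcases e with e | e <;> rw [e]
          · exact Or.inr rfl
          · exact Or.inl (by rw [← mul_assoc, ha2, one_mul])
        · rw [mul_assoc]
          rcases e with e | e <;> rw [e]
          · exact Or.inr rfl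
          · exact Or.inl (by rw [← mul_assoc, ha2, one_mul])
        · rw [cab.mul_mul_mul_comm, ha2, one_mul]
          exact e
      inv_mem' := fun {p} hp => by
        rw [inv_eq_of_mul_eq_one_right (B.E32_sq hp.1)]; exact hp }
  exact ((B.pr_gen (K := S) fun i j => ⟨B.pr_mem i j, i, j, Or.inl rfl⟩) hx).2

/-- The normalizer in the centralizer of the fixed involution. -/
theorem norm_alpha {g : G} (hg : g ∈ Subgroup.normalizer (B.E32 : Set G))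
    (hga : g * U.f (of 3) = U.f (of 3) * g) : ∃ σ : P6, ∃ w ∈ B.E32, g = B.L0.ρ σ * w := by
  have hfix : ∀ {k : G}, k ∈ Subgroup.normalizer (B.E32 : Set G) → k * U.f (of 3) = U.f (of 3) * k →
      ∀ {i j : Fin 6}, i ≠ j → ∃ a b : Fin 6, a ≠ b ∧ k * B.pr i j * k⁻¹ = B.pr a b := by
    intro k hk hka i j hij
    obtain ⟨a, b, e⟩ := B.E32_cases ((Subgroup.mem_normalizer_iff.mp hk _).mp (B.pr_mem i j))
    obtain ⟨h1, h2, -⟩ := B.pr_ne hij
    rcases eq_or_ne a b with rfl | hab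
    · rw [B.pr_self, mul_one] at e
      rcases e with e | e
      · exact absurd (conj_eq_one_iff.mp e) h1
      · refine absurd ?_ h2
        calc B.pr i j = k⁻¹ * (k * B.pr i j * k⁻¹) * k := by group
          _ = U.f (of 3) := by rw [e, mul_assoc, ← hka, inv_mul_cancel_left]
    rcases e with e | e
    · exact ⟨a, b, hab, e⟩
    · exact absurd e (U.not_conj_of (B.pr_only hij) (B.has_alpha_pr hab) (by simp) k)
  have step : ∀ p : ℕ, p ≤ 6 → ∃ σ : P6, ∀ i : Fin 6, 1 ≤ (i : ℕ) → (i : ℕ) < p →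
      B.L0.ρ σ * g * B.pr 0 i * (B.L0.ρ σ * g)⁻¹ = B.pr 0 i := by
    intro p
    induction p with
    | zero => exact fun _ => ⟨1, fun i _ h => absurd h (Nat.not_lt_zero _)⟩
    | succ p ih =>
      intro hp
      obtain ⟨σ, hσ⟩ := ih (Nat.le_of_succ_le hp)
      rcases Nat.eq_zero_or_pos p with rfl | hp1
      · exact ⟨σ, fun i h1 h2 => absurd h2 (by omega)⟩
      let P : Fin 6 := ⟨p, by omega⟩
      set k := B.L0.ρ σ * g with hk
      have hkN : k ∈ Subgroup.normalizer (B.E32 : Set G) := mul_mem (B.L0_norm σ) hg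
      have hka : k * U.f (of 3) = U.f (of 3) * k := by
        rw [hk, mul_assoc, hga, ← mul_assoc, ← B.alpha_comm, mul_assoc]
      have h0P : (0 : Fin 6) ≠ P := fun e => by
        have := congrArg Fin.val e
        simp [P] at this
        omega
      obtain ⟨a, b, hab, he⟩ := hfix hkN hka h0P
      have hneq : ∀ {i : Fin 6}, (i : ℕ) < p → i ≠ P := fun hi e => by
        have := congrArg Fin.val e
        simp only [P] at this
        omega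
      have h0i : ∀ {i : Fin 6}, 1 ≤ (i : ℕ) → (0 : Fin 6) ≠ i := fun hi e => by
        rw [← e] at hi; simp at hi
      have hH1 : ∀ i : Fin 6, 1 ≤ (i : ℕ) → (i : ℕ) < (P : ℕ) →
          (a = 0 ∨ a = i ∨ b = 0 ∨ b = i) ∧ ¬ ((a = 0 ∧ b = i) ∨ (a = i ∧ b = 0)) := by
        intro i h1 h2
        constructor
        · by_contra hno
          push Not at hno
          obtain ⟨a0, ai, b0, bi⟩ := hno
          obtain ⟨c, d, hcd, hcd'⟩ := hfix hkN hka (hneq h2).symm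
          have hsplit : k * B.pr P i * k⁻¹ = B.pr a b * B.pr 0 i := by
            rw [← B.pr_trans P 0 i, ← conj_mul, B.pr_symm P 0, he, hσ i h1 h2]
          have key : ∀ a b c d : Fin 6, ∃ e f : Fin 6,
              a ≠ e ∧ a ≠ f ∧ b ≠ e ∧ b ≠ f ∧ c ≠ e ∧ c ≠ f ∧ d ≠ e ∧ d ≠ f ∧ e ≠ f := by decide +kernel
          obtain ⟨e, f, hae, haf, hbe, hbf, hce, hcf, hde, hdf, hef⟩ := key a b 0 i
          refine (B.pr_ne hcd).2.2 e f ?_
          rw [← hcd', hsplit, ← B.hole hab a0 ai hae haf b0 bi hbe hbf (h0i h1) hce hcf hde hdf hef,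
            mul_assoc _ (B.pr e f), B.pr_sq, mul_one]
        · intro h
          have e1 : B.pr a b = B.pr 0 i := by
            rcases h with ⟨rfl, rfl⟩ | ⟨rfl, rfl⟩
            · rfl
            · exact B.pr_symm _ _
          rw [e1, ← hσ i h1 h2] at he
          rcases B.pr_inj h0P (h0i h1) (mul_left_cancel (mul_right_cancel he)) with ⟨-, e⟩ | ⟨e, -⟩
          · exact hneq h2 e.symm
          · exact h0i h1 e
      have hH2 : ∀ i l : Fin 6, 1 ≤ (i : ℕ) → (i : ℕ) < (P : ℕ) → 1 ≤ (l : ℕ) → (l : ℕ) < (P : ℕ) →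
          ¬ (a = i ∧ b = l) := by
        intro i l h1 h2 h3 h4
        rintro ⟨rfl, rfl⟩
        have e1 : k * B.pr a b * k⁻¹ = B.pr a b := by
          rw [← B.pr_trans a 0 b, ← conj_mul, B.pr_symm a 0, hσ a h1 h2, hσ b h3 h4]
        have e2 := mul_left_cancel (mul_right_cancel (he.trans e1.symm))
        rcases B.pr_inj h0P hab e2 with ⟨-, e⟩ | ⟨-, e⟩
        · exact hneq h4 e.symm
        · exact hneq h2 e.symm
      obtain ⟨τ, hτ, hτi⟩ := star_step P a b hp1 hab hH1 hH2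
      refine ⟨τ * σ, fun i h1 h2 => ?_⟩
      rw [map_mul, mul_assoc (B.L0.ρ τ), ← hk,
        show B.L0.ρ τ * k * B.pr 0 i * (B.L0.ρ τ * k)⁻¹ = B.L0.ρ τ * (k * B.pr 0 i * k⁻¹) * (B.L0.ρ τ)⁻¹ by group]
      rcases Nat.lt_succ_iff_lt_or_eq.mp h2 with h2 | h2
      · rw [hσ i h1 h2, B.pr_conj]
        rcases hτi i h1 h2 with ⟨e1, e2⟩ | ⟨e1, e2⟩ <;> rw [e1, e2]
        all_goals exact B.pr_symm i 0
      · obtain rfl : i = P := Fin.ext h2
        rw [he, B.pr_conj]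
        rcases hτ with ⟨e1, e2⟩ | ⟨e1, e2⟩ <;> rw [e1, e2]
        all_goals exact B.pr_symm P 0
  obtain ⟨σ, hσ⟩ := step 6 le_rfl
  set k := B.L0.ρ σ * g with hk
  have hall : ∀ i, k * B.pr 0 i * k⁻¹ = B.pr 0 i := fun i => by
    rcases Nat.eq_zero_or_pos (i : ℕ) with h | h
    · obtain rfl : i = 0 := Fin.ext h
      rw [B.pr_self, mul_one, mul_inv_cancel]
    · exact hσ i h i.isLt
  have hkE : k ∈ B.E32 := B.cent_E32 fun y hy => by
    have hle : B.E32 ≤ Subgroup.centralizer ({k} : Set G) := B.pr_gen fun i j => by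
      rw [mem_centralizer_iff', eq_comm]
      refine mul_inv_eq_iff_eq_mul.mp ?_
      rw [← B.pr_trans i 0 j, ← conj_mul, B.pr_symm i 0, hall, hall]
    exact mem_centralizer_iff'.mp (hle hy)
  exact ⟨σ⁻¹, k, hkE, by rw [hk, map_inv, inv_mul_cancel_left]⟩

theorem L0_inter {σ : P6} (h : B.L0.ρ σ ∈ B.E32) : σ = 1 := by
  refine pair_fix σ fun i => ?_
  rcases eq_or_ne 0 i with rfl | h0
  · rcases eq_or_ne (σ 0) 0 with e | e
    · exact Or.inl ⟨e, e⟩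
    exfalso
    obtain ⟨j, hj0, hjs⟩ : ∃ j : Fin 6, j ≠ 0 ∧ j ≠ σ 0 := by
      have key : ∀ a : Fin 6, ∃ j : Fin 6, j ≠ 0 ∧ j ≠ a := by decide
      exact key _
    have fix : ∀ {j : Fin 6}, 0 ≠ j → (σ 0 = 0 ∧ σ j = j) ∨ (σ 0 = j ∧ σ j = 0) := fun {j} hj => by
      have hc := B.pr_conj σ 0 j
      rw [B.E32_comm h (B.pr_mem 0 j), mul_inv_cancel_right] at hc
      rcases B.pr_inj hj (σ.injective.ne hj) hc with ⟨a, b⟩ | ⟨a, b⟩
      · exact Or.inl ⟨a.symm, b.symm⟩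
      · exact Or.inr ⟨b.symm, a.symm⟩
    rcases fix (Ne.symm hj0) with ⟨a, -⟩ | ⟨a, -⟩
    · exact e a
    · exact hjs a.symm
  have hc := B.pr_conj σ 0 i
  rw [B.E32_comm h (B.pr_mem 0 i), mul_inv_cancel_right] at hc
  rcases B.pr_inj h0 (σ.injective.ne h0) hc with ⟨a, b⟩ | ⟨a, b⟩
  · exact Or.inl ⟨a.symm, b.symm⟩
  · exact Or.inr ⟨b.symm, a.symm⟩

end Big

end CfsgLib.PSpFourThree
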