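import Cfsg.Agent.Lib.PSpFourThree.Eight.CentSmall

/-!
The last kind: the quaternion group in the centralizer of the central involution.
-/

set_option autoImplicit false
set_option maxRecDepth 20000
set_option linter.style.haveILetI false
set_option linter.unusedSectionVars false

namespace CfsgLib.PSpFourThree

open CfsgLib.SymNineThree CfsgLib.SymNineThree.Mon CfsgLib.PSpFourLocal

attribute [local instance 2000] List.decidableBAll List.decidableBEx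

/-- The fourth power is trivial. -/
abbrev q4 (u : S23) : Prop := u * u * (u * u) = 1

theorem q8_mul : ∀ u : S23, q4 u → ∀ v : S23, q4 v → q4 (u * v) := by decide +kernel

theorem q8_basic : (∀ u : S23, q4 u → q4 u⁻¹ ∧ (u * u = 1 ∨ u * u = -1) ∧ (u * u = 1 → u = 1 ∨ u = -1)) ∧
    (∀ u : S23, u * u * (u * u) * (u * u * (u * u)) = 1 → q4 u) ∧
    ((Finset.univ.filter fun u : S23 => q4 u).card = 8) := by
  refine ⟨?_, ?_, ?_⟩ <;> decide +kernel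

theorem q8_fpf : ∀ u : S23, q4 u → u ≠ 1 → u ≠ -1 → ∀ w : S23, w * w * w = 1 → w ≠ 1 →
    u * w * u⁻¹ * w⁻¹ ≠ 1 ∧ u * w * u⁻¹ * w⁻¹ ≠ -1 ∧ q4 (u * w * u⁻¹ * w⁻¹) ∧
      u * (w * u * w⁻¹) ≠ w * u * w⁻¹ * u := by decide +kernel

theorem q8_cover : ∀ u : S23, q4 u → u ≠ 1 → u ≠ -1 → ∀ w : S23, w * w * w = 1 → w ≠ 1 →
    ∀ v : S23, q4 v → v = 1 ∨ v = -1 ∨ v = u ∨ v = -1 * u ∨ v = w * u * w⁻¹ ∨ v = -1 * (w * u * w⁻¹) ∨
      v = u * (w * u * w⁻¹) ∨ v = -1 * (u * (w * u * w⁻¹)) := by decide +kernel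

theorem q8_comm_surj : ∀ w : S23, w * w * w = 1 → w ≠ 1 → ∀ v : S23, q4 v →
    ∃ u : S23, q4 u ∧ (u * w * u⁻¹ * w⁻¹ = v ∨ u * w * u⁻¹ * w⁻¹ = -1 * v) := by decide +kernel

/-- The elements of `SL(2,3)` whose fourth power is trivial. -/
def Q8S : Subgroup S23 where
  carrier := {u | q4 u}
  one_mem' := by simp [q4]
  mul_mem' := fun hu hv => q8_mul _ hu _ hv
  inv_mem' := fun hu => (q8_basic.1 _ hu).1

theorem inK_t : inK 0 432 = true ∧ mulM 432 432 = 0 ∧ inT 432 = false ∧ sumZ 9 = false ∧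
    mulM 432 (trC 9) = mulM (trC 9) 432 := by decide +kernel

universe u

variable {G : Type u} [Group G] [Finite G] {X : Ctx G}

namespace Coord

variable (U : Coord X)

/-- The central involution. -/
noncomputable def tq : G := U.f (of 432)

theorem tq_facts (h8 : U.k = 3) : U.tq ∈ X.C ∧ U.tq * U.tq = 1 ∧ U.tq ≠ 1 ∧ X.f U.tq = -1 ∧
    U.tq ∈ Subgroup.normalizer (X.J : Set G) := by
  obtain ⟨h0, hm, hT, -, -⟩ := inK_t
  have hC : U.tq ∈ X.C := U.f_mem_C (by rw [mem_Kd, code_of (by norm_num)]; exact h0)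
  have h2 : U.tq * U.tq = 1 := by
    rw [tq, ← U.f_mul (U.top8 h8 _) (U.top8 h8 _), show of 432 * of 432 = (1 : Mon) from code_eq.mpr (by
      rw [code_mul, code_of (by norm_num), hm, code_one]), U.f_one]
  have h1 : U.tq ≠ 1 := fun e => by
    have h' : of 432 = (1 : Mon) := U.f_eq_one (U.top8 h8 _) e
    exact absurd (congrArg (fun x : Mon => (x.c : ℕ)) h') (by rw [code_of (by norm_num), code_one]; norm_num)
  refine ⟨hC, h2, h1, ?_, U.f_mem_N (U.top8 h8 _)⟩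
  refine sl_inv _ (by rw [← X.f_mul hC hC, h2, X.f_one]) fun e => h1 ?_
  exact X.R_sq ((X.f_eq_one hC).mp e) h2

/-- The preimage of the quaternion group in the centralizer of the involution. -/
noncomputable def Eq : Subgroup G where
  carrier := {g | g ∈ X.C ∧ g * U.tq = U.tq * g ∧ q4 (X.f g)}
  one_mem' := ⟨one_mem _, by simp, by rw [X.f_one]; simp [q4]⟩
  mul_mem' := fun {g h} hg hh => ⟨mul_mem hg.1 hh.1, (Commute.mul_left hg.2.1 hh.2.1).eq,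
    by rw [X.f_mul hg.1 hh.1]; exact q8_mul _ hg.2.2 _ hh.2.2⟩
  inv_mem' := fun {g} hg => ⟨inv_mem hg.1, (Commute.inv_left hg.2.1).eq,
    by rw [X.f_inv hg.1]; exact (q8_basic.1 _ hg.2.2).1⟩

theorem pow_four_mem_Z (h8 : U.k = 3) {g : G} (hg : g ∈ U.Eq) : g ^ 4 ∈ X.Z := by
  obtain ⟨htC, ht2, -, htf, -⟩ := U.tq_facts h8
  obtain ⟨hC, ht, hq⟩ := hg
  have hR : g ^ 4 ∈ X.R := (X.f_eq_one (pow_mem hC 4)).mp (by
    rw [X.f_pow hC, show (4 : ℕ) = 2 + 2 from rfl, pow_add, pow_two]; exact hq)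
  refine X.neg_one_no_fix htC htf ht2 hR ?_
  rw [← ((show Commute g U.tq from ht).pow_left 4).eq, mul_inv_cancel_right, mul_inv_cancel]
  exact one_mem _

theorem eq_mul_mem (h8 : U.k = 3) {g h : G} (hg : g ∈ U.Eq) (hh : h ∈ U.Eq) (g4 : g ^ 4 = 1)
    (h4 : h ^ 4 = 1) : (g * h) ^ 4 = 1 := by
  classical
  haveI : Fact (Nat.Prime 2) := ⟨Nat.prime_two⟩
  let ψ : U.Eq →* Q8S := MonoidHom.mk' (fun x => ⟨X.f x, x.2.2.2⟩)
    (fun x y => Subtype.ext (X.f_mul x.2.1 y.2.1))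
  haveI : Group.IsNilpotent Q8S := (IsPGroup.of_card (p := 2) (n := 3) (by
    rw [Nat.card_eq_fintype_card, show (2 : ℕ) ^ 3 = 8 from rfl, ← q8_basic.2.2]
    exact Fintype.card_of_subtype _ (fun u => by simp [Q8S]))).isNilpotent
  haveI : Group.IsNilpotent U.Eq := by
    refine Subgroup.isNilpotent_of_ker_le_center ψ (fun x hx => Subgroup.mem_center_iff.mpr fun y => ?_)
    have hxR : (x : G) ∈ X.R := (X.f_eq_one x.2.1).mp (congrArg Subtype.val (MonoidHom.mem_ker.mp hx))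
    obtain ⟨htC, ht2, -, htf, -⟩ := U.tq_facts h8
    have hxZ : (x : G) ∈ X.Z := X.neg_one_no_fix htC htf ht2 hxR (by
      rw [← x.2.2.1, mul_inv_cancel_right, mul_inv_cancel]; exact one_mem _)
    exact Subtype.ext (X.Z_comm y.2.1 hxZ)
  obtain ⟨P⟩ : Nonempty (Sylow 2 U.Eq) := inferInstance
  haveI hPn : (P : Subgroup U.Eq).Normal :=
    (((Group.isNilpotent_of_finite_tfae (G := U.Eq)).out 0 3 :
      Group.IsNilpotent U.Eq ↔ ∀ (p : ℕ) (_hp : Fact p.Prime) (P : Sylow p U.Eq),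
        (P : Subgroup U.Eq).Normal)).mp inferInstance 2 ⟨Nat.prime_two⟩ P
  have hmem : ∀ x : U.Eq, x ^ 4 = 1 → x ∈ (P : Subgroup U.Eq) := by
    intro x hx
    obtain ⟨Q, hQ⟩ := (show IsPGroup 2 (Subgroup.zpowers x) from fun ⟨y, hy⟩ => ⟨2, Subtype.ext (by
      obtain ⟨i, rfl⟩ := Subgroup.mem_zpowers_iff.mp hy
      show (x ^ i) ^ 2 ^ 2 = 1
      rw [← zpow_natCast, ← zpow_mul, mul_comm, zpow_mul, zpow_natCast,
        show x ^ 2 ^ 2 = 1 from hx, one_zpow])⟩).exists_le_sylow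
    haveI := Sylow.unique_of_normal P hPn
    rw [Subsingleton.elim P Q]
    exact hQ (Subgroup.mem_zpowers x)
  obtain ⟨n, hn⟩ := P.isPGroup' ⟨_, mul_mem (hmem ⟨g, hg⟩ (Subtype.ext g4)) (hmem ⟨h, hh⟩ (Subtype.ext h4))⟩
  have hn' : (g * h) ^ 2 ^ n = 1 := congrArg (fun z : (P : Subgroup U.Eq) => ((z : U.Eq) : G)) hn
  have hz := X.cube_Z (U.pow_four_mem_Z h8 (mul_mem hg hh))
  refine orderOf_eq_one_iff.mp (Nat.eq_one_of_dvd_coprimes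
    (show (2 ^ n).Coprime 3 from Nat.Coprime.pow_left n (by norm_num)) ?_ ?_)
  · exact orderOf_dvd_of_pow_eq_one (by rw [← pow_mul, mul_comm, pow_mul, hn', one_pow])
  · exact orderOf_dvd_of_pow_eq_one (by rw [pow_three, ← mul_assoc]; exact hz)

/-- The quaternion group. -/
noncomputable def Qa (h8 : U.k = 3) : Subgroup G where
  carrier := {g | g ∈ U.Eq ∧ g ^ 4 = 1}
  one_mem' := ⟨one_mem _, one_pow _⟩
  mul_mem' := fun {g h} hg hh => ⟨mul_mem hg.1 hh.1, U.eq_mul_mem h8 hg.1 hh.1 hg.2 hh.2⟩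
  inv_mem' := fun {g} hg => ⟨inv_mem hg.1, by rw [inv_pow, hg.2, inv_one]⟩

theorem mem_Qa (h8 : U.k = 3) {g : G} :
    g ∈ U.Qa h8 ↔ g ∈ X.C ∧ g * U.tq = U.tq * g ∧ g ^ 4 = 1 := by
  refine ⟨fun h => ⟨h.1.1, h.1.2.1, h.2⟩, fun ⟨hC, ht, h4⟩ => ⟨⟨hC, ht, ?_⟩, h4⟩⟩
  have := X.f_pow hC 4
  rw [h4, X.f_one, show (4 : ℕ) = 2 + 2 from rfl, pow_add, pow_two] at this
  exact this.symm

/-- Elements of order prime to three. -/
theorem mem_Qa_of (h8 : U.k = 3) {g : G} (hC : g ∈ X.C) (ht : g * U.tq = U.tq * g)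
    (h3 : (orderOf g).Coprime 3) : g ∈ U.Qa h8 := by
  have hd : orderOf (X.f g) ∣ orderOf g := orderOf_dvd_of_pow_eq_one (by
    rw [← X.f_pow hC, pow_orderOf_eq_one, X.f_one])
  have h24 : orderOf (X.f g) ∣ 8 := by
    have h : orderOf (X.f g) ∣ 8 * 3 := by
      have h := orderOf_dvd_natCard (X.f g)
      rwa [Ctx.card_S23] at h
    exact (h3.coprime_dvd_left hd).dvd_of_dvd_mul_right h
  have hE : g ∈ U.Eq := ⟨hC, ht, q8_basic.2.1 _ (by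
    have := orderOf_dvd_iff_pow_eq_one.mp h24
    simpa [pow_succ, mul_assoc] using this)⟩
  refine ⟨hE, orderOf_eq_one_iff.mp (Nat.eq_one_of_dvd_coprimes h3
    (orderOf_dvd_of_pow_eq_one (by rw [← pow_mul, mul_comm, pow_mul, pow_orderOf_eq_one, one_pow]))
    (orderOf_dvd_of_pow_eq_one (by
      rw [pow_three, ← mul_assoc]; exact X.cube_Z (U.pow_four_mem_Z h8 hE))))⟩

theorem tq_mem_Qa (h8 : U.k = 3) : U.tq ∈ U.Qa h8 := by
  obtain ⟨htC, ht2, -, -, -⟩ := U.tq_facts h8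
  exact (U.mem_Qa h8).mpr ⟨htC, rfl, by
    rw [show (4 : ℕ) = 2 + 2 from rfl, pow_add, pow_two, ht2, one_mul]⟩

/-- The map to the quaternion group is injective. -/
theorem Qa_inj (h8 : U.k = 3) {g h : G} (hg : g ∈ U.Qa h8) (hh : h ∈ U.Qa h8)
    (e : X.f g = X.f h) : g = h := by
  have hx := mul_mem (inv_mem hg) hh
  set x := g⁻¹ * h with hxdef
  have hR : x ∈ X.R := (X.f_eq_one hx.1.1).mp (by
    rw [hxdef, X.f_mul (inv_mem hg.1.1) hh.1.1, X.f_inv hg.1.1, e, inv_mul_cancel])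
  have h1 : x = 1 := orderOf_eq_one_iff.mp (Nat.eq_one_of_dvd_coprimes (show Nat.Coprime 4 3 by norm_num)
    (orderOf_dvd_of_pow_eq_one hx.2) (orderOf_dvd_of_pow_eq_one (X.exp_R _ hR)))
  exact (inv_mul_eq_one.mp h1)

theorem Qa_surj (h8 : U.k = 3) {u : S23} (hu : q4 u) : ∃ g ∈ U.Qa h8, X.f g = u := by
  obtain ⟨htC, ht2, -, htf, -⟩ := U.tq_facts h8
  obtain ⟨q, hq, hqt, hqu⟩ := X.cent_surj htC htf ht2 u
  have hE : q ∈ U.Eq := ⟨hq, hqt, by rw [hqu]; exact hu⟩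
  have hz := U.pow_four_mem_Z h8 hE
  have hz' : (q ^ 4)⁻¹ ∈ X.Z := inv_mem hz
  refine ⟨q * (q ^ 4)⁻¹, (U.mem_Qa h8).mpr ⟨mul_mem hq (X.R_le (X.Z_le_R hz')), ?_, ?_⟩, ?_⟩
  · exact (Commute.mul_left hqt (((show Commute q U.tq from hqt).pow_left 4).inv_left)).eq
  · rw [((Commute.self_pow q 4).inv_right).mul_pow, inv_pow, ← pow_mul,
      show q ^ (4 * 4) = q ^ 4 * (q ^ 4) ^ 3 by rw [← pow_mul, ← pow_add],
      show (q ^ 4) ^ 3 = 1 by rw [pow_three, ← mul_assoc]; exact X.cube_Z hz, mul_one, mul_inv_cancel]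
  · rw [X.f_mul hq (X.R_le (X.Z_le_R hz')), (X.f_eq_one (X.R_le (X.Z_le_R hz'))).mpr (X.Z_le_R hz'),
      mul_one, hqu]

theorem Qa_two_els (h8 : U.k = 3) {g : G} (hg : g ∈ U.Qa h8) :
    (g * g = 1 → g = 1 ∨ g = U.tq) ∧ (g * g = 1 ∨ g * g = U.tq) := by
  obtain ⟨-, -, -, htf, -⟩ := U.tq_facts h8
  obtain ⟨h1, h2, h3⟩ := q8_basic.1 _ hg.1.2.2
  refine ⟨fun e => ?_, ?_⟩
  · rcases h3 (by rw [← X.f_mul hg.1.1 hg.1.1, e, X.f_one]) with h | h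
    · exact Or.inl (U.Qa_inj h8 hg (one_mem _) (by rw [h, X.f_one]))
    · exact Or.inr (U.Qa_inj h8 hg (U.tq_mem_Qa h8) (by rw [h, htf]))
  · rcases h2 with h | h
    · exact Or.inl (U.Qa_inj h8 (mul_mem hg hg) (one_mem _) (by rw [X.f_mul hg.1.1 hg.1.1, h, X.f_one]))
    · exact Or.inr (U.Qa_inj h8 (mul_mem hg hg) (U.tq_mem_Qa h8)
        (by rw [X.f_mul hg.1.1 hg.1.1, h, htf]))

theorem Qa_pgroup (h8 : U.k = 3) : IsPGroup 2 (U.Qa h8) := fun g => ⟨2, Subtype.ext g.2.2⟩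

theorem Qa_root (h8 : U.k = 3) : ∃ y ∈ U.Qa h8, y * y = U.tq := by
  obtain ⟨-, -, -, htf, -⟩ := U.tq_facts h8
  obtain ⟨u, hu⟩ := sl_root
  obtain ⟨y, hy, hyu⟩ := U.Qa_surj h8 (u := u) (show q4 u by show u * u * (u * u) = 1; rw [hu]; exact sl_neg.1)
  exact ⟨y, hy, U.Qa_inj h8 (mul_mem hy hy) (U.tq_mem_Qa h8) (by rw [X.f_mul hy.1.1 hy.1.1, hyu, hu, htf])⟩

theorem nine_facts (h8 : U.k = 3) : U.ι 9 ∈ X.C ∧ U.ι 9 * U.tq = U.tq * U.ι 9 ∧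
    X.f (U.ι 9) * X.f (U.ι 9) * X.f (U.ι 9) = 1 ∧ X.f (U.ι 9) ≠ 1 := by
  have hJ : U.ι 9 ∈ X.J := U.ι_mem (by norm_num)
  have hC : U.ι 9 ∈ X.C := X.J_le hJ
  refine ⟨hC, (U.f_comm (tr_mem (by norm_num)) (U.top8 h8 _)).mpr (comm_iff.mpr (by
    rw [code_of (by norm_num), code_tr (by norm_num)]; exact inK_t.2.2.2.2.symm)),
    by rw [← X.f_mul hC hC, ← X.f_mul (mul_mem hC hC) hC, X.cube' hJ, X.f_one], fun e => ?_⟩
  have := (X.f_eq_one hC).mp e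
  rw [U.ι_mem_R (by norm_num), inK_t.2.2.2.1] at this
  exact absurd this (by simp)

theorem nine_conj (h8 : U.k = 3) {g : G} (hg : g ∈ U.Qa h8) :
    U.ι 9 * g * (U.ι 9)⁻¹ ∈ U.Qa h8 := by
  obtain ⟨hC, hct, -, -⟩ := U.nine_facts h8
  refine (U.mem_Qa h8).mpr ⟨mul_mem (mul_mem hC hg.1.1) (inv_mem hC),
    ((Commute.mul_left hct hg.1.2.1).mul_left (Commute.inv_left hct)).eq, ?_⟩
  rw [conj_pow, hg.2, mul_one, mul_inv_cancel]

/-- The commutator with the element of order three. -/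
theorem comm_nine (h8 : U.k = 3) {g : G} (hg : g ∈ U.Qa h8) :
    g * U.ι 9 * g⁻¹ * (U.ι 9)⁻¹ ∈ U.Qa h8 ∧
    (g ≠ 1 → g ≠ U.tq → g * U.ι 9 * g⁻¹ * (U.ι 9)⁻¹ ≠ 1 ∧ g * U.ι 9 * g⁻¹ * (U.ι 9)⁻¹ ≠ U.tq) := by
  obtain ⟨-, -, -, htf, -⟩ := U.tq_facts h8
  obtain ⟨hC, hct, h3, h1⟩ := U.nine_facts h8
  have hm : g * U.ι 9 * g⁻¹ * (U.ι 9)⁻¹ ∈ U.Qa h8 := by
    rw [show g * U.ι 9 * g⁻¹ * (U.ι 9)⁻¹ = g * (U.ι 9 * g⁻¹ * (U.ι 9)⁻¹) by group]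
    exact mul_mem hg (U.nine_conj h8 (inv_mem hg))
  refine ⟨hm, fun g1 gt => ?_⟩
  have hval : X.f (g * U.ι 9 * g⁻¹ * (U.ι 9)⁻¹) = X.f g * X.f (U.ι 9) * (X.f g)⁻¹ * (X.f (U.ι 9))⁻¹ := by
    rw [X.f_mul (mul_mem (mul_mem hg.1.1 hC) (inv_mem hg.1.1)) (inv_mem hC),
      X.f_mul (mul_mem hg.1.1 hC) (inv_mem hg.1.1), X.f_mul hg.1.1 hC, X.f_inv hg.1.1, X.f_inv hC]
  obtain ⟨e1, e2, -, -⟩ := q8_fpf (X.f g) hg.1.2.2
    (fun e => g1 (U.Qa_inj h8 hg (one_mem _) (by rw [e, X.f_one])))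
    (fun e => gt (U.Qa_inj h8 hg (U.tq_mem_Qa h8) (by rw [e, htf]))) _ h3 h1
  exact ⟨fun e => e1 (by rw [← hval, e, X.f_one]), fun e => e2 (by rw [← hval, e, htf])⟩

theorem comm_nine_surj (h8 : U.k = 3) {v : G} (hv : v ∈ U.Qa h8) : ∃ g ∈ U.Qa h8,
    g * U.ι 9 * g⁻¹ * (U.ι 9)⁻¹ = v ∨ g * U.ι 9 * g⁻¹ * (U.ι 9)⁻¹ = U.tq * v := by
  obtain ⟨htC, -, -, htf, -⟩ := U.tq_facts h8
  obtain ⟨hC, hct, h3, h1⟩ := U.nine_facts h8
  obtain ⟨u, hu, huv⟩ := q8_comm_surj _ h3 h1 _ hv.1.2.2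
  obtain ⟨g, hg, hgu⟩ := U.Qa_surj h8 hu
  have hm := (U.comm_nine h8 hg).1
  have hval : X.f (g * U.ι 9 * g⁻¹ * (U.ι 9)⁻¹) = u * X.f (U.ι 9) * u⁻¹ * (X.f (U.ι 9))⁻¹ := by
    rw [← hgu, X.f_mul (mul_mem (mul_mem hg.1.1 hC) (inv_mem hg.1.1)) (inv_mem hC),
      X.f_mul (mul_mem hg.1.1 hC) (inv_mem hg.1.1), X.f_mul hg.1.1 hC, X.f_inv hg.1.1, X.f_inv hC]
  refine ⟨g, hg, huv.imp (fun e => U.Qa_inj h8 hm hv (hval.trans e)) fun e =>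
    U.Qa_inj h8 hm (mul_mem (U.tq_mem_Qa h8) hv) ?_⟩
  rw [hval, e, X.f_mul htC hv.1.1, htf]

/-- An invariant subgroup with an element of order four contains everything. -/
theorem Qa_le (h8 : U.k = 3) {A : Subgroup G} (ht : U.tq ∈ A) {g : G} (hg : g ∈ U.Qa h8) (hgA : g ∈ A)
    (g1 : g ≠ 1) (gt : g ≠ U.tq) (he : U.ι 9 * g * (U.ι 9)⁻¹ ∈ A) : U.Qa h8 ≤ A := by
  obtain ⟨htC, -, -, htf, -⟩ := U.tq_facts h8
  obtain ⟨hC, hct, h3, h1⟩ := U.nine_facts h8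
  intro v hv
  set g' := U.ι 9 * g * (U.ι 9)⁻¹
  have hg' : g' ∈ U.Qa h8 := U.nine_conj h8 hg
  have hval : X.f g' = X.f (U.ι 9) * X.f g * (X.f (U.ι 9))⁻¹ := by
    rw [X.f_mul (mul_mem hC hg.1.1) (inv_mem hC), X.f_mul hC hg.1.1, X.f_inv hC]
  have fin : ∀ {w : G}, w ∈ U.Qa h8 ⊓ A → X.f v = X.f w → v ∈ A := fun hw e => by
    rw [U.Qa_inj h8 hv hw.1 e]; exact hw.2
  have hT : U.tq ∈ U.Qa h8 ⊓ A := ⟨U.tq_mem_Qa h8, ht⟩
  have hG : g ∈ U.Qa h8 ⊓ A := ⟨hg, hgA⟩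
  have hG' : g' ∈ U.Qa h8 ⊓ A := ⟨hg', he⟩
  rcases q8_cover (X.f g) hg.1.2.2
      (fun e => g1 (U.Qa_inj h8 hg (one_mem _) (by rw [e, X.f_one])))
      (fun e => gt (U.Qa_inj h8 hg (U.tq_mem_Qa h8) (by rw [e, htf]))) _ h3 h1 _ hv.1.2.2 with
    e | e | e | e | e | e | e | e
  · exact fin (one_mem _) (by rw [e, X.f_one])
  · exact fin hT (by rw [e, htf])
  · exact fin hG e
  · exact fin (mul_mem hT hG) (by rw [e, X.f_mul htC hg.1.1, htf])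
  · exact fin hG' (by rw [e, hval])
  · exact fin (mul_mem hT hG') (by rw [e, X.f_mul htC hg'.1.1, htf, hval])
  · exact fin (mul_mem hG hG') (by rw [e, X.f_mul hg.1.1 hg'.1.1, hval])
  · exact fin (mul_mem hT (mul_mem hG hG'))
      (by rw [e, X.f_mul htC (mul_mem hg.1.1 hg'.1.1), htf, X.f_mul hg.1.1 hg'.1.1, hval])

theorem Qa_noncomm (h8 : U.k = 3) {g : G} (hg : g ∈ U.Qa h8) (g1 : g ≠ 1) (gt : g ≠ U.tq) :
    g * (U.ι 9 * g * (U.ι 9)⁻¹) ≠ U.ι 9 * g * (U.ι 9)⁻¹ * g := by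
  obtain ⟨-, -, -, htf, -⟩ := U.tq_facts h8
  obtain ⟨hC, -, h3, h1⟩ := U.nine_facts h8
  obtain ⟨-, -, -, e4⟩ := q8_fpf (X.f g) hg.1.2.2
    (fun e => g1 (U.Qa_inj h8 hg (one_mem _) (by rw [e, X.f_one])))
    (fun e => gt (U.Qa_inj h8 hg (U.tq_mem_Qa h8) (by rw [e, htf]))) _ h3 h1
  intro e
  refine e4 ?_
  have hg' := U.nine_conj h8 hg
  have := congrArg X.f e
  rwa [X.f_mul hg.1.1 hg'.1.1, X.f_mul hg'.1.1 hg.1.1,
    X.f_mul (mul_mem hC hg.1.1) (inv_mem hC), X.f_mul hC hg.1.1, X.f_inv hC] at this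

end Coord

end CfsgLib.PSpFourThree
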