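import Cfsg.Agent.Lib.PSpFourThree.Eight.Types
import Cfsg.Agent.Lib.PSpFourThree.Eight.Quaternion
import Cfsg.Agent.Lib.PSpFourThree.Eight.Core

/-!
The last kind: planes of `J` fixed by an involution and the centralizers of their elements.
-/

set_option autoImplicit false
set_option maxRecDepth 20000
set_option linter.style.haveILetI false
set_option linter.unusedSectionVars false

namespace CfsgLib.PSpFourThree

open CfsgLib.SymNineThree CfsgLib.SymNineThree.Mon

attribute [local instance 2000] List.decidableBAll List.decidableBEx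

theorem three_orbit : ((List.range 27).all fun v => !Nat.beq (wtV v) 3 ||
    [0, 3, 18, 21, 108, 111, 126, 129].any fun m =>
      Nat.blt m 1296 && Nat.beq (mulM (mulM m (trC 13)) (invM m)) (trC v)) = true := by decide +kernel

universe u

variable {G : Type u} [Group G] [Finite G] {X : Ctx G}

theorem orderOf_dvd_of_comm_map {H : Subgroup G} {x : G} (hx : x ∈ H) {n : ℕ} (hn : Nat.card H ∣ n) :
    orderOf x ∣ n := (Subgroup.orderOf_dvd_natCard H hx).trans hn

namespace Coord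

variable (U : Coord X)

/-- The part of `J` centralizing an element of the normalizer. -/
noncomputable def JC (m : ℕ) : Subgroup G := X.J ⊓ Subgroup.centralizer ({U.f (of m)} : Set G)

theorem mem_JC (h8 : U.k = 3) {m : ℕ} (hm : m < 1296) {v : ℕ} (hv : v < 27) :
    U.ι v ∈ U.JC m ↔ Nat.beq (mulM (trC v) m) (mulM m (trC v)) = true := by
  rw [Nat.beq_eq]
  refine ⟨fun h => ?_, fun h => ⟨U.ι_mem hv, mem_centralizer_iff'.mpr
    ((U.f_comm (tr_mem hv) (U.top8 h8 _)).mpr (comm_iff.mpr (by rw [code_of hm, code_tr hv]; exact h)))⟩⟩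
  have h' := comm_iff.mp ((U.f_comm (tr_mem hv) (U.top8 h8 _)).mp (mem_centralizer_iff'.mp h.2))
  rwa [code_of hm, code_tr hv] at h'

theorem exists_JC (h8 : U.k = 3) {m : ℕ} (hm : m < 1296) {g : G} (hg : g ∈ U.JC m) :
    ∃ v < 27, g = U.ι v ∧ Nat.beq (mulM (trC v) m) (mulM m (trC v)) = true := by
  obtain ⟨v, hv, rfl⟩ := U.exists_ι hg.1
  exact ⟨v, hv, rfl, (U.mem_JC h8 hm hv).mp hg⟩

theorem card_JC (h8 : U.k = 3) {m : ℕ} (hm : m < 1296) {n : ℕ}
    (hn : Fintype.card {v : Fin 27 // Nat.beq (mulM (trC v) m) (mulM m (trC v)) = true} = n) :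
    Nat.card (U.JC m) = n := by
  rw [← hn, ← Nat.card_eq_fintype_card]
  refine (Nat.card_congr (Equiv.ofBijective
    (fun v : {v : Fin 27 // Nat.beq (mulM (trC v) m) (mulM m (trC v)) = true} =>
      (⟨U.ι (v.1 : ℕ), (U.mem_JC h8 hm v.1.isLt).mpr v.2⟩ : U.JC m)) ⟨fun v w h => ?_, fun g => ?_⟩)).symm
  · exact Subtype.ext (Fin.ext (U.ι_inj v.1.isLt w.1.isLt (congrArg Subtype.val h)))
  · obtain ⟨v, hv, e, hb⟩ := U.exists_JC h8 hm g.2
    exact ⟨⟨⟨v, hv⟩, hb⟩, Subtype.ext e.symm⟩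

theorem JC_comm (m : ℕ) : ∀ a ∈ U.JC m, ∀ b ∈ U.JC m, a * b = b * a :=
  fun a ha b hb => X.comm a ha.1 b hb.1

theorem JC_exp (m : ℕ) : ∀ a ∈ U.JC m, a ^ 3 = 1 := fun _ ha => X.cube _ ha.1

include U in
theorem orderOf_dvd_N (h8 : U.k = 3) {g : G} (hg : g ∈ Subgroup.normalizer (X.J : Set G)) :
    orderOf g ∣ 1296 := by
  obtain ⟨x, hx, rfl⟩ := U.exists_f hg
  refine orderOf_dvd_of_pow_eq_one ?_
  have hc : Fintype.card Mon = 1296 := by
    rw [Fintype.card_congr ⟨Mon.c, Mon.mk, fun _ => rfl, fun _ => rfl⟩, Fintype.card_fin]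
  rw [← U.f_pow hx, ← hc, pow_card_eq_one, U.f_one]

/-- Centralizers of vectors of weight at least two have no elements of order five or seven. -/
theorem orderOf_cent (h8 : U.k = 3) {v : ℕ} (hv : v < 27) (hw : wtV v = 2 ∨ wtV v = 3) {g : G}
    (hg : g * U.ι v = U.ι v * g) : orderOf g ≠ 5 ∧ orderOf g ≠ 7 := by
  rcases hw with hw | hw
  · have := U.orderOf_dvd_N h8 (U.cent_wt_two h8 hv hw g hg)
    constructor <;> intro e <;> rw [e] at this <;> norm_num at this
  · have h := List.all_eq_true.mp three_orbit v (List.mem_range.mpr hv)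
    simp only [hw, Nat.beq_refl, Bool.not_true, Bool.false_or, List.any_eq_true, Bool.and_eq_true] at h
    obtain ⟨m, -, hm, he⟩ := h
    have hlt : m < 1296 := Nat.le_of_ble_eq_true hm
    set k := U.f (of m) with hk
    have e : k * X.a * k⁻¹ = U.ι v := by
      rw [← U.ι_thirteen]; exact U.conj_ι h8 hlt (by norm_num) hv he
    have hmem : k⁻¹ * g * k ∈ X.C := mem_centralizer_iff'.mpr (by
      calc k⁻¹ * g * k * X.a = k⁻¹ * (g * (k * X.a * k⁻¹)) * k := by group
        _ = k⁻¹ * ((k * X.a * k⁻¹) * g) * k := by rw [e, hg]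
        _ = _ := by group)
    have := orderOf_dvd_of_comm_map hmem (n := 648) (by rw [X.card_C])
    rw [show k⁻¹ * g * k = MulAut.conj k⁻¹ g by simp, MulEquiv.orderOf_eq] at this
    constructor <;> intro e5 <;> rw [e5] at this <;> norm_num at this

include U in
/-- An invariant subgroup of order prime to three meets the normalizer in the centralizer. -/
theorem comm_of_invariant {K W : Subgroup G} (hW : W ≤ X.J) (hK : (Nat.card K).Coprime 3)
    (hWK : W ≤ Subgroup.normalizer (K : Set G)) {x : G} (hx : x ∈ K)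
    (hxN : x ∈ Subgroup.normalizer (X.J : Set G)) {w : G} (hw : w ∈ W) : x * w = w * x := by
  have h1 : x * w * x⁻¹ * w⁻¹ ∈ X.J :=
    mul_mem ((Subgroup.mem_normalizer_iff.mp hxN w).mp (hW hw)) (inv_mem (hW hw))
  have h2 : x * w * x⁻¹ * w⁻¹ ∈ K := by
    rw [show x * w * x⁻¹ * w⁻¹ = x * (w * x⁻¹ * w⁻¹) by group]
    exact mul_mem hx ((Subgroup.mem_normalizer_iff.mp (hWK hw) _).mp (inv_mem hx))
  have h3 : x * w * x⁻¹ * w⁻¹ = 1 := orderOf_eq_one_iff.mp (Nat.eq_one_of_dvd_coprimes hK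
    (Subgroup.orderOf_dvd_natCard K h2) (orderOf_dvd_of_pow_eq_one (X.cube _ h1)))
  exact mul_inv_eq_iff_eq_mul.mp (mul_inv_eq_one.mp h3)

end Coord

namespace Emb

variable {U : Coord X} {v : ℕ} (L : Emb U v)

theorem pow_eq_one_of_coprime {i : ℕ} {σ : P6} (h : (orderOf (U.ι v ^ i * L.ρ σ)).Coprime 3) :
    U.ι v ^ i = 1 := by
  set n := orderOf (U.ι v ^ i * L.ρ σ) with hn
  have hpow := pow_orderOf_eq_one (U.ι v ^ i * L.ρ σ)
  rw [← hn, ((show Commute (U.ι v ^ i) (L.ρ σ) from (L.comm_pow σ i).symm)).mul_pow, ← pow_mul,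
    ← map_pow] at hpow
  have h1 := (L.eq_one hpow).1
  rw [pow_mul] at h1
  exact orderOf_eq_one_iff.mp (Nat.eq_one_of_dvd_coprimes h (orderOf_dvd_of_pow_eq_one h1)
    (orderOf_dvd_of_pow_eq_one (by rw [← pow_mul, mul_comm, pow_mul, X.cube _ L.e_mem, one_pow])))

end Emb

end CfsgLib.PSpFourThree
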