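import Cfsg.Agent.Lib.PSpFourThree.Eight.CentSmall
import Cfsg.Agent.Lib.SymNineThree.SixCoords
import Cfsg.Agent.Lib.Gaschutz.Split

/-!
The last kind: when the centralizer of a vector of weight one is not in the normalizer of `J`, it is
a direct product with a symmetric group of degree six.
-/

set_option autoImplicit false
set_option maxRecDepth 20000
set_option linter.style.haveILetI false
set_option linter.unusedSectionVars false

namespace CfsgLib.PSpFourThree

open CfsgLib.SymNineThree CfsgLib.SymNineThree.Mon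
open CfsgLib.SymNineThree.Six (sA sB sU sV sW sT)

attribute [local instance 2000] List.decidableBAll List.decidableBEx

universe u

variable {G : Type u} [Group G] [Finite G] {X : Ctx G}

/-- A symmetric group of degree six complementing `⟨ι v⟩` in its centralizer. -/
structure Emb (U : Coord X) (v : ℕ) where
  lt : v < 27
  ne : v ≠ 0
  ρ : P6 →* G
  inj : Function.Injective ρ
  comm : ∀ σ, ρ σ * U.ι v = U.ι v * ρ σ
  surj : ∀ g : G, g * U.ι v = U.ι v * g → ∃ (i : ℕ) (σ : P6), g = U.ι v ^ i * ρ σ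
  disj : ∀ σ, ρ σ ∈ Subgroup.zpowers (U.ι v) → σ = 1

namespace Emb

variable {U : Coord X} {v : ℕ} (L : Emb U v)

include L in
theorem e_mem : U.ι v ∈ X.J := U.ι_mem L.lt

include L in
theorem e_ne : U.ι v ≠ 1 := fun h =>
  L.ne (U.ι_inj L.lt (by norm_num) (h.trans U.ι_zero.symm))

include L in
theorem orderOf_e : orderOf (U.ι v) = 3 :=
  orderOf_eq_prime (X.cube _ (U.ι_mem L.lt)) L.e_ne

theorem comm_pow (σ : P6) (i : ℕ) : L.ρ σ * U.ι v ^ i = U.ι v ^ i * L.ρ σ :=
  ((show Commute (L.ρ σ) (U.ι v) from L.comm σ).pow_right i).eq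

theorem mul_eq (i j : ℕ) (σ τ : P6) :
    U.ι v ^ i * L.ρ σ * (U.ι v ^ j * L.ρ τ) = U.ι v ^ (i + j) * L.ρ (σ * τ) := by
  rw [mul_assoc (U.ι v ^ i), ← mul_assoc (L.ρ σ), L.comm_pow σ j, map_mul, pow_add]
  simp [mul_assoc]

/-- The components are unique. -/
theorem eq_one {i : ℕ} {σ : P6} (h : U.ι v ^ i * L.ρ σ = 1) : U.ι v ^ i = 1 ∧ σ = 1 := by
  have hs : σ = 1 := L.disj σ (by
    rw [eq_inv_of_mul_eq_one_right h]
    exact inv_mem (pow_mem (Subgroup.mem_zpowers _) i))
  subst hs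
  rw [map_one, mul_one] at h
  exact ⟨h, rfl⟩

/-- Involutions of the centralizer lie in the complement. -/
theorem of_invol {s : G} (hs : s * U.ι v = U.ι v * s) (h2 : s * s = 1) :
    ∃ σ : P6, L.ρ σ = s ∧ σ * σ = 1 := by
  obtain ⟨i, σ, rfl⟩ := L.surj s hs
  rw [L.mul_eq] at h2
  obtain ⟨h3, h4⟩ := L.eq_one h2
  refine ⟨σ, ?_, h4⟩
  have h5 : U.ι v ^ (i + i) * U.ι v ^ (i + i) = 1 := by rw [h3, one_mul]
  rw [← pow_add, show i + i + (i + i) = 3 * i + i by omega, pow_add, pow_mul,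
    X.cube _ (U.ι_mem L.lt), one_pow, one_mul] at h5
  rw [h5, one_mul]

/-- An element inverted by an involution of the centralizer lies in the complement. -/
theorem of_inverted {g s : G} (hg : g * U.ι v = U.ι v * g) (hs : s * U.ι v = U.ι v * s) (h2 : s * s = 1)
    (hinv : s * g * s⁻¹ = g⁻¹) : ∃ σ : P6, L.ρ σ = g := by
  obtain ⟨τ, rfl, hτ⟩ := L.of_invol hs h2
  obtain ⟨i, σ, rfl⟩ := L.surj g hg
  have e : L.ρ τ * (U.ι v ^ i * L.ρ σ) * (L.ρ τ)⁻¹ = U.ι v ^ i * L.ρ (τ * σ * τ⁻¹) := by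
    rw [map_mul, map_mul, map_inv, ← mul_assoc, L.comm_pow τ i]; group
  rw [e] at hinv
  have h1 : U.ι v ^ i * L.ρ (τ * σ * τ⁻¹) * (U.ι v ^ i * L.ρ σ) = 1 := by rw [hinv, inv_mul_cancel]
  rw [L.mul_eq] at h1
  obtain ⟨h3, -⟩ := L.eq_one h1
  have h5 : U.ι v ^ (i + i) * U.ι v ^ (i + i) = 1 := by rw [h3, one_mul]
  rw [← pow_add, show i + i + (i + i) = 3 * i + i by omega, pow_add, pow_mul,
    X.cube _ (U.ι_mem L.lt), one_pow, one_mul] at h5
  exact ⟨σ, by rw [h5, one_mul]⟩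

/-- Transport by conjugation. -/
def map {n : G} {w : ℕ} (hw : w < 27) (e : n * U.ι v * n⁻¹ = U.ι w) : Emb U w where
  lt := hw
  ne := fun h0 => L.e_ne (by rw [h0, U.ι_zero] at e; exact conj_eq_one_iff.mp e)
  ρ := (MulAut.conj n).toMonoidHom.comp L.ρ
  inj := (MulAut.conj n).injective.comp L.inj
  comm σ := by
    show n * L.ρ σ * n⁻¹ * U.ι w = U.ι w * (n * L.ρ σ * n⁻¹)
    rw [← e, conj_mul, conj_mul, L.comm]
  surj g hg := by
    obtain ⟨i, σ, hi⟩ := L.surj (n⁻¹ * g * n) (by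
      calc n⁻¹ * g * n * U.ι v = n⁻¹ * (g * (n * U.ι v * n⁻¹)) * n := by group
        _ = n⁻¹ * ((n * U.ι v * n⁻¹) * g) * n := by rw [e, hg]
        _ = _ := by group)
    refine ⟨i, σ, ?_⟩
    show g = U.ι w ^ i * (n * L.ρ σ * n⁻¹)
    rw [← e, conj_pow]
    calc g = n * (n⁻¹ * g * n) * n⁻¹ := by group
      _ = _ := by rw [hi]; group
  disj σ hσ := by
    refine L.disj σ ?_
    obtain ⟨i, hi⟩ := Subgroup.mem_zpowers_iff.mp hσ
    refine Subgroup.mem_zpowers_iff.mpr ⟨i, ?_⟩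
    have hi' : U.ι w ^ i = n * L.ρ σ * n⁻¹ := hi
    rw [← e, conj_zpow] at hi'
    exact mul_left_cancel (mul_right_cancel hi')

/-- Composition with an automorphism. -/
def twist (α : MulAut P6) : Emb U v where
  lt := L.lt
  ne := L.ne
  ρ := L.ρ.comp α.symm.toMonoidHom
  inj := L.inj.comp α.symm.injective
  comm σ := L.comm _
  surj g hg := by
    obtain ⟨i, σ, rfl⟩ := L.surj g hg
    exact ⟨i, α σ, by simp⟩
  disj σ hσ := by
    have := congrArg α (L.disj _ hσ)
    simpa using this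

end Emb



theorem swap_words : ∀ k : Fin 5, ∃ i j : Fin 3, ∃ b : Fin 3,
    sA ^ (i : ℕ) * sB ^ (j : ℕ) * ![sU, sV, sT] b * (sA ^ (i : ℕ) * sB ^ (j : ℕ))⁻¹ =
      Equiv.swap k.castSucc k.succ := by decide +kernel

theorem third_swap : ∀ i j : Fin 6, i ≠ j → Equiv.swap i j * sU = sU * Equiv.swap i j →
    Equiv.swap i j * sV = sV * Equiv.swap i j →
    Equiv.swap i j = sU ∨ Equiv.swap i j = sV ∨ Equiv.swap i j = sT := by decide +kernel

theorem five_ne : sT ≠ sU ∧ sT ≠ sV ∧ sT * sU = sU * sT ∧ sT * sV = sV * sT := by decide +kernel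

/-- An endomorphism fixing the five coordinates is the identity. -/
theorem p6_rigid (θ : P6 →* P6) (hθ : Function.Injective θ) (hA : θ sA = sA) (hB : θ sB = sB)
    (hU : θ sU = sU) (hV : θ sV = sV) : θ = MonoidHom.id P6 := by
  have hT : θ sT = sT := by
    obtain ⟨g, hg⟩ := isConj_iff.mp (show IsConj sU sT from Equiv.Perm.isConj_iff_cycleType_eq.mpr (by
      rw [Equiv.Perm.isSwap_iff_cycleType.mp (show sU.IsSwap from ⟨1, 2, by decide, rfl⟩),
        Equiv.Perm.isSwap_iff_cycleType.mp (show sT.IsSwap from ⟨0, 3, by decide, rfl⟩)]))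
    have hc : IsConj sU (θ sT) := isConj_iff.mpr ⟨θ g, by
      nth_rewrite 1 [← hU]
      rw [← map_inv, ← map_mul, ← map_mul, hg]⟩
    have hs : (θ sT).IsSwap := by
      rw [Equiv.Perm.isSwap_iff_cycleType, ← Equiv.Perm.isConj_iff_cycleType_eq.mp hc]
      exact Equiv.Perm.isSwap_iff_cycleType.mp ⟨1, 2, by decide, rfl⟩
    obtain ⟨i, j, hij, e⟩ := hs
    obtain ⟨h1, h2, h3, h4⟩ := five_ne
    rcases third_swap i j hij (by rw [← e, ← hU, ← map_mul, ← map_mul, h3])
      (by rw [← e, ← hV, ← map_mul, ← map_mul, h4]) with e' | e' | e'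
    · exact absurd (hθ (e.trans (e'.trans hU.symm))) h1
    · exact absurd (hθ (e.trans (e'.trans hV.symm))) h2
    · exact e.trans e'
  have hX : ∀ b : Fin 3, θ (![sU, sV, sT] b) = ![sU, sV, sT] b := by
    intro b; fin_cases b <;> simp [hU, hV, hT]
  have hsw : ∀ k : Fin 5, θ (Equiv.swap k.castSucc k.succ) = Equiv.swap k.castSucc k.succ := by
    intro k
    obtain ⟨i, j, b, e⟩ := swap_words k
    rw [← e, map_mul, map_mul, map_inv, map_mul, map_pow, map_pow, hA, hB, hX]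
  refine MonoidHom.eq_of_eqOn_denseM
    (s := Set.range fun k : Fin 5 => (Equiv.swap k.castSucc k.succ : P6))
    (Equiv.Perm.mclosure_swap_castSucc_succ 5) ?_
  rintro _ ⟨k, rfl⟩
  exact hsw k

namespace Emb

variable {U : Coord X} {v : ℕ}

/-- The complement is generated by the involutions of the centralizer. -/
theorem range_le (L M : Emb U v) : M.ρ.range ≤ L.ρ.range := by
  rintro _ ⟨σ, rfl⟩
  have h : σ ∈ L.ρ.range.comap M.ρ := by
    induction σ using Equiv.Perm.swap_induction_on with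
    | one => exact one_mem _
    | swap_mul f x y hxy ih =>
      refine mul_mem ?_ ih
      obtain ⟨τ, hτ, -⟩ := L.of_invol (M.comm (Equiv.swap x y))
        (by rw [← map_mul, Equiv.swap_mul_self, map_one])
      exact ⟨τ, hτ⟩
  exact h

/-- Complements with the same five coordinates coincide. -/
theorem unique (L M : Emb U v) (hA : M.ρ sA = L.ρ sA) (hB : M.ρ sB = L.ρ sB) (hU : M.ρ sU = L.ρ sU)
    (hV : M.ρ sV = L.ρ sV) : M.ρ = L.ρ := by
  have hsub := range_le L M
  let e := MonoidHom.ofInjective L.inj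
  let θ : P6 →* P6 := e.symm.toMonoidHom.comp (M.ρ.codRestrict L.ρ.range fun σ => hsub ⟨σ, rfl⟩)
  have hθ : ∀ σ, L.ρ (θ σ) = M.ρ σ := fun σ => by
    have := congrArg Subtype.val (e.apply_symm_apply ⟨M.ρ σ, hsub ⟨σ, rfl⟩⟩)
    exact this
  have hid := p6_rigid θ (fun p q h => M.inj (by rw [← hθ, ← hθ, h]))
    (L.inj (by rw [hθ, hA])) (L.inj (by rw [hθ, hB])) (L.inj (by rw [hθ, hU])) (L.inj (by rw [hθ, hV]))
  refine MonoidHom.ext fun σ => ?_
  rw [← hθ σ, hid]; rfl

end Emb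

theorem plane_add : ∀ p q : Fin 27, (p : ℕ) % 3 = 0 → (q : ℕ) % 3 = 0 →
    addV p q < 27 ∧ addV p q % 3 = 0 := by decide +kernel

theorem plane_neg : ∀ p : Fin 27, (p : ℕ) % 3 = 0 →
    ∃ q : Fin 27, (q : ℕ) % 3 = 0 ∧ addV p q = 0 := by decide +kernel

theorem plane_decomp : ∀ u : Fin 27, addV ((u : ℕ) % 3) ((u : ℕ) - (u : ℕ) % 3) = u := by decide +kernel

namespace Coord

variable (U : Coord X)

include U in
/-- The dichotomy for the centralizer of a vector of weight one. -/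
theorem small_or_emb (h8 : U.k = 3) : U.CN 1 ∨ Nonempty (Emb U 1) := by
  classical
  haveI : Fact (Nat.Prime 3) := ⟨Nat.prime_three⟩
  set e := U.ι 1 with he
  have heJ : e ∈ X.J := U.ι_mem (by norm_num)
  have he1 : e ≠ 1 := fun h => absurd (U.ι_inj (by norm_num) (by norm_num) (h.trans U.ι_zero.symm))
    (by norm_num)
  set H := Subgroup.centralizer ({e} : Set G) with hH
  have hJH : X.J ≤ H := X.J_le_cent heJ
  set K : Subgroup H := (Subgroup.zpowers e).subgroupOf H with hK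
  rcases U.cent_one h8 with h | ⟨π, hπ, hker⟩
  · exact Or.inl h
  right
  change π.ker = K at hker
  have hKn : K.Normal := hker ▸ π.normal_ker
  haveI : IsMulCommutative K := ⟨⟨fun p q => Subtype.ext (Subtype.ext (by
    obtain ⟨i, hi⟩ := Subgroup.mem_zpowers_iff.mp p.2
    obtain ⟨j, hj⟩ := Subgroup.mem_zpowers_iff.mp q.2
    show ((p : H) : G) * (q : H) = (q : H) * (p : H)
    have hi' : e ^ i = ((p : H) : G) := hi
    have hj' : e ^ j = ((q : H) : G) := hj
    rw [← hi', ← hj', ← zpow_add, ← zpow_add, add_comm]))⟩⟩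
  have hcK : Nat.card K = 3 := by
    rw [hK, Nat.card_congr (Subgroup.subgroupOfEquivOfLe
      (Subgroup.zpowers_le.mpr (hJH heJ))).toEquiv, Nat.card_zpowers]
    exact orderOf_eq_prime (X.cube e heJ) he1
  have hcH : Nat.card H = 2160 := by
    have h := π.ker.card_mul_index
    rw [Subgroup.index_ker, MonoidHom.range_eq_top.mpr hπ, Subgroup.card_top, hker, hcK,
      Nat.card_perm, Nat.card_fin] at h
    rw [← h]; rfl
  let A0 : Subgroup G :=
    { carrier := {g | ∃ u : Fin 27, (u : ℕ) % 3 = 0 ∧ g = U.ι u}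
      one_mem' := ⟨0, rfl, U.ι_zero.symm⟩
      mul_mem' := by
        rintro _ _ ⟨p, hp, rfl⟩ ⟨q, hq, rfl⟩
        obtain ⟨h1, h2⟩ := plane_add p q hp hq
        exact ⟨⟨addV p q, h1⟩, h2, (U.ι_add p.isLt q.isLt).symm⟩
      inv_mem' := by
        rintro _ ⟨p, hp, rfl⟩
        obtain ⟨q, hq, h2⟩ := plane_neg p hp
        exact ⟨q, hq, inv_eq_of_mul_eq_one_right (by rw [← U.ι_add p.isLt q.isLt, h2, U.ι_zero])⟩ }
  set U' : Subgroup H := X.J.subgroupOf H with hU'
  have hA0 : A0 ≤ X.J := by rintro _ ⟨p, -, rfl⟩; exact U.ι_mem p.isLt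
  have hpw : ∀ i : Fin 3, U.ι (i : ℕ) = e ^ (i : ℕ) := by
    have h2 : U.ι 2 = e * e := by rw [he, ← U.ι_add (by norm_num) (by norm_num)]; rfl
    intro i; fin_cases i <;> simp [U.ι_zero, ← he, h2, pow_two]
  have hidx : U'.index = 80 := by
    have h := U'.card_mul_index
    rw [hU'] at h ⊢
    rw [Nat.card_congr (Subgroup.subgroupOfEquivOfLe hJH).toEquiv, X.card_J, hcH] at h
    omega
  obtain ⟨H', hH'⟩ := CfsgLib.Gaschutz.exists_complement (K := K) (U := U') (A := A0.subgroupOf H)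
    (fun z hz => Subgroup.zpowers_le.mpr heJ hz) (by rw [hcK, hidx]; norm_num)
    (eq_bot_iff.mpr fun z hz => by
      obtain ⟨⟨u, hu, e1⟩, hz2⟩ := hz
      obtain ⟨n, hn⟩ := Subgroup.mem_zpowers_iff.mp (show (z : G) ∈ Subgroup.zpowers e from hz2)
      have hn' : e ^ ((n % 3).toNat) = (z : G) := by
        rw [← hn, ← zpow_natCast, Int.toNat_of_nonneg (Int.emod_nonneg n (by norm_num))]
        conv_rhs => rw [← Int.emod_add_mul_ediv n 3]
        rw [zpow_add, zpow_mul, show e ^ (3 : ℤ) = 1 by exact_mod_cast X.cube e heJ, one_zpow, mul_one]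
      have hlt : (n % 3).toNat < 3 := by omega
      have h2 := hpw ⟨_, hlt⟩
      rw [hn'] at h2
      have h3 := U.ι_inj (show (n % 3).toNat < 27 by omega) u.isLt (h2.trans e1)
      have h4 : (n % 3).toNat = 0 := by omega
      rw [Subgroup.mem_bot]
      exact Subtype.ext (by rw [← hn', h4, pow_zero]; rfl))
    (le_antisymm (sup_le (fun z hz => Subgroup.zpowers_le.mpr heJ hz) fun z hz => hA0 hz)
      fun z hz => by
        obtain ⟨u, hu, e1⟩ := U.exists_ι (show (z : G) ∈ X.J from hz)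
        have hd := plane_decomp ⟨u, hu⟩
        have hzz : z = ⟨e ^ (u % 3), pow_mem (hJH heJ) _⟩ *
            ⟨U.ι (u - u % 3), hJH (U.ι_mem (by omega))⟩ := Subtype.ext (by
          show (z : G) = e ^ (u % 3) * U.ι (u - u % 3)
          have h2 : U.ι (u % 3) = e ^ (u % 3) := hpw ⟨u % 3, by omega⟩
          rw [e1, ← h2, ← U.ι_add (by omega) (by omega), hd])
        rw [hzz]
        exact mul_mem (Subgroup.mem_sup_left (pow_mem (Subgroup.mem_zpowers e) _))
          (Subgroup.mem_sup_right ⟨⟨u - u % 3, by omega⟩, by show (u - u % 3) % 3 = 0; omega, rfl⟩))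
  let F : H' →* P6 := π.comp H'.subtype
  have hF : Function.Bijective F := by
    have hinj : Function.Injective F := (injective_iff_map_eq_one F).mpr fun x hx => by
      have h1 : (x : H) ∈ π.ker := hx
      rw [hker] at h1
      exact Subtype.ext (Subgroup.disjoint_def.mp hH'.disjoint h1 x.2)
    refine (Nat.bijective_iff_injective_and_card F).mpr ⟨hinj, ?_⟩
    have h := hH'.card_mul_card
    rw [hcK, hcH] at h
    rw [Nat.card_perm, Nat.card_fin]
    show _ = 720
    omega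
  let Fe := MulEquiv.ofBijective F hF
  refine ⟨⟨by norm_num, by norm_num, H.subtype.comp (H'.subtype.comp Fe.symm.toMonoidHom),
    H.subtype_injective.comp (H'.subtype_injective.comp Fe.symm.injective),
    fun σ => mem_centralizer_iff'.mp (SetLike.coe_mem _), fun g hg => ?_, fun σ hσ => ?_⟩⟩
  · have hgH : g ∈ H := mem_centralizer_iff'.mpr hg
    set σ := π ⟨g, hgH⟩
    have h1 : π (((Fe.symm σ : H') : H)) = σ := Fe.apply_symm_apply σ
    have h2 : (⟨g, hgH⟩ : H) * ((Fe.symm σ : H') : H)⁻¹ ∈ π.ker := by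
      rw [MonoidHom.mem_ker, map_mul, map_inv, h1, mul_inv_cancel]
    rw [hker] at h2
    have h3 : g * (((Fe.symm σ : H') : H) : G)⁻¹ ∈ Subgroup.zpowers e := h2
    rw [← mem_powers_iff_mem_zpowers, Submonoid.mem_powers_iff] at h3
    obtain ⟨i, hi⟩ := h3
    refine ⟨i, σ, ?_⟩
    show g = e ^ i * (((Fe.symm σ : H') : H) : G)
    rw [hi, inv_mul_cancel_right]
  · have h1 : ((Fe.symm σ : H') : H) ∈ K := hσ
    have h2 : ((Fe.symm σ : H') : H) = 1 := Subgroup.disjoint_def.mp hH'.disjoint h1 (Fe.symm σ).2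
    have h3 : Fe.symm σ = 1 := Subtype.ext h2
    simpa using congrArg Fe h3

end Coord

end CfsgLib.PSpFourThree
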