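import Cfsg.Agent.Lib.PSpFourThree.Eight.SmallSylow
import Cfsg.Agent.Lib.NineTI.DihedralSix

/-!
The small case: the two-part of the centralizer of a reflection.
-/

set_option autoImplicit false
set_option maxRecDepth 20000
set_option linter.style.haveILetI false
set_option linter.unusedSectionVars false

namespace CfsgLib.PSpFourThree

open CfsgLib.SymNineThree CfsgLib.SymNineThree.Mon

attribute [local instance 2000] List.decidableBAll List.decidableBEx

/-- The dihedral group on the first two coordinates. -/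
def dihLow : DihedralGroup 4 → Mon
  | .r i => (of 432 * of 3) ^ i.val
  | .sr i => of 3 * (of 432 * of 3) ^ i.val

theorem dihLow_mul : ∀ s t, dihLow (s * t) = dihLow s * dihLow t := by decide +kernel

theorem dihLow_comm : ∀ t, dihLow t * of 108 = of 108 * dihLow t := by decide +kernel

theorem dihLow_ker : ∀ t, ((dihLow t).c : ℕ) = 0 ∨ ((dihLow t).c : ℕ) = 108 → t = 1 := by decide +kernel

theorem dihLow_pow : ∀ t : DihedralGroup 4, t ^ 8 = 1 := by decide +kernel

theorem dihLow_move : ∀ v : Fin 27, (v : ℕ) < 9 → wtV v = 1 → ∃ t : DihedralGroup 4,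
    Nat.beq (mulM (mulM (dihLow t).c (trC v)) (invM (dihLow t).c)) (trC 1) = true := by decide +kernel

theorem dihLow_list : ∀ p : ℕ, p ∈ [0, 3, 18, 21, 432, 435, 450, 453] →
    ∃ t, ((dihLow t).c : ℕ) = p := by decide +kernel

theorem flip_stab : ((List.range 1296).all fun x => !Nat.beq (mulM x 108) (mulM 108 x) ||
      [0, 3, 18, 21, 432, 435, 450, 453].any fun p =>
        inT (mulM x (invM p)) || inT (mulM x (invM (mulM p 108)))) = true ∧
    ((List.range 1296).all fun x => !Nat.beq (mulM x 108) (mulM 108 x) ||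
      !Nat.beq (mulM x (trC 1)) (mulM (trC 1) x) || !Nat.beq (mulM x (trC 3)) (mulM (trC 3) x) ||
      inT x || inT (mulM x (invM 108))) = true ∧
    ((List.range 27).all fun v => !Nat.beq (mulM (trC v) 108) (mulM 108 (trC v)) ||
      (Nat.blt v 9 && (Nat.beq v 0 || Nat.beq (wtV v) 1 || Nat.beq (wtV v) 2))) = true ∧
    Fintype.card {v : Fin 27 // Nat.beq (mulM (trC v) 108) (mulM 108 (trC v)) = true} = 9 := by
  refine ⟨?_, ?_, ?_, ?_⟩ <;> decide +kernel

universe u

variable {G : Type u} [Group G] [Finite G] {X : Ctx G}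

namespace Small

variable {U : Coord X} (S : Small U)

include S

theorem one_mem_W : U.ι 1 ∈ U.JC 108 :=
  (U.mem_JC S.h8 (by norm_num) (by norm_num)).mpr (by decide +kernel)

/-- The normalizer of the plane in the centralizer of the reflection. -/
theorem norm_W {g : G} (_hg : g * U.nF = U.nF * g) (h1 : g * U.ι 1 * g⁻¹ ∈ U.JC 108) :
    g ∈ Subgroup.normalizer (X.J : Set G) := by
  obtain ⟨v, hv, e, hb⟩ := U.exists_JC S.h8 (by norm_num) h1
  have hw : wtV v = 1 := by
    rw [← U.wt_fusion (by norm_num) hv e]; decide +kernel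
  have hv9 : v < 9 := by
    have h := List.all_eq_true.mp flip_stab.2.2.1 v (List.mem_range.mpr hv)
    simp only [hb, Bool.not_true, Bool.false_or, Bool.and_eq_true, Nat.blt_eq] at h
    exact h.1
  obtain ⟨t, ht⟩ := dihLow_move ⟨v, hv⟩ hv9 hw
  set d := U.f (of ((dihLow t).c : ℕ))
  have hdN : d ∈ Subgroup.normalizer (X.J : Set G) := U.f_mem_N (U.top8 S.h8 _)
  have hd : d * U.ι v * d⁻¹ = U.ι 1 := U.conj_ι S.h8 (Fin.isLt _) hv (by norm_num) ht
  have h := S.cn (d * g) (mul_inv_eq_iff_eq_mul.mp (by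
    rw [mul_inv_rev, show d * g * U.ι 1 * (g⁻¹ * d⁻¹) = d * (g * U.ι 1 * g⁻¹) * d⁻¹ by group, e, hd]))
  have := mul_mem (inv_mem hdN) h
  rwa [inv_mul_cancel_left] at this

/-- The centralizer of the reflection has two-part at most 32. -/
theorem n_cent : ¬ 64 ∣ Nat.card (Subgroup.centralizer ({U.nF} : Set G)) := by
  classical
  haveI : Fact (Nat.Prime 3) := ⟨Nat.prime_three⟩
  obtain ⟨hn2, -⟩ := U.flip_mul S.h8
  have hn1 := (U.flip_ne S.h8).1.1
  obtain ⟨hdec, hfix, hW, hW9⟩ := flip_stab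
  set H := Subgroup.centralizer ({U.nF} : Set G) with hH
  set W := U.JC 108 with hWdef
  have hWH : W ≤ H := inf_le_right
  set Z : Subgroup H := (Subgroup.zpowers U.nF).subgroupOf H with hZ
  have hnH : U.nF ∈ H := mem_centralizer_iff'.mpr rfl
  have hZc : Z ≤ Subgroup.center H := fun z hz => Subgroup.mem_center_iff.mpr fun y => by
    obtain ⟨i, hi⟩ := hz
    refine Subtype.ext ?_
    show (y : G) * z = z * y
    rw [show (z : G) = U.nF ^ i from hi.symm]
    exact ((show Commute (y : G) U.nF from mem_centralizer_iff'.mp y.2).zpow_right i).eq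
  haveI : Z.Normal := ⟨fun m hm k => by rw [Subgroup.mem_center_iff.mp (hZc hm) k, mul_inv_cancel_right]; exact hm⟩
  have hZmem : ∀ {z : H}, z ∈ Z → (z : G) = 1 ∨ (z : G) = U.nF := fun {z} hz => by
    obtain ⟨i, hi⟩ := Subgroup.mem_zpowers_iff.mp (show (z : G) ∈ Subgroup.zpowers U.nF from hz)
    rw [← hi]
    rcases Int.even_or_odd' i with ⟨j, rfl | rfl⟩
    · exact Or.inl (by rw [zpow_mul, show U.nF ^ (2 : ℤ) = 1 by rw [zpow_two]; exact hn2, one_zpow])
    · exact Or.inr (by
        rw [zpow_add, zpow_mul, show U.nF ^ (2 : ℤ) = 1 by rw [zpow_two]; exact hn2, one_zpow, one_mul,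
          zpow_one])
  set π := QuotientGroup.mk' Z
  have hπ : ∀ {x : H}, π x = 1 ↔ x ∈ Z := fun {x} => QuotientGroup.eq_one_iff x
  -- an element of order three in a coset of the kernel
  have key3 : ∀ {x y : H}, π x = π y → (x : G) ^ 3 = 1 → (y : G) ^ 3 = 1 → (x : G) = y := by
    intro x y e hx hy
    have hz : x⁻¹ * y ∈ Z := hπ.mp (by rw [map_mul, map_inv, e, inv_mul_cancel])
    rcases hZmem hz with h | h
    · exact inv_mul_eq_one.mp h
    · exfalso
      have h' : (x : G)⁻¹ * y = U.nF := h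
      have hc : Commute (x : G) U.nF := mem_centralizer_iff'.mp x.2
      rw [eq_comm, eq_inv_mul_iff_mul_eq] at h'
      rw [← h', hc.mul_pow, hx, one_mul, pow_succ, pow_two, hn2, one_mul] at hy
      exact hn1 hy
  set M := (W.subgroupOf H).map π with hM
  have hWcube : ∀ w : H, (w : G) ∈ W → (w : G) ^ 3 = 1 := fun w hw => U.JC_exp 108 _ hw
  have hnorm : ∀ g : H, π g ∈ Subgroup.normalizer (M : Set (H ⧸ Z)) →
      (g : G) ∈ Subgroup.normalizer (X.J : Set G) := by
    intro g hg
    refine S.norm_W (mem_centralizer_iff'.mp g.2) ?_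
    obtain ⟨w, hw, e⟩ := (Subgroup.mem_normalizer_iff.mp hg (π ⟨U.ι 1, hWH S.one_mem_W⟩)).mp
      ⟨_, S.one_mem_W, rfl⟩
    rw [← map_inv, ← map_mul, ← map_mul] at e
    have := key3 e.symm (by
      show ((g : G) * U.ι 1 * (g : G)⁻¹) ^ 3 = 1
      rw [conj_pow, X.cube _ (U.ι_mem (by norm_num)), mul_one, mul_inv_cancel]) (hWcube w hw)
    show (g : G) * U.ι 1 * (g : G)⁻¹ ∈ W
    rw [show (g : G) * U.ι 1 * (g : G)⁻¹ = w from this]
    exact hw
  have hJW : ∀ {g : H}, (g : G) ∈ X.J → π g ∈ M := fun {g} hg => ⟨g, ⟨hg, g.2⟩, rfl⟩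
  let η : DihedralGroup 4 →* H ⧸ Z := π.comp (MonoidHom.mk'
    (fun t => (⟨U.f (dihLow t), mem_centralizer_iff'.mpr
      ((U.f_comm (U.top8 S.h8 _) (U.top8 S.h8 _)).mpr (dihLow_comm t))⟩ : H))
    (fun s t => Subtype.ext (by
      show U.f (dihLow (s * t)) = U.f (dihLow s) * U.f (dihLow t)
      rw [dihLow_mul, U.f_mul (U.top8 S.h8 _) (U.top8 S.h8 _)])))
  have hdec' : ∀ q ∈ Subgroup.normalizer (M : Set (H ⧸ Z)), ∃ m ∈ M, ∃ p ∈ η.range, q = m * p := by
    intro q hq
    obtain ⟨g, rfl⟩ := QuotientGroup.mk'_surjective Z q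
    obtain ⟨x, hx, hgx⟩ := U.exists_f (hnorm g hq)
    have hxc : mulM x.c 108 = mulM 108 x.c := by
      have h := mem_centralizer_iff'.mp g.2
      rw [hgx] at h
      have h' := comm_iff.mp ((U.f_comm hx (U.top8 S.h8 _)).mp h)
      rwa [code_of (by norm_num)] at h'
    have h := all_mon hdec x
    simp only [hxc, Nat.beq_refl, Bool.not_true, Bool.false_or, List.any_eq_true, Bool.or_eq_true] at h
    obtain ⟨p, hp, hT⟩ := h
    obtain ⟨t, ht⟩ := dihLow_list p hp
    refine ⟨π g * (η t)⁻¹, ?_, η t, ⟨t, rfl⟩, by rw [inv_mul_cancel_right]⟩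
    have hpos : ∀ {y : H}, (y : G) ∈ X.J → π y = π g * (η t)⁻¹ → π g * (η t)⁻¹ ∈ M := fun hy e => e ▸ hJW hy
    set T0 : H := ⟨U.f (dihLow t), mem_centralizer_iff'.mpr
      ((U.f_comm (U.top8 S.h8 _) (U.top8 S.h8 _)).mpr (dihLow_comm t))⟩
    rcases hT with hT | hT
    · refine hpos (y := g * T0⁻¹) ?_ (by rw [map_mul, map_inv]; rfl)
      show (g : G) * (U.f (dihLow t))⁻¹ ∈ X.J
      rw [hgx, ← U.f_inv (U.top8 S.h8 _), ← U.f_mul hx (U.top8 S.h8 _), U.f_mem_J (U.top8 S.h8 _)]
      show inT (x * (dihLow t)⁻¹).c = true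
      rw [code_mul, code_inv, ht]; exact hT
    · refine hpos (y := g * (T0 * ⟨U.nF, hnH⟩)⁻¹) ?_ (by
        rw [map_mul, map_inv, map_mul, hπ.mpr (show (⟨U.nF, hnH⟩ : H) ∈ Z from Subgroup.mem_zpowers _),
          mul_one]
        rfl)
      show (g : G) * (U.f (dihLow t) * U.f (of 108))⁻¹ ∈ X.J
      rw [hgx, ← U.f_mul (U.top8 S.h8 _) (U.top8 S.h8 _), ← U.f_inv (U.top8 S.h8 _),
        ← U.f_mul hx (U.top8 S.h8 _), U.f_mem_J (U.top8 S.h8 _)]
      show inT (x * (dihLow t * of 108)⁻¹).c = true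
      rw [code_mul, code_inv, code_mul, ht, code_of (by norm_num)]; exact hT
  have hηN : η.range ≤ Subgroup.normalizer (M : Set (H ⧸ Z)) := by
    rintro _ ⟨t, rfl⟩
    refine mem_of_map_conj _ ?_
    rintro _ ⟨w, hw, rfl⟩
    show π _ * π w * (π _)⁻¹ ∈ M
    rw [← map_inv, ← map_mul, ← map_mul]
    exact hJW ((Subgroup.mem_normalizer_iff.mp (U.f_mem_N (U.top8 S.h8 (dihLow t))) _).mp hw.1)
  have hη : Function.Injective η := (injective_iff_map_eq_one η).mpr fun t ht => by
    refine dihLow_ker t ?_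
    rcases hZmem (hπ.mp ht) with e | e
    · left
      have := U.f_inj (U.top8 S.h8 _) (Kd U.k).one_mem ((show U.f (dihLow t) = 1 from e).trans U.f_one.symm)
      rw [this, code_one]
    · right
      have := U.f_inj (U.top8 S.h8 _) (U.top8 S.h8 _) (show U.f (dihLow t) = U.f (of 108) from e)
      rw [this, code_of (by norm_num)]
  have hMcard : Nat.card M = 9 := by
    rw [← U.card_JC S.h8 (m := 108) (by norm_num) hW9,
      ← Nat.card_congr (Subgroup.subgroupOfEquivOfLe hWH).toEquiv]
    symm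
    refine Nat.card_congr (Equiv.ofBijective (fun w => ⟨π w, w, w.2, rfl⟩) ⟨fun p q e => ?_, ?_⟩)
    · exact Subtype.ext (Subtype.ext (key3 (congrArg Subtype.val e) (hWcube _ p.2) (hWcube _ q.2)))
    · rintro ⟨_, w, hw, rfl⟩
      exact ⟨⟨w, hw⟩, rfl⟩
  have hMcube : ∀ p ∈ M, p ^ 3 = 1 := by
    rintro _ ⟨w, hw, rfl⟩
    rw [← map_pow, show w ^ 3 = 1 from Subtype.ext (hWcube w hw), map_one]
  have hfixW : ∀ {g w : H}, (w : G) ∈ W → π g * π w = π w * π g → (g : G) * w = w * g := by
    intro g w hw e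
    refine mul_inv_eq_iff_eq_mul.mp ?_
    have h : π (g * w * g⁻¹) = π w := by rw [map_mul, map_mul, map_inv, e, mul_inv_cancel_right]
    exact key3 h (by
      show ((g : G) * w * (g : G)⁻¹) ^ 3 = 1
      rw [conj_pow, hWcube w hw, mul_one, mul_inv_cancel]) (hWcube w hw)
  have hyp : CfsgLib.NineTI.Hyp M :=
    { card := hMcard
      comm := by
        rintro _ ⟨p, hp, rfl⟩ _ ⟨q, hq, rfl⟩
        rw [← map_mul, ← map_mul, show p * q = q * p from Subtype.ext (U.JC_comm 108 _ hp _ hq)]
      cube := hMcube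
      maximal := fun R hR hle => by
        by_contra hne
        haveI := hR.isNilpotent
        have hlt : M.subgroupOf R < ⊤ := lt_top_iff_ne_top.mpr fun e =>
          hne (le_antisymm (Subgroup.subgroupOf_eq_top.mp e) hle)
        obtain ⟨q, hqN, hqM⟩ := SetLike.exists_of_lt
          (Group.normalizerCondition_of_isNilpotent (M.subgroupOf R) hlt)
        obtain ⟨m, hm, p, ⟨t, rfl⟩, e⟩ := hdec' q (mem_of_map_conj _ fun x hx =>
          (Subgroup.mem_normalizer_iff.mp hqN ⟨x, hle hx⟩).mp hx)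
        have hpR : η t ∈ R := by
          have : η t = m⁻¹ * q := by rw [e, inv_mul_cancel_left]
          rw [this]; exact mul_mem (inv_mem (hle hm)) q.2
        obtain ⟨k, hk⟩ := hR ⟨η t, hpR⟩
        have h1 : η t = 1 := orderOf_eq_one_iff.mp (Nat.eq_one_of_dvd_coprimes
          (show (3 ^ k).Coprime 8 from Nat.Coprime.pow_left k (by norm_num))
          (orderOf_dvd_of_pow_eq_one (congrArg Subtype.val hk))
          (orderOf_dvd_of_pow_eq_one (by rw [← map_pow, dihLow_pow, map_one])))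
        refine hqM ?_
        show (q : H ⧸ Z) ∈ M
        rw [e, h1, mul_one]; exact hm
      self := by
        refine le_antisymm (fun q hq => ?_) ?_
        · obtain ⟨g, rfl⟩ := QuotientGroup.mk'_surjective Z q
          have hc : ∀ v : ℕ, v < 27 → U.ι v ∈ W → (g : G) * U.ι v = U.ι v * g := fun v _ hv =>
            hfixW (w := ⟨U.ι v, hWH hv⟩) hv
              (Subgroup.mem_centralizer_iff.mp hq _ ⟨⟨U.ι v, hWH hv⟩, hv, rfl⟩).symm
          have h3 : U.ι 3 ∈ W := (U.mem_JC S.h8 (by norm_num) (by norm_num)).mpr (by decide +kernel)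
          have e1 := hc 1 (by norm_num) S.one_mem_W
          obtain ⟨x, hx, hgx⟩ := U.exists_f (S.cn g e1)
          have hcode : ∀ {v}, v < 27 → (g : G) * U.ι v = U.ι v * g →
              mulM x.c (trC v) = mulM (trC v) x.c := fun hv h => by
            rw [hgx] at h
            have h' := comm_iff.mp ((U.f_comm hx (tr_mem hv)).mp h)
            rwa [code_tr hv] at h'
          have hxc : mulM x.c 108 = mulM 108 x.c := by
            have h := mem_centralizer_iff'.mp g.2
            rw [hgx] at h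
            have h' := comm_iff.mp ((U.f_comm hx (U.top8 S.h8 _)).mp h)
            rwa [code_of (by norm_num)] at h'
          have h := all_mon hfix x
          simp only [hxc, hcode (by norm_num) e1, hcode (by norm_num) (hc 3 (by norm_num) h3),
            Nat.beq_refl, Bool.not_true, Bool.false_or, Bool.or_eq_true] at h
          rcases h with h | h
          · exact hJW (g := g) (by rw [hgx, U.f_mem_J hx]; exact h)
          · have e : π g = π (g * (⟨U.nF, hnH⟩ : H)⁻¹) := by
              rw [map_mul, map_inv, hπ.mpr (show (⟨U.nF, hnH⟩ : H) ∈ Z from Subgroup.mem_zpowers _),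
                inv_one, mul_one]
            rw [e]
            refine hJW ?_
            show (g : G) * (U.f (of 108))⁻¹ ∈ X.J
            rw [hgx, ← U.f_inv (U.top8 S.h8 _), ← U.f_mul hx (U.top8 S.h8 _), U.f_mem_J (U.top8 S.h8 _)]
            show inT (x * (of 108)⁻¹).c = true
            rw [code_mul, code_inv, code_of (by norm_num)]; exact h
        · rintro _ ⟨p, hp, rfl⟩
          refine Subgroup.mem_centralizer_iff.mpr ?_
          rintro _ ⟨q, hq, rfl⟩
          rw [← map_mul, ← map_mul, show q * p = p * q from Subtype.ext (U.JC_comm 108 _ hq _ hp)]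
      loc := by
        rintro _ ⟨w, hw, rfl⟩ hw1 q hq
        obtain ⟨g, rfl⟩ := QuotientGroup.mk'_surjective Z q
        have e := hfixW hw (mem_centralizer_iff'.mp hq)
        obtain ⟨v, hv, hwv', hb⟩ := U.exists_JC S.h8 (by norm_num) hw
        have hwv : (w : G) = U.ι v := hwv'
        have h := List.all_eq_true.mp hW v (List.mem_range.mpr hv)
        simp only [hb, Bool.not_true, Bool.false_or, Bool.and_eq_true, Bool.or_eq_true, Nat.beq_eq] at h
        have hwt : wtV v = 1 ∨ wtV v = 2 := by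
          rcases h.2 with (h' | h') | h'
          · refine absurd ?_ hw1
            rw [show w = 1 from Subtype.ext (by rw [hwv, h', U.ι_zero]; rfl), map_one]
          · exact Or.inl h'
          · exact Or.inr h'
        rw [hwv] at e
        have hgN := S.cn_low hv hwt g e
        refine mem_of_map_conj _ ?_
        rintro _ ⟨p, hp, rfl⟩
        rw [← map_inv, ← map_mul, ← map_mul]
        exact hJW ((Subgroup.mem_normalizer_iff.mp hgN _).mp hp.1) }
  obtain ⟨ψ, hψ⟩ := CfsgLib.NineTI.exists_equiv_model hyp η.range hηN (MonoidHom.ofInjective hη) hdec'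
  have hH : Nat.card H = Nat.card (H ⧸ Z) * 2 := by
    rw [Subgroup.card_eq_card_quotient_mul_card_subgroup Z]
    congr 1
    rw [hZ, Nat.card_congr (Subgroup.subgroupOfEquivOfLe (Subgroup.zpowers_le.mpr hnH)).toEquiv,
      Nat.card_zpowers, orderOf_eq_prime (p := 2) (by rw [pow_two]; exact hn2) hn1]
  rcases CfsgLib.NineTI.normal_or_six (⟨hyp, ψ, hψ⟩ : CfsgLib.NineTI.DData M) with hn | ⟨⟨e⟩⟩
  · haveI := hn
    have htop : M ⊔ η.range = ⊤ := eq_top_iff.mpr fun q _ => by
      obtain ⟨m, hm, p, hp, rfl⟩ := hdec' q (by rw [Subgroup.normalizer_eq_top]; exact Subgroup.mem_top q)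
      exact mul_mem (Subgroup.mem_sup_left hm) (Subgroup.mem_sup_right hp)
    have h := CfsgLib.Coprime.card_sup_mul_card_inf (K := M) (S := η.range) hηN
    rw [htop, Subgroup.card_top, hMcard, ← Nat.card_congr (MonoidHom.ofInjective hη).toEquiv,
      DihedralGroup.nat_card] at h
    intro hd
    have : 64 ∣ 144 := hd.trans ⟨Nat.card ↥(M ⊓ η.range), by rw [hH]; linarith⟩
    norm_num at this
  · intro hd
    rw [hH, Nat.card_congr e.toEquiv, Nat.card_perm, Nat.card_fin] at hd
    revert hd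
    decide

end Small

end CfsgLib.PSpFourThree
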