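import Cfsg.Agent.Lib.PSpFourThree.Eight.Plane

/-!
The small case: the involutions of the normalizer of `J` centralizing the central involution and
their action on the quaternion group.
-/

set_option autoImplicit false
set_option maxRecDepth 20000
set_option linter.style.haveILetI false
set_option linter.unusedSectionVars false

namespace CfsgLib.PSpFourThree

open CfsgLib.SymNineThree CfsgLib.SymNineThree.Mon CfsgLib.PSpFourLocal

attribute [local instance 2000] List.decidableBAll List.decidableBEx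

theorem small_codes :
    [(108, 108, 0), (129, 129, 0), (21, 21, 0), (108, 129, 21), (129, 108, 21), (21, 432, 453)].all
      (fun p => Nat.beq (mulM p.1 p.2.1) p.2.2) = true ∧
    [108, 129, 21].all (fun m => Nat.beq (mulM m 432) (mulM 432 m)) = true ∧
    [(108, 13, 22), (108, 22, 13), (108, 9, 18), (129, 13, 26), (129, 9, 18), (129, 22, 17)].all
      (fun p => Nat.beq (mulM (mulM p.1 (trC p.2.1)) (invM p.1)) (trC p.2.2)) = true := by
  refine ⟨?_, ?_, ?_⟩ <;> decide +kernel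

theorem q8_fixed_pos : ∀ u : S23, q4 u → u ≠ 1 → u ≠ -1 → ∀ w : S23, w * w * w = 1 → w ≠ 1 →
    ¬ (u * (w * u * w⁻¹) = w⁻¹ * u * w ∧ u * (w⁻¹ * u * w) = w * u * w⁻¹) := by decide +kernel

theorem q8_fixed_neg : ∀ u : S23, q4 u → u ≠ 1 → u ≠ -1 → ∀ w : S23, w * w * w = 1 → w ≠ 1 →
    ¬ (u * (w * u * w⁻¹) = -1 * (w⁻¹ * u * w) ∧ u * (w⁻¹ * u * w) = -1 * (w * u * w⁻¹)) := by decide +kernel

theorem q8_fixed_or : ∀ u : S23, q4 u → u ≠ 1 → u ≠ -1 → ∀ w : S23, w * w * w = 1 → w ≠ 1 →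
    u * (w * u * w⁻¹) = w⁻¹ * u * w ∨ u * (w * u * w⁻¹) = -1 * (w⁻¹ * u * w) := by decide +kernel

theorem q8_conj : ∀ u : S23, q4 u → ∀ v : S23, q4 v → u⁻¹ * v * u = v ∨ u⁻¹ * v * u = -1 * v := by
  decide +kernel

theorem no_code_flip : ((List.range 1296).all fun c =>
    !Nat.beq (mulM (mulM c (trC 13)) (invM c)) (trC 26) ||
    !Nat.beq (mulM c (trC 9)) (mulM (trC 9) c)) = true := by decide +kernel

universe u

variable {G : Type u} [Group G] [Finite G] {X : Ctx G}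

namespace Coord

variable (U : Coord X)

/-- The flip of the last coordinate. -/
noncomputable def nF : G := U.f (of 108)

/-- The element inverting `J`. -/
noncomputable def iF : G := U.f (of 129)

/-- The flip of the first two coordinates. -/
noncomputable def dF : G := U.f (of 21)

theorem f_code_mul (h8 : U.k = 3) {p q r : ℕ} (hp : p < 1296) (hq : q < 1296) (hr : r < 1296)
    (h : Nat.beq (mulM p q) r = true) : U.f (of p) * U.f (of q) = U.f (of r) := by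
  rw [← U.f_mul (U.top8 h8 _) (U.top8 h8 _)]
  exact congrArg _ (code_eq.mpr (by
    rw [code_mul, code_of hp, code_of hq, code_of hr]; exact Nat.eq_of_beq_eq_true h))

theorem f_of_zero (_h8 : U.k = 3) : U.f (of 0) = 1 := by
  rw [show of 0 = (1 : Mon) from code_eq.mpr (by rw [code_of (by norm_num), code_one]), U.f_one]

theorem flip_mul (h8 : U.k = 3) :
    U.nF * U.nF = 1 ∧ U.iF * U.iF = 1 ∧ U.dF * U.dF = 1 ∧ U.nF * U.iF = U.dF ∧
      U.iF * U.nF = U.dF ∧ U.dF * U.tq = U.f (of 453) := by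
  obtain ⟨h, -, -⟩ := small_codes
  simp only [List.all_cons, List.all_nil, Bool.and_true, Bool.and_eq_true] at h
  obtain ⟨c1, c2, c3, c4, c5, c6⟩ := h
  exact ⟨(U.f_code_mul h8 (by norm_num) (by norm_num) (by norm_num) c1).trans (U.f_of_zero h8),
    (U.f_code_mul h8 (by norm_num) (by norm_num) (by norm_num) c2).trans (U.f_of_zero h8),
    (U.f_code_mul h8 (by norm_num) (by norm_num) (by norm_num) c3).trans (U.f_of_zero h8),
    U.f_code_mul h8 (by norm_num) (by norm_num) (by norm_num) c4,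
    U.f_code_mul h8 (by norm_num) (by norm_num) (by norm_num) c5,
    U.f_code_mul h8 (by norm_num) (by norm_num) (by norm_num) c6⟩

theorem flip_tq (h8 : U.k = 3) :
    U.nF * U.tq = U.tq * U.nF ∧ U.iF * U.tq = U.tq * U.iF ∧ U.dF * U.tq = U.tq * U.dF := by
  obtain ⟨-, h, -⟩ := small_codes
  simp only [List.all_cons, List.all_nil, Bool.and_true, Bool.and_eq_true] at h
  have key : ∀ {m}, m < 1296 → Nat.beq (mulM m 432) (mulM 432 m) = true →
      U.f (of m) * U.tq = U.tq * U.f (of m) := fun hm hc =>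
    (U.f_comm (U.top8 h8 _) (U.top8 h8 _)).mpr (comm_iff.mpr (by
      rw [code_of hm, code_of (by norm_num)]; exact Nat.eq_of_beq_eq_true hc))
  exact ⟨key (by norm_num) h.1, key (by norm_num) h.2.1, key (by norm_num) h.2.2⟩

theorem flip_ι (h8 : U.k = 3) :
    U.nF * X.a * U.nF⁻¹ = U.ι 22 ∧ U.nF * U.ι 22 * U.nF⁻¹ = X.a ∧
    U.nF * U.ι 9 * U.nF⁻¹ = (U.ι 9)⁻¹ ∧ U.iF * X.a * U.iF⁻¹ = X.a⁻¹ ∧
    U.iF * U.ι 9 * U.iF⁻¹ = (U.ι 9)⁻¹ ∧ U.ι 22 = X.a * U.ι 9 := by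
  obtain ⟨-, -, h⟩ := small_codes
  simp only [List.all_cons, List.all_nil, Bool.and_true, Bool.and_eq_true] at h
  obtain ⟨c1, c2, c3, c4, c5, -⟩ := h
  have h18 : U.ι 18 = (U.ι 9)⁻¹ := eq_inv_of_mul_eq_one_right (by
    rw [← U.ι_add (by norm_num) (by norm_num), show addV 9 18 = 0 by decide +kernel, U.ι_zero])
  rw [← h18, U.inv_a, ← U.ι_thirteen]
  exact ⟨U.conj_ι h8 (by norm_num) (by norm_num) (by norm_num) c1,
    U.conj_ι h8 (by norm_num) (by norm_num) (by norm_num) c2,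
    U.conj_ι h8 (by norm_num) (by norm_num) (by norm_num) c3,
    U.conj_ι h8 (by norm_num) (by norm_num) (by norm_num) c4,
    U.conj_ι h8 (by norm_num) (by norm_num) (by norm_num) c5,
    by rw [← U.ι_add (by norm_num) (by norm_num), show addV 13 9 = 22 by decide +kernel]⟩

theorem nF_inv (h8 : U.k = 3) : U.nF⁻¹ = U.nF := inv_eq_of_mul_eq_one_right (U.flip_mul h8).1

theorem iF_inv (h8 : U.k = 3) : U.iF⁻¹ = U.iF := inv_eq_of_mul_eq_one_right (U.flip_mul h8).2.1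

theorem f_ne (h8 : U.k = 3) {p q : ℕ} (hp : p < 1296) (hq : q < 1296) (h : p ≠ q) :
    U.f (of p) ≠ U.f (of q) := fun e => h (by
  rw [← code_of hp, ← code_of hq, U.f_inj (U.top8 h8 _) (U.top8 h8 _) e])

theorem flip_ne (h8 : U.k = 3) :
    (U.nF ≠ 1 ∧ U.nF ≠ U.tq) ∧ (U.iF ≠ 1 ∧ U.iF ≠ U.tq) ∧ (U.dF ≠ 1 ∧ U.dF ≠ U.tq) := by
  rw [← U.f_of_zero h8]
  exact ⟨⟨U.f_ne h8 (by norm_num) (by norm_num) (by norm_num), U.f_ne h8 (by norm_num) (by norm_num) (by norm_num)⟩,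
    ⟨U.f_ne h8 (by norm_num) (by norm_num) (by norm_num), U.f_ne h8 (by norm_num) (by norm_num) (by norm_num)⟩,
    ⟨U.f_ne h8 (by norm_num) (by norm_num) (by norm_num), U.f_ne h8 (by norm_num) (by norm_num) (by norm_num)⟩⟩

/-- Elements fixing or inverting `a` and centralizing the involution preserve the quaternion group. -/
theorem Qa_conj (h8 : U.k = 3) {g : G} (ht : g * U.tq = U.tq * g)
    (ha : g * X.a * g⁻¹ = X.a ∨ g * X.a * g⁻¹ = X.a⁻¹) {q : G} (hq : q ∈ U.Qa h8) :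
    g * q * g⁻¹ ∈ U.Qa h8 := by
  obtain ⟨hC, hqt, h4⟩ := (U.mem_Qa h8).mp hq
  refine (U.mem_Qa h8).mpr ⟨?_, ((Commute.mul_left ht hqt).mul_left (Commute.inv_left ht)).eq,
    by rw [conj_pow, h4, mul_one, mul_inv_cancel]⟩
  have hqa : Commute q X.a := X.a_comm hC
  have e : g⁻¹ * X.a * g = X.a ∨ g⁻¹ * X.a * g = X.a⁻¹ := by
    rcases ha with h | h
    · left
      calc g⁻¹ * X.a * g = g⁻¹ * (g * X.a * g⁻¹) * g := by rw [h]
        _ = _ := by group
    · right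
      calc g⁻¹ * X.a * g = (g⁻¹ * (g * X.a * g⁻¹) * g)⁻¹ := by rw [h]; group
        _ = _ := by group
  refine mem_centralizer_iff'.mpr ?_
  calc g * q * g⁻¹ * X.a = g * (q * (g⁻¹ * X.a * g)) * g⁻¹ := by group
    _ = g * ((g⁻¹ * X.a * g) * q) * g⁻¹ := by
      rcases e with e | e <;> rw [e]
      · rw [hqa.eq]
      · rw [hqa.inv_right.eq]
    _ = _ := by group

theorem iF_conj (h8 : U.k = 3) {q : G} (hq : q ∈ U.Qa h8) : U.iF * q * U.iF ∈ U.Qa h8 := by
  have := U.Qa_conj h8 (U.flip_tq h8).2.1 (Or.inr (U.flip_ι h8).2.2.2.1) hq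
  rwa [U.iF_inv h8] at this

theorem iF_conj_mul (h8 : U.k = 3) (p q : G) :
    U.iF * (p * q) * U.iF = U.iF * p * U.iF * (U.iF * q * U.iF) := by
  calc U.iF * (p * q) * U.iF = U.iF * p * (U.iF * U.iF) * q * U.iF := by
        rw [(U.flip_mul h8).2.1]; group
    _ = _ := by group

theorem nine_conj' (h8 : U.k = 3) {q : G} (hq : q ∈ U.Qa h8) : (U.ι 9)⁻¹ * q * U.ι 9 ∈ U.Qa h8 := by
  have h := U.nine_conj h8 (U.nine_conj h8 hq)
  have e : U.ι 9 * U.ι 9 = (U.ι 9)⁻¹ := eq_inv_of_mul_eq_one_left (X.cube' (U.ι_mem (by norm_num)))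
  rwa [show U.ι 9 * (U.ι 9 * q * (U.ι 9)⁻¹) * (U.ι 9)⁻¹ = (U.ι 9 * U.ι 9) * q * (U.ι 9 * U.ι 9)⁻¹ by group,
    e, inv_inv] at h

/-- The inverting element fixes only the centre. -/
theorem iF_fix (h8 : U.k = 3) {q : G} (hq : q ∈ U.Qa h8) (hf : U.iF * q * U.iF = q) :
    q = 1 ∨ q = U.tq := by
  by_contra hne
  push Not at hne
  obtain ⟨htC, ht2, -, htf, -⟩ := U.tq_facts h8
  obtain ⟨hC, -, h3, h1⟩ := U.nine_facts h8
  set j := U.ι 9 * q * (U.ι 9)⁻¹ with hj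
  set k := (U.ι 9)⁻¹ * q * U.ι 9 with hk
  have hjQ : j ∈ U.Qa h8 := U.nine_conj h8 hq
  have hkQ : k ∈ U.Qa h8 := U.nine_conj' h8 hq
  have hqu : X.f q ≠ 1 := fun e => hne.1 (U.Qa_inj h8 hq (one_mem _) (by rw [e, X.f_one]))
  have hqv : X.f q ≠ -1 := fun e => hne.2 (U.Qa_inj h8 hq (U.tq_mem_Qa h8) (by rw [e, htf]))
  have e1 := q8_fixed_pos _ hq.1.2.2 hqu hqv _ h3 h1
  have e2 := q8_fixed_neg _ hq.1.2.2 hqu hqv _ h3 h1
  have e3 := q8_fixed_or _ hq.1.2.2 hqu hqv _ h3 h1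
  have hfj : X.f j = X.f (U.ι 9) * X.f q * (X.f (U.ι 9))⁻¹ := by
    rw [hj, X.f_mul (mul_mem hC hq.1.1) (inv_mem hC), X.f_mul hC hq.1.1, X.f_inv hC]
  have hfk : X.f k = (X.f (U.ι 9))⁻¹ * X.f q * X.f (U.ι 9) := by
    rw [hk, X.f_mul (mul_mem (inv_mem hC) hq.1.1) hC, X.f_mul (inv_mem hC) hq.1.1, X.f_inv hC]
  have hie : U.iF * U.ι 9 * U.iF = (U.ι 9)⁻¹ := by
    have := (U.flip_ι h8).2.2.2.2.1
    rwa [U.iF_inv h8] at this
  have hie' : U.iF * (U.ι 9)⁻¹ * U.iF = U.ι 9 := by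
    conv_rhs => rw [← inv_inv (U.ι 9), ← hie]
    rw [mul_inv_rev, mul_inv_rev, U.iF_inv h8]; group
  have hij : U.iF * j * U.iF = k := by
    rw [hj, U.iF_conj_mul h8, U.iF_conj_mul h8, hf, hie, hie']
  have hik : U.iF * k * U.iF = j := by
    rw [hk, U.iF_conj_mul h8, U.iF_conj_mul h8, hf, hie, hie']
  have hit : U.iF * U.tq * U.iF = U.tq := by
    rw [(U.flip_tq h8).2.1, mul_assoc, (U.flip_mul h8).2.1, mul_one]
  rcases e3 with e | e
  · refine e1 ⟨e, ?_⟩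
    have h : q * j = k := U.Qa_inj h8 (mul_mem hq hjQ) hkQ (by rw [X.f_mul hq.1.1 hjQ.1.1, hfj, hfk, e])
    have h' := congrArg (fun z => U.iF * z * U.iF) h
    rw [U.iF_conj_mul h8 q j, hf, hij, hik] at h'
    rw [← hfj, ← hfk, ← X.f_mul hq.1.1 hkQ.1.1, h']
  · refine e2 ⟨e, ?_⟩
    have h : q * j = U.tq * k := U.Qa_inj h8 (mul_mem hq hjQ) (mul_mem (U.tq_mem_Qa h8) hkQ)
      (by rw [X.f_mul hq.1.1 hjQ.1.1, X.f_mul htC hkQ.1.1, htf, hfj, hfk, e])
    have h' := congrArg (fun z => U.iF * z * U.iF) h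
    rw [U.iF_conj_mul h8 q j, U.iF_conj_mul h8 U.tq k, hf, hij, hik, hit] at h'
    rw [← hfj, ← hfk, ← htf, ← X.f_mul hq.1.1 hkQ.1.1, h', X.f_mul htC hjQ.1.1]

theorem tq_ne_sq (h8 : U.k = 3) {q : G} (h : q = 1 ∨ q = U.tq) : q * q = 1 := by
  rcases h with rfl | rfl
  · exact one_mul _
  · exact (U.tq_facts h8).2.1

/-- No root of the central involution outside the quaternion group. -/
theorem iF_mul_sq (h8 : U.k = 3) {q : G} (hq : q ∈ U.Qa h8) : q * U.iF * (q * U.iF) ≠ U.tq := by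
  intro h
  have ht1 : U.tq ≠ 1 := (U.tq_facts h8).2.2.1
  have e : U.iF * q * U.iF = q⁻¹ * U.tq := by rw [← h]; group
  rcases ((U.Qa_two_els h8) hq).2 with h2 | h2
  · have hf : U.iF * q * U.iF = q := by
      have hq' := ((U.Qa_two_els h8) hq).1 h2
      rcases hq' with rfl | rfl
      · simp [(U.flip_mul h8).2.1]
      · rw [(U.flip_tq h8).2.1, mul_assoc, (U.flip_mul h8).2.1, mul_one]
    rw [hf, eq_inv_mul_iff_mul_eq, h2] at e
    exact ht1 e.symm
  · rw [← h2, inv_mul_cancel_left] at e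
    have := U.tq_ne_sq h8 (U.iF_fix h8 hq e)
    exact ht1 (h2.symm.trans this)

/-- No element outside the quaternion group centralizes it. -/
theorem iF_no_cent (h8 : U.k = 3) {q : G} (hq : q ∈ U.Qa h8)
    (h : ∀ y ∈ U.Qa h8, q * U.iF * y = y * (q * U.iF)) : False := by
  have e : U.iF * q = q * U.iF := by
    have := h q hq
    rwa [mul_assoc, mul_right_inj] at this
  have hqc := U.iF_fix h8 hq (by rw [e, mul_assoc, (U.flip_mul h8).2.1, mul_one])
  obtain ⟨y, hy, hy2⟩ := U.Qa_root h8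
  have hc : Commute q y := by
    rcases hqc with rfl | rfl
    · exact Commute.one_left y
    · exact ((show Commute y U.tq from hy.1.2.1)).symm
  have e2 : U.iF * y = y * U.iF := by
    have h' := h y hy
    rw [mul_assoc, ← mul_assoc y q, ← hc.eq, mul_assoc q y] at h'
    exact mul_left_cancel h'
  have := U.tq_ne_sq h8 (U.iF_fix h8 hy (by rw [e2, mul_assoc, (U.flip_mul h8).2.1, mul_one]))
  exact (U.tq_facts h8).2.2.1 (hy2.symm.trans this)

/-- Some element of order four is inverted. -/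
theorem exists_inverted (h8 : U.k = 3) :
    ∃ y ∈ U.Qa h8, y * y = U.tq ∧ U.iF * y * U.iF = U.tq * y := by
  obtain ⟨htC, ht2, ht1, htf, -⟩ := U.tq_facts h8
  have root : ∀ {y : G}, y ∈ U.Qa h8 → ¬ (y = 1 ∨ y = U.tq) → y * y = U.tq := fun hy hn =>
    ((U.Qa_two_els h8) hy).2.resolve_left fun h => hn (((U.Qa_two_els h8) hy).1 h)
  obtain ⟨y, hy, hy2⟩ := U.Qa_root h8
  have hyn : ¬ (y = 1 ∨ y = U.tq) := fun h => ht1 (hy2.symm.trans (U.tq_ne_sq h8 h))
  have hy' := U.iF_conj h8 hy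
  set w := y * (U.iF * y * U.iF) with hw
  have hwQ : w ∈ U.Qa h8 := mul_mem hy hy'
  by_cases hwc : w = 1 ∨ w = U.tq
  · rcases hwc with e | e
    · refine ⟨y, hy, hy2, ?_⟩
      rw [eq_inv_of_mul_eq_one_right e]
      refine inv_eq_of_mul_eq_one_left ?_
      rw [mul_assoc, hy2, ht2]
    · exfalso
      exact hyn (U.iF_fix h8 hy (by
        refine mul_left_cancel (a := y) ?_
        rw [hy2]; exact e))
  · refine ⟨w, hwQ, root hwQ hwc, ?_⟩
    have e : U.iF * w * U.iF = y⁻¹ * w * y := by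
      rw [hw, U.iF_conj_mul h8]
      calc U.iF * y * U.iF * (U.iF * (U.iF * y * U.iF) * U.iF)
          = U.iF * y * U.iF * ((U.iF * U.iF) * y * (U.iF * U.iF)) := by group
        _ = _ := by rw [(U.flip_mul h8).2.1]; group
    have hm : y⁻¹ * w * y ∈ U.Qa h8 := mul_mem (mul_mem (inv_mem hy) hwQ) hy
    have hfm : X.f (y⁻¹ * w * y) = (X.f y)⁻¹ * X.f w * X.f y := by
      rw [X.f_mul (mul_mem (inv_mem hy.1.1) hwQ.1.1) hy.1.1, X.f_mul (inv_mem hy.1.1) hwQ.1.1,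
        X.f_inv hy.1.1]
    rcases q8_conj _ hy.1.2.2 _ hwQ.1.2.2 with h | h
    · exact absurd (U.iF_fix h8 hwQ (e.trans (U.Qa_inj h8 hm hwQ (hfm.trans h)))) hwc
    · exact e.trans (U.Qa_inj h8 hm (mul_mem (U.tq_mem_Qa h8) hwQ) (by rw [hfm, h, X.f_mul htC hwQ.1.1, htf]))

/-- No element centralizing the quaternion group inverts `a`. -/
theorem no_invert (h8 : U.k = 3) (hcn : U.CN 1) {x : G} (hx : ∀ q ∈ U.Qa h8, x * q = q * x)
    (hinv : x * X.a * x⁻¹ = X.a⁻¹) : False := by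
  obtain ⟨htC, ht2, -, htf, -⟩ := U.tq_facts h8
  obtain ⟨hC, het, h3, h1⟩ := U.nine_facts h8
  set w := x * U.ι 9 * x⁻¹ with hw
  have hxt : x * U.tq = U.tq * x := hx _ (U.tq_mem_Qa h8)
  have hwC : w ∈ X.C := by
    have he : Commute (U.ι 9) X.a⁻¹ := (show Commute (U.ι 9) X.a from X.a_comm hC).inv_right
    refine mem_centralizer_iff'.mpr ?_
    have : Commute w (x * X.a⁻¹ * x⁻¹) := by
      show x * U.ι 9 * x⁻¹ * (x * X.a⁻¹ * x⁻¹) = x * X.a⁻¹ * x⁻¹ * (x * U.ι 9 * x⁻¹)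
      rw [conj_mul, conj_mul, he.eq]
    rw [show x * X.a⁻¹ * x⁻¹ = (x * X.a * x⁻¹)⁻¹ by group, hinv, inv_inv] at this
    exact this.eq
  have hwt : w * U.tq = U.tq * w :=
    ((Commute.mul_left (show Commute x U.tq from hxt) (show Commute (U.ι 9) U.tq from het)).mul_left
      (Commute.inv_left hxt)).eq
  set y := (U.ι 9)⁻¹ * w with hy
  have hyC : y ∈ X.C := mul_mem (inv_mem hC) hwC
  have hyt : y * U.tq = U.tq * y := ((Commute.inv_left het).mul_left hwt).eq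
  have hyq : ∀ q ∈ U.Qa h8, y * q = q * y := by
    intro q hq
    have e1 : w * q * w⁻¹ = U.ι 9 * q * (U.ι 9)⁻¹ := by
      calc w * q * w⁻¹ = x * (U.ι 9 * (x⁻¹ * (q * x)) * (U.ι 9)⁻¹) * x⁻¹ := by rw [hw]; group
        _ = x * (U.ι 9 * q * (U.ι 9)⁻¹) * x⁻¹ := by rw [← hx q hq, inv_mul_cancel_left]
        _ = _ := by rw [hx _ (U.nine_conj h8 hq), mul_inv_cancel_right]
    refine mul_inv_eq_iff_eq_mul.mp ?_
    calc y * q * y⁻¹ = (U.ι 9)⁻¹ * (w * q * w⁻¹) * U.ι 9 := by rw [hy]; group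
      _ = q := by rw [e1]; group
  -- the image is central
  have hcen : X.f y = 1 ∨ X.f y = -1 := by
    have key : ∀ u : S23, (∀ v : S23, q4 v → u * v = v * u) → u = 1 ∨ u = -1 := by decide +kernel
    refine key _ fun v hv => ?_
    obtain ⟨q, hq, rfl⟩ := U.Qa_surj h8 hv
    rw [← X.f_mul hyC hq.1.1, ← X.f_mul hq.1.1 hyC, hyq q hq]
  have hw3 : X.f w * X.f w * X.f w = 1 := by
    rw [← X.f_mul hwC hwC, ← X.f_mul (mul_mem hwC hwC) hwC, hw, conj_mul, conj_mul,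
      X.cube' (U.ι_mem (by norm_num)), mul_one, mul_inv_cancel, X.f_one]
  have hy1 : X.f y = 1 := by
    refine hcen.resolve_right fun e => ?_
    rw [hy, X.f_mul (inv_mem hC) hwC, X.f_inv hC, inv_mul_eq_iff_eq_mul] at e
    rw [e] at hw3
    have key : ∀ u : S23, u * u * u = 1 → u * -1 * (u * -1) * (u * -1) ≠ 1 := by decide +kernel
    exact key _ h3 hw3
  have hyZ : y ∈ X.Z := X.neg_one_no_fix htC htf ht2 ((X.f_eq_one hyC).mp hy1) (by
    rw [← hyt, mul_inv_cancel_right, mul_inv_cancel]; exact one_mem _)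
  have hwy : w = U.ι 9 * y := by rw [hy, mul_inv_cancel_left]
  have hxe : x * U.ι 9 * x⁻¹ = U.ι 9 := by
    rw [← hw, hwy]
    rcases X.mem_Z.mp hyZ with e | e | e
    · rw [e, mul_one]
    · exfalso
      have h : x * U.ι 9 * x⁻¹ = U.ι 22 := by
        rw [← hw, hwy, e, (U.flip_ι h8).2.2.2.2.2, X.a_comm hC]
      exact absurd (U.wt_fusion (by norm_num) (by norm_num) h) (by decide +kernel)
    · exfalso
      have h : x * U.ι 9 * x⁻¹ = U.ι 8 := by
        rw [← hw, hwy, e, show X.a * X.a = U.ι 26 by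
          rw [← U.inv_a]; exact eq_inv_of_mul_eq_one_left X.a_cube,
          ← U.ι_add (by norm_num) (by norm_num)]
        rfl
      exact absurd (U.wt_fusion (by norm_num) (by norm_num) h) (by decide +kernel)
  have hxe' : x * U.ι 9 = U.ι 9 * x := mul_inv_eq_iff_eq_mul.mp hxe
  have hN := U.CN_weight h8 (v := 9) (r := 1) (by norm_num) (by decide +kernel) (by norm_num)
    (by decide +kernel) hcn x hxe'
  obtain ⟨c, hc, rfl⟩ := U.exists_f hN
  have c9 : mulM (c.c : ℕ) (trC 9) = mulM (trC 9) c.c := by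
    rw [← code_tr (show 9 < 27 by norm_num)]
    exact comm_iff.mp ((U.f_comm hc (tr_mem (by norm_num))).mp hxe')
  have c13 : mulM (mulM (c.c : ℕ) (trC 13)) (invM c.c) = trC 26 := by
    rw [U.inv_a, ← U.ι_thirteen, ι, ι, ← U.f_conj hc (tr_mem (by norm_num))] at hinv
    have := U.f_inj (U.top8 h8 _) (U.top8 h8 _) hinv
    rw [← code_tr (show 13 < 27 by norm_num), ← code_tr (show 26 < 27 by norm_num), ← code_mul,
      ← code_inv, ← code_mul, this]
  have := List.all_eq_true.mp no_code_flip _ (List.mem_range.mpr c.c.isLt)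
  simp [c9, c13] at this

end Coord

end CfsgLib.PSpFourThree
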