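import Cfsg.Agent.Lib.PSpFourThree.Eight.SmallBase

/-!
The small case: the centralizer of the quaternion group and its conjugate.
-/

set_option autoImplicit false
set_option maxRecDepth 20000
set_option linter.style.haveILetI false
set_option linter.unusedSectionVars false

namespace CfsgLib.PSpFourThree

open CfsgLib.SymNineThree CfsgLib.SymNineThree.Mon CfsgLib.PSpFourLocal

attribute [local instance 2000] List.decidableBAll List.decidableBEx

theorem plane_weights : ((List.range 27).all fun v => !Nat.beq (mulM (trC v) 432) (mulM 432 (trC v)) ||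
    [0, 13, 26, 22, 17].any (fun w => Nat.beq w v) || Nat.beq (wtV v) 1 || Nat.beq (wtV v) 2) = true ∧
    Fintype.card {v : Fin 27 // Nat.beq (mulM (trC v) 432) (mulM 432 (trC v)) = true} = 9 := by
  refine ⟨?_, ?_⟩ <;> decide +kernel

universe u

variable {G : Type u} [Group G] [Finite G] {X : Ctx G}

/-- The small case. -/
structure Small (U : Coord X) : Prop where
  h8 : U.k = 3
  cn : U.CN 1

namespace Small

variable {U : Coord X} (S : Small U)

include S

theorem cn_low {v : ℕ} (hv : v < 27) (hw : wtV v = 1 ∨ wtV v = 2) : U.CN v := by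
  rcases hw with hw | hw
  · exact U.CN_weight S.h8 hv (r := 1) (by rw [hw]; rfl) (by norm_num) (by omega) S.cn
  · exact U.cent_wt_two S.h8 hv hw

/-- The second quaternion group. -/
noncomputable def Qb : Subgroup G := (U.Qa S.h8).map (MulAut.conj U.nF).toMonoidHom

theorem n_conj_conj (x : G) : U.nF * (U.nF * x * U.nF) * U.nF = x := by
  calc U.nF * (U.nF * x * U.nF) * U.nF = (U.nF * U.nF) * x * (U.nF * U.nF) := by group
    _ = x := by rw [(U.flip_mul S.h8).1, one_mul, mul_one]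

theorem mem_Qb {z : G} : z ∈ S.Qb ↔ U.nF * z * U.nF ∈ U.Qa S.h8 := by
  constructor
  · rintro ⟨q, hq, rfl⟩
    show U.nF * (U.nF * q * U.nF⁻¹) * U.nF ∈ U.Qa S.h8
    rw [U.nF_inv S.h8, S.n_conj_conj]; exact hq
  · intro h
    refine ⟨_, h, ?_⟩
    show U.nF * (U.nF * z * U.nF) * U.nF⁻¹ = z
    rw [U.nF_inv S.h8, S.n_conj_conj]

theorem nn_Qb {q : G} (hq : q ∈ U.Qa S.h8) : U.nF * q * U.nF ∈ S.Qb :=
  S.mem_Qb.mpr (by rw [S.n_conj_conj]; exact hq)

theorem tq_Qb : U.tq ∈ S.Qb := by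
  refine S.mem_Qb.mpr ?_
  rw [(U.flip_tq S.h8).1, mul_assoc, (U.flip_mul S.h8).1, mul_one]
  exact U.tq_mem_Qa S.h8

/-- The centralizer of the quaternion group. -/
noncomputable def D : Subgroup G := Subgroup.centralizer (U.Qa S.h8 : Set G)

theorem mem_D {x : G} : x ∈ S.D ↔ ∀ q ∈ U.Qa S.h8, x * q = q * x := by
  rw [D, Subgroup.mem_centralizer_iff]
  exact ⟨fun h q hq => (h q hq).symm, fun h q hq => (h q hq).symm⟩

theorem a_mem_D : X.a ∈ S.D := S.mem_D.mpr fun _ hq => (X.a_comm hq.1.1).symm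

theorem tq_mem_D : U.tq ∈ S.D := S.mem_D.mpr fun _ hq => hq.1.2.1.symm

/-- In the centralizer of `a` only the centre remains. -/
theorem D_cent {x : G} (hx : x ∈ S.D) (hC : x ∈ X.C) (h3 : (orderOf x).Coprime 3) :
    x = 1 ∨ x = U.tq := by
  have hxQ := U.mem_Qa_of S.h8 hC (S.mem_D.mp hx _ (U.tq_mem_Qa S.h8)) h3
  by_contra hne
  push Not at hne
  exact U.Qa_noncomm S.h8 hxQ hne.1 hne.2 (S.mem_D.mp hx _ (U.nine_conj S.h8 hxQ))

theorem D_three {g : G} (hg : g ∈ S.D) (hC : g ∈ X.C) {n : ℕ} (hn : g ^ 3 ^ n = 1) :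
    g ∈ Subgroup.zpowers X.a := by
  obtain ⟨htC, ht2, -, htf, -⟩ := U.tq_facts S.h8
  have key : ∀ u : S23, (∀ v : S23, q4 v → u * v = v * u) → u = 1 ∨ u = -1 := by decide +kernel
  have hf : X.f g = 1 ∨ X.f g = -1 := key _ fun v hv => by
    obtain ⟨q, hq, rfl⟩ := U.Qa_surj S.h8 hv
    rw [← X.f_mul hC hq.1.1, ← X.f_mul hq.1.1 hC, S.mem_D.mp hg q hq]
  have hf1 : X.f g = 1 := by
    refine hf.resolve_right fun e => ?_
    have h := X.f_pow hC (3 ^ n)
    rw [hn, X.f_one, e, Odd.neg_one_pow (Odd.pow (by decide))] at h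
    exact sl_neg.2 h.symm
  refine X.neg_one_no_fix htC htf ht2 ((X.f_eq_one hC).mp hf1) ?_
  rw [← S.mem_D.mp hg _ (U.tq_mem_Qa S.h8), mul_inv_cancel_right, mul_inv_cancel]
  exact one_mem _

theorem conj_zpowers {g : G} (hg : g * X.a * g⁻¹ ∈ Subgroup.zpowers X.a) :
    g * X.a * g⁻¹ = X.a ∨ g * X.a * g⁻¹ = X.a⁻¹ := by
  rcases X.mem_Z.mp hg with e | e | e
  · exact absurd (conj_eq_one_iff.mp e) X.a_ne
  · exact Or.inl e
  · exact Or.inr (e.trans (eq_inv_of_mul_eq_one_left X.a_cube))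

theorem D_normalizer {g : G} (hg : g ∈ S.D) (hn : g * X.a * g⁻¹ ∈ Subgroup.zpowers X.a) :
    g * X.a = X.a * g := by
  rcases S.conj_zpowers hn with e | e
  · exact mul_inv_eq_iff_eq_mul.mp e
  · exact (U.no_invert S.h8 S.cn (S.mem_D.mp hg) e).elim

/-- The normal complement to `⟨a⟩` in the centralizer of the quaternion group. -/
theorem exists_complement : ∃ N : Subgroup G, N ≤ S.D ∧ (Nat.card N).Coprime 3 ∧
    (∀ x ∈ S.D, (orderOf x).Coprime 3 → x ∈ N) ∧
    (∀ x ∈ S.D, ∃ z ∈ N, ∃ k : ℕ, x = z * X.a ^ k) ∧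
    (∀ x ∈ S.D, orderOf x = 3 → ∃ c ∈ N, ∃ k : ℕ, x = c * X.a ^ k * c⁻¹) := by
  classical
  haveI : Fact (Nat.Prime 3) := ⟨Nat.prime_three⟩
  have haD := S.a_mem_D
  set D := S.D with hD
  set A : Subgroup D := (Subgroup.zpowers X.a).subgroupOf D with hA
  have hAle : Subgroup.zpowers X.a ≤ D := Subgroup.zpowers_le.mpr haD
  have hAp : IsPGroup 3 A := IsPGroup.of_card (n := 1) (by
    rw [Nat.card_congr (Subgroup.subgroupOfEquivOfLe hAle).toEquiv, Nat.card_zpowers, X.ha, pow_one])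
  obtain ⟨P, hP⟩ := hAp.exists_le_sylow
  have hPA : (P : Subgroup D) = A := by
    refine le_antisymm ?_ hP
    by_contra hne
    obtain ⟨g, hgP, hgA, hgN⟩ : ∃ g ∈ (P : Subgroup D), g ∉ A ∧
        g ∈ Subgroup.normalizer (A : Set D) := by
      haveI := P.isPGroup'.isNilpotent
      have hlt : A.subgroupOf (P : Subgroup D) < ⊤ := lt_top_iff_ne_top.mpr fun e =>
        hne (Subgroup.subgroupOf_eq_top.mp e)
      obtain ⟨q, hqN, hqM⟩ := SetLike.exists_of_lt
        (Group.normalizerCondition_of_isNilpotent (A.subgroupOf (P : Subgroup D)) hlt)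
      exact ⟨q, q.2, hqM, mem_of_map_conj _ fun p hp =>
        (Subgroup.mem_normalizer_iff.mp hqN ⟨p, hP hp⟩).mp hp⟩
    have hga : (g : G) * X.a * (g : G)⁻¹ ∈ Subgroup.zpowers X.a :=
      (Subgroup.mem_normalizer_iff.mp hgN ⟨X.a, haD⟩).mp (Subgroup.mem_zpowers X.a)
    obtain ⟨n, hn⟩ := P.isPGroup' ⟨g, hgP⟩
    exact hgA (S.D_three g.2 (mem_centralizer_iff'.mpr (S.D_normalizer g.2 hga))
      (congrArg (fun z : (P : Subgroup D) => ((z : D) : G)) hn))
  have hBurn : Subgroup.normalizer ((P : Subgroup D) : Set D) ≤ Subgroup.centralizer ((P : Subgroup D) : Set D) := by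
    intro g hg
    rw [hPA] at hg ⊢
    have hga : (g : G) * X.a * (g : G)⁻¹ ∈ Subgroup.zpowers X.a :=
      (Subgroup.mem_normalizer_iff.mp hg ⟨X.a, haD⟩).mp (Subgroup.mem_zpowers X.a)
    refine Subgroup.mem_centralizer_iff.mpr fun p hp => Subtype.ext ?_
    obtain ⟨i, hi⟩ := Subgroup.mem_zpowers_iff.mp (show (p : G) ∈ Subgroup.zpowers X.a from hp)
    show (p : G) * g = g * p
    rw [← hi]
    exact (((show Commute (g : G) X.a from S.D_normalizer g.2 hga)).zpow_right i).eq.symm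
  set K := (MonoidHom.transferSylow P hBurn).ker with hK
  have hc := MonoidHom.ker_transferSylow_isComplement' P hBurn
  have hnd : ¬ 3 ∣ Nat.card K := MonoidHom.not_dvd_card_ker_transferSylow P hBurn
  have hdec : ∀ x : D, ∃ z ∈ K, ∃ k : ℕ, (x : G) = (z : G) * X.a ^ k := by
    intro x
    obtain ⟨⟨⟨z, hz⟩, ⟨p, hp⟩⟩, e⟩ := hc.2 x
    rw [SetLike.mem_coe, hPA] at hp
    have hp' : (p : G) ∈ Subgroup.zpowers X.a := hp
    rw [← mem_powers_iff_mem_zpowers, Submonoid.mem_powers_iff] at hp'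
    obtain ⟨k, hk⟩ := hp'
    exact ⟨z, hz, k, by rw [hk, ← e]; rfl⟩
  refine ⟨K.map D.subtype, Subgroup.map_subtype_le _, ?_, fun x hx h3 => ?_, fun x hx => ?_, fun x hx h3 => ?_⟩
  · rw [Subgroup.card_map_of_injective D.subtype_injective]
    exact ((Nat.prime_three.coprime_iff_not_dvd).mpr hnd).symm
  · refine ⟨⟨x, hx⟩, ?_, rfl⟩
    rw [hK, SetLike.mem_coe, MonoidHom.mem_ker]
    set y := MonoidHom.transferSylow P hBurn ⟨x, hx⟩
    have hd1 : orderOf y ∣ orderOf x := by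
      rw [show orderOf x = orderOf (⟨x, hx⟩ : D) from Subgroup.orderOf_coe (⟨x, hx⟩ : D)]
      exact orderOf_map_dvd _ _
    have hd2 : orderOf y ∣ 3 := by
      refine (orderOf_dvd_natCard y).trans ?_
      rw [show Nat.card (P : Subgroup D) = Nat.card A by rw [hPA],
        Nat.card_congr (Subgroup.subgroupOfEquivOfLe hAle).toEquiv, Nat.card_zpowers, X.ha]
    exact orderOf_eq_one_iff.mp (Nat.eq_one_of_dvd_coprimes h3 hd1 hd2)
  · obtain ⟨z, hz, k, e⟩ := hdec ⟨x, hx⟩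
    exact ⟨z, ⟨z, hz, rfl⟩, k, e⟩
  · have hx3 : orderOf (⟨x, hx⟩ : D) = 3 := by rw [← Subgroup.orderOf_coe]; exact h3
    have hXp : IsPGroup 3 (Subgroup.zpowers (⟨x, hx⟩ : D)) :=
      IsPGroup.of_card (n := 1) (by rw [Nat.card_zpowers, hx3, pow_one])
    obtain ⟨R, hR⟩ := hXp.exists_le_sylow
    obtain ⟨δ, hδ⟩ := MulAction.exists_smul_eq D P R
    obtain ⟨z, hz, j, e⟩ := hdec δ
    have hxR := hR (Subgroup.mem_zpowers (⟨x, hx⟩ : D))
    rw [← hδ, Sylow.coe_subgroup_smul] at hxR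
    obtain ⟨w, hw, ew⟩ := hxR
    rw [SetLike.mem_coe, hPA] at hw
    have hw' : (w : G) ∈ Subgroup.zpowers X.a := hw
    rw [← mem_powers_iff_mem_zpowers, Submonoid.mem_powers_iff] at hw'
    obtain ⟨k, hk⟩ := hw'
    refine ⟨z, ⟨z, hz, rfl⟩, k, ?_⟩
    have ex : (δ : G) * w * (δ : G)⁻¹ = x := congrArg Subtype.val ew
    rw [← ex, e, ← hk]; group

theorem JC_norm {p : G} (hp : p ∈ U.JC 432) {q : G} (hq : q ∈ U.Qa S.h8) :
    p * q * p⁻¹ ∈ U.Qa S.h8 :=
  U.Qa_conj S.h8 (mem_centralizer_iff'.mp hp.2)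
    (Or.inl (by rw [X.comm p hp.1 _ X.a_mem_J, mul_inv_cancel_right])) hq

theorem D_conj {g : G} (h : ∀ q ∈ U.Qa S.h8, g⁻¹ * q * g ∈ U.Qa S.h8) {x : G} (hx : x ∈ S.D) :
    g * x * g⁻¹ ∈ S.D := S.mem_D.mpr fun q hq => by
  calc g * x * g⁻¹ * q = g * (x * (g⁻¹ * q * g)) * g⁻¹ := by group
    _ = g * ((g⁻¹ * q * g) * x) * g⁻¹ := by rw [S.mem_D.mp hx _ (h q hq)]
    _ = _ := by group

theorem D_conj_JC {p : G} (hp : p ∈ U.JC 432) {x : G} (hx : x ∈ S.D) : p * x * p⁻¹ ∈ S.D :=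
  S.D_conj (fun q hq => by simpa using S.JC_norm (inv_mem hp) hq) hx

/-- The complement lies in the second quaternion group. -/
theorem complement_le {N : Subgroup G} (hND : N ≤ S.D) (hN : (Nat.card N).Coprime 3)
    (hNmem : ∀ x ∈ S.D, (orderOf x).Coprime 3 → x ∈ N) :
    N ≤ S.Qb ∧ U.JC 432 ≤ Subgroup.normalizer (N : Set G) := by
  classical
  have h3N : ∀ x ∈ N, (orderOf x).Coprime 3 := fun x hx =>
    hN.coprime_dvd_left (Subgroup.orderOf_dvd_natCard N hx)
  have hWN : U.JC 432 ≤ Subgroup.normalizer (N : Set G) := fun p hp => mem_of_map_conj _ fun x hx =>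
    hNmem _ (S.D_conj_JC hp (hND hx)) (by
      rw [show p * x * p⁻¹ = MulAut.conj p x from rfl, MulEquiv.orderOf_eq]; exact h3N x hx)
  refine ⟨?_, hWN⟩
  haveI : IsMulCommutative (U.JC 432) := ⟨⟨fun p q => Subtype.ext (U.JC_comm 432 _ p.2 _ q.2)⟩⟩
  obtain ⟨hwt, hc9⟩ := plane_weights
  have hcard : Nat.card (U.JC 432) = 9 := U.card_JC S.h8 (by norm_num) hc9
  have hnc : ¬ IsCyclic (U.JC 432) :=
    CfsgLib.Coprime.not_isCyclic_of_exponent (fun g hg => U.JC_exp 432 g hg) (by norm_num)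
      (by rw [hcard]; norm_num)
  refine CfsgLib.Coprime.le_of_centralizer_le hnc hWN
    (by rw [hcard, show (9 : ℕ) = 3 ^ 2 by norm_num]; exact (hN.symm).pow_left 2) ?_
  rintro g hg hg1 x ⟨hxN, hxg⟩
  have hxg' : x * g = g * x := mem_centralizer_iff'.mp hxg
  obtain ⟨v, hv, rfl, hb⟩ := U.exists_JC S.h8 (by norm_num) hg
  have hxD := hND hxN
  have cz : ∀ {y : G}, y ∈ X.C → y ∈ S.D → (orderOf y).Coprime 3 → y ∈ S.Qb := fun hy hyD hy3 => by
    rcases S.D_cent hyD hy hy3 with rfl | rfl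
    · exact one_mem _
    · exact S.tq_Qb
  have n22 : x * U.ι 22 = U.ι 22 * x → x ∈ S.Qb := fun h => by
    refine S.mem_Qb.mpr (U.mem_Qa_of S.h8 (mem_centralizer_iff'.mpr ?_) ?_ ?_)
    · obtain ⟨e1, -⟩ := U.flip_ι S.h8
      rw [U.nF_inv S.h8] at e1
      rw [← S.n_conj_conj X.a, e1]
      have hn := (U.flip_mul S.h8).1
      calc U.nF * x * U.nF * (U.nF * U.ι 22 * U.nF) = U.nF * x * (U.nF * U.nF) * U.ι 22 * U.nF := by group
        _ = U.nF * (U.ι 22 * x) * U.nF := by rw [hn, mul_one, mul_assoc U.nF x, h]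
        _ = U.nF * U.ι 22 * (U.nF * U.nF) * x * U.nF := by rw [hn, mul_one]; group
        _ = _ := by group
    · have hn : Commute U.nF U.tq := (U.flip_tq S.h8).1
      have hx : Commute x U.tq := S.mem_D.mp hxD _ (U.tq_mem_Qa S.h8)
      exact ((hn.mul_left hx).mul_left hn).eq
    · rw [show U.nF * x * U.nF = MulAut.conj U.nF x by
        rw [MulAut.conj_apply, U.nF_inv S.h8], MulEquiv.orderOf_eq]
      exact h3N x hxN
  have h := List.all_eq_true.mp hwt v (List.mem_range.mpr hv)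
  simp only [hb, Bool.not_true, Bool.false_or, List.any_cons, List.any_nil, Bool.or_false,
    Bool.or_eq_true, Nat.beq_eq] at h
  rcases h with ((h | h | h | h | h) | h) | h
  · exact absurd (by rw [← h, U.ι_zero]) hg1
  · subst h
    rw [U.ι_thirteen] at hxg'
    exact cz (mem_centralizer_iff'.mpr hxg') hxD (h3N x hxN)
  · subst h
    rw [← U.inv_a] at hxg'
    exact cz (mem_centralizer_iff'.mpr (by simpa using ((show Commute x X.a⁻¹ from hxg').inv_right).eq))
      hxD (h3N x hxN)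
  · subst h
    exact n22 hxg'
  · subst h
    refine n22 ?_
    have e : U.ι 22 = (U.ι 17)⁻¹ := eq_inv_of_mul_eq_one_right (by
      rw [← U.ι_add (by norm_num) (by norm_num), show addV 17 22 = 0 by decide +kernel, U.ι_zero])
    rw [e]; exact ((show Commute x (U.ι 17) from hxg').inv_right).eq
  all_goals
    have hN' := S.cn_low hv (by omega) x hxg'
    have haW : X.a ∈ U.JC 432 := ⟨X.a_mem_J, mem_centralizer_iff'.mpr (X.a_comm (U.tq_facts S.h8).1).symm⟩
    exact cz (mem_centralizer_iff'.mpr (U.comm_of_invariant inf_le_left hN hWN hxN hN' haW)) hxD (h3N x hxN)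

/-- Roots of the central involution in the extension of the quaternion group lie in it. -/
theorem root_mem {w : G} (hw : w ∈ U.Qa S.h8 ∨ w * U.iF ∈ U.Qa S.h8) (h2 : w * w = U.tq) :
    w ∈ U.Qa S.h8 := by
  refine hw.resolve_right fun h => U.iF_mul_sq S.h8 h ?_
  rw [mul_assoc w, (U.flip_mul S.h8).2.1, mul_one, h2]

/-- A two-element fixing or inverting `a` in the centralizer of the involution. -/
theorem mem_ext {T : Subgroup G} (hT : IsPGroup 2 T) (hi : U.iF ∈ T) {g : G} (hg : g ∈ T)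
    (ht : g * U.tq = U.tq * g) (ha : g * X.a * g⁻¹ = X.a ∨ g * X.a * g⁻¹ = X.a⁻¹) :
    g ∈ U.Qa S.h8 ∨ g * U.iF ∈ U.Qa S.h8 := by
  have h3 : ∀ {y : G}, y ∈ T → (orderOf y).Coprime 3 := fun {y} hy => by
    obtain ⟨k, hk⟩ := hT ⟨y, hy⟩
    exact Nat.Coprime.coprime_dvd_left (orderOf_dvd_of_pow_eq_one (congrArg Subtype.val hk))
      (Nat.Coprime.pow_left k (by norm_num))
  rcases ha with h | h
  · exact Or.inl (U.mem_Qa_of S.h8 (mem_centralizer_iff'.mpr (mul_inv_eq_iff_eq_mul.mp h)) ht (h3 hg))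
  · refine Or.inr (U.mem_Qa_of S.h8 (mem_centralizer_iff'.mpr (mul_inv_eq_iff_eq_mul.mp ?_))
      ((show Commute g U.tq from ht).mul_left (U.flip_tq S.h8).2.1).eq (h3 (mul_mem hg hi)))
    rw [mul_inv_rev, show g * U.iF * X.a * (U.iF⁻¹ * g⁻¹) = g * (U.iF * X.a * U.iF⁻¹) * g⁻¹ by group,
      (U.flip_ι S.h8).2.2.2.1, show g * X.a⁻¹ * g⁻¹ = (g * X.a * g⁻¹)⁻¹ by group, h, inv_inv]

/-- The extension of the quaternion group by the inverting element. -/
noncomputable def Ta : Subgroup G where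
  carrier := {g | g ∈ U.Qa S.h8 ∨ g * U.iF ∈ U.Qa S.h8}
  one_mem' := Or.inl (one_mem _)
  mul_mem' := fun {g h} hg hh => by
    have hi2 := (U.flip_mul S.h8).2.1
    rcases hg with hg | hg <;> rcases hh with hh | hh
    · exact Or.inl (mul_mem hg hh)
    · exact Or.inr (by rw [mul_assoc]; exact mul_mem hg hh)
    · refine Or.inr ?_
      rw [show g * h * U.iF = g * 1 * h * U.iF by group, ← hi2,
        show g * (U.iF * U.iF) * h * U.iF = (g * U.iF) * (U.iF * h * U.iF) by group]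
      exact mul_mem hg (U.iF_conj S.h8 hh)
    · refine Or.inl ?_
      have h' := U.iF_conj S.h8 hh
      rw [mul_assoc U.iF, mul_assoc h, hi2, mul_one] at h'
      have := mul_mem hg h'
      rwa [mul_assoc g, ← mul_assoc U.iF, hi2, one_mul] at this
  inv_mem' := fun {g} hg => hg.imp inv_mem fun hg => by
    have := U.iF_conj S.h8 (inv_mem hg)
    rw [mul_inv_rev, U.iF_inv S.h8, show U.iF * (U.iF * g⁻¹) * U.iF = (U.iF * U.iF) * g⁻¹ * U.iF by group,
      (U.flip_mul S.h8).2.1, one_mul] at this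
    exact this

theorem iF_Ta : U.iF ∈ S.Ta := Or.inr (by rw [(U.flip_mul S.h8).2.1]; exact one_mem _)

theorem Ta_pgroup : IsPGroup 2 S.Ta := fun ⟨g, hg⟩ => by
  have hsq : g * g ∈ U.Qa S.h8 := by
    rcases hg with hg | hg
    · exact mul_mem hg hg
    · have := mul_mem hg (U.iF_conj S.h8 hg)
      rw [show g * U.iF * (U.iF * (g * U.iF) * U.iF) = g * (U.iF * U.iF) * g * (U.iF * U.iF) by group,
        (U.flip_mul S.h8).2.1, mul_one, mul_one] at this
      exact this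
  refine ⟨3, Subtype.ext ?_⟩
  show g ^ 2 ^ 3 = 1
  rw [show (2 : ℕ) ^ 3 = 2 * 4 by norm_num, pow_mul, pow_two]
  exact hsq.2

/-- The second quaternion group centralizes the first. -/
theorem comm_QQ : ∀ y ∈ U.Qa S.h8, ∀ z ∈ S.Qb, y * z = z * y := by
  classical
  haveI : Fact (Nat.Prime 2) := ⟨Nat.prime_two⟩
  obtain ⟨N, hND, hN, hNmem, -, hconj⟩ := S.exists_complement
  obtain ⟨hNQ, hWN⟩ := S.complement_le hND hN hNmem
  by_cases hbig : ∃ x ∈ N, x ≠ 1 ∧ x ≠ U.tq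
  · obtain ⟨x, hxN, hx1, hxt⟩ := hbig
    set A := N.map (MulAut.conj U.nF).toMonoidHom with hA
    have hnn := S.mem_Qb.mp (hNQ hxN)
    have hn2 := (U.flip_mul S.h8).1
    have hAm : ∀ {y : G}, y ∈ A ↔ U.nF * y * U.nF ∈ N := fun {y} => by
      constructor
      · rintro ⟨p, hp, rfl⟩
        show U.nF * (U.nF * p * U.nF⁻¹) * U.nF ∈ N
        rw [U.nF_inv S.h8, S.n_conj_conj]; exact hp
      · intro h
        exact ⟨_, h, by show U.nF * (U.nF * y * U.nF) * U.nF⁻¹ = y; rw [U.nF_inv S.h8, S.n_conj_conj]⟩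
    have hle : U.Qa S.h8 ≤ A := by
      refine U.Qa_le S.h8 (hAm.mpr ?_) hnn (hAm.mpr (by rw [S.n_conj_conj]; exact hxN)) ?_ ?_ (hAm.mpr ?_)
      · rw [(U.flip_tq S.h8).1, mul_assoc, hn2, mul_one]
        exact hNmem _ S.tq_mem_D (Nat.Coprime.coprime_dvd_left
          (orderOf_dvd_of_pow_eq_one (by rw [pow_two]; exact (U.tq_facts S.h8).2.1)) (by decide : Nat.Coprime 2 3))
      · exact fun e => hx1 (by rw [← S.n_conj_conj x, e, mul_one, hn2])
      · exact fun e => hxt (by rw [← S.n_conj_conj x, e, (U.flip_tq S.h8).1, mul_assoc, hn2, mul_one])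
      · have e9 : U.nF * U.ι 9 * U.nF = (U.ι 9)⁻¹ := by
          have := (U.flip_ι S.h8).2.2.1
          rwa [U.nF_inv S.h8] at this
        have e9' : U.nF * (U.ι 9)⁻¹ * U.nF = U.ι 9 := by
          conv_rhs => rw [← inv_inv (U.ι 9), ← e9]
          rw [mul_inv_rev, mul_inv_rev, U.nF_inv S.h8]; group
        rw [show U.nF * (U.ι 9 * (U.nF * x * U.nF) * (U.ι 9)⁻¹) * U.nF =
          (U.nF * U.ι 9 * U.nF) * x * (U.nF * (U.ι 9)⁻¹ * U.nF) by group, e9, e9']
        have h9 : U.ι 9 ∈ U.JC 432 :=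
          (U.mem_JC S.h8 (by norm_num) (by norm_num)).mpr (by decide +kernel)
        have := (Subgroup.mem_normalizer_iff.mp (hWN (inv_mem h9)) x).mp hxN
        rwa [inv_inv] at this
    intro y hy z hz
    have hzN : z ∈ N := by
      have := hAm.mp (hle (S.mem_Qb.mp hz))
      rwa [S.n_conj_conj] at this
    exact (S.mem_D.mp (hND hzN) y hy).symm
  exfalso
  push Not at hbig
  set C := Subgroup.centralizer ({U.tq} : Set G) with hC
  have hTC : S.Ta ≤ C := fun g hg => by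
    refine mem_centralizer_iff'.mpr ?_
    rcases hg with hg | hg
    · exact hg.1.2.1
    · have := ((show Commute (g * U.iF) U.tq from hg.1.2.1).mul_left (U.flip_tq S.h8).2.1).eq
      rwa [mul_assoc g, (U.flip_mul S.h8).2.1, mul_one] at this
  obtain ⟨T, hT⟩ := (S.Ta_pgroup.of_equiv (Subgroup.subgroupOfEquivOfLe hTC).symm).exists_le_sylow
  have hTT : (T : Subgroup C).map C.subtype = S.Ta := by
    have hTp := T.isPGroup'.map C.subtype
    by_contra hne
    obtain ⟨g, hgT, hgn, hgN⟩ : ∃ g ∈ (T : Subgroup C).map C.subtype, g ∉ S.Ta ∧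
        g ∈ Subgroup.normalizer (S.Ta : Set G) := by
      haveI := hTp.isNilpotent
      have hle : S.Ta ≤ (T : Subgroup C).map C.subtype := fun x hx => ⟨⟨x, hTC hx⟩, hT hx, rfl⟩
      have hlt : S.Ta.subgroupOf ((T : Subgroup C).map C.subtype) < ⊤ := lt_top_iff_ne_top.mpr fun e =>
        hne (le_antisymm (Subgroup.subgroupOf_eq_top.mp e) hle)
      obtain ⟨q, hqN, hqM⟩ := SetLike.exists_of_lt
        (Group.normalizerCondition_of_isNilpotent (S.Ta.subgroupOf ((T : Subgroup C).map C.subtype)) hlt)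
      exact ⟨q, q.2, hqM, mem_of_map_conj _ fun p hp =>
        (Subgroup.mem_normalizer_iff.mp hqN ⟨p, hle hp⟩).mp hp⟩
    have hgt : g * U.tq = U.tq * g := mem_centralizer_iff'.mp (Subgroup.map_subtype_le _ hgT)
    have hQ : ∀ {x : G}, x * U.tq = U.tq * x → x ∈ Subgroup.normalizer (S.Ta : Set G) →
        ∀ q ∈ U.Qa S.h8, x * q * x⁻¹ ∈ U.Qa S.h8 := by
      intro x hxt hxN q hq
      rcases ((U.Qa_two_els S.h8) hq).2 with h | h
      · rcases ((U.Qa_two_els S.h8) hq).1 h with rfl | rfl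
        · simp
        · rw [hxt, mul_inv_cancel_right]; exact U.tq_mem_Qa S.h8
      · refine S.root_mem ((Subgroup.mem_normalizer_iff.mp hxN q).mp (Or.inl hq)) ?_
        rw [conj_mul, h, hxt, mul_inv_cancel_right]
    have hgD : g * X.a * g⁻¹ ∈ S.D := S.D_conj (fun q hq => by
      have := hQ (Commute.inv_left hgt).eq (inv_mem hgN) q hq
      rwa [inv_inv] at this) S.a_mem_D
    obtain ⟨c, hc, k, e⟩ := hconj _ hgD (by
      rw [show g * X.a * g⁻¹ = MulAut.conj g X.a from rfl, MulEquiv.orderOf_eq, X.ha])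
    have hca : Commute c X.a := by
      rcases eq_or_ne c 1 with rfl | h1
      · exact Commute.one_left _
      · rw [hbig c hc h1]; exact X.a_comm (U.tq_facts S.h8).1
    rw [(hca.pow_right k).eq, mul_inv_cancel_right] at e
    refine hgn (S.mem_ext hTp ⟨⟨U.iF, hTC S.iF_Ta⟩, hT S.iF_Ta, rfl⟩ hgT hgt
      (S.conj_zpowers ?_))
    rw [e]; exact pow_mem (Subgroup.mem_zpowers _) k
  -- the four-group
  obtain ⟨hnt, hit, hdt⟩ := U.flip_tq S.h8
  obtain ⟨hn2, hi2, hd2, hni, hin, -⟩ := U.flip_mul S.h8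
  let V : Subgroup G := Subgroup.zpowers U.nF ⊔ Subgroup.zpowers U.iF
  have hVC : V ≤ C := sup_le (Subgroup.zpowers_le.mpr (mem_centralizer_iff'.mpr hnt))
    (Subgroup.zpowers_le.mpr (mem_centralizer_iff'.mpr hit))
  have hVp : IsPGroup 2 V := by
    refine IsPGroup.to_sup_of_normal_right' (IsPGroup.of_card (n := 1) ?_) (IsPGroup.of_card (n := 1) ?_) ?_
    · rw [Nat.card_zpowers, orderOf_eq_prime (by rw [pow_two]; exact hn2) (U.flip_ne S.h8).1.1, pow_one]
    · rw [Nat.card_zpowers, orderOf_eq_prime (by rw [pow_two]; exact hi2) (U.flip_ne S.h8).2.1.1, pow_one]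
    · refine Subgroup.zpowers_le.mpr (mem_of_map_conj _ fun p hp => ?_)
      obtain ⟨j, rfl⟩ := Subgroup.mem_zpowers_iff.mp hp
      rw [← conj_zpow, show U.nF * U.iF * U.nF⁻¹ = U.iF by rw [hni, ← hin, mul_inv_cancel_right]]
      exact Subgroup.zpow_mem_zpowers _ j
  obtain ⟨R, hR⟩ := (hVp.of_equiv (Subgroup.subgroupOfEquivOfLe hVC).symm).exists_le_sylow
  obtain ⟨h, hh⟩ := MulAction.exists_smul_eq C R T
  have img : ∀ {x : G}, x ∈ V → (h : G) * x * (h : G)⁻¹ ∈ S.Ta := fun {x} hx => by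
    rw [← hTT]
    refine ⟨h * ⟨x, hVC hx⟩ * h⁻¹, ?_, rfl⟩
    rw [← hh, Sylow.coe_subgroup_smul]
    exact ⟨⟨x, hVC hx⟩, hR hx, rfl⟩
  have hht : (h : G) * U.tq = U.tq * h := mem_centralizer_iff'.mp h.2
  have bad : ∀ {x : G}, x * x = 1 → x ≠ 1 → x ≠ U.tq → (h : G) * x * (h : G)⁻¹ ∈ U.Qa S.h8 → False := by
    intro x hx2 hx1 hxt hQ
    rcases ((U.Qa_two_els S.h8) hQ).1 (by rw [conj_mul, hx2, mul_one, mul_inv_cancel]) with e | e
    · exact hx1 (conj_eq_one_iff.mp e)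
    · exact hxt (mul_left_cancel ((mul_inv_eq_iff_eq_mul.mp e).trans hht.symm))
  have hnV : U.nF ∈ V := Subgroup.mem_sup_left (Subgroup.mem_zpowers _)
  have hiV : U.iF ∈ V := Subgroup.mem_sup_right (Subgroup.mem_zpowers _)
  obtain ⟨⟨n1, nt⟩, ⟨i1, it⟩, d1, dt⟩ := U.flip_ne S.h8
  rcases img hnV with hn | hn
  · exact bad hn2 n1 nt hn
  rcases img hiV with hi | hi
  · exact bad hi2 i1 it hi
  refine bad hd2 d1 dt ?_
  rw [← hni, ← conj_mul]
  have h' := mul_mem hn (U.iF_conj S.h8 hi)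
  rw [show (h : G) * U.nF * (h : G)⁻¹ * U.iF * (U.iF * ((h : G) * U.iF * (h : G)⁻¹ * U.iF) * U.iF) =
      (h : G) * U.nF * (h : G)⁻¹ * (U.iF * U.iF) * ((h : G) * U.iF * (h : G)⁻¹) * (U.iF * U.iF) by group,
    hi2, mul_one, mul_one] at h'
  exact h'

end Small

end CfsgLib.PSpFourThree
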