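import Cfsg.Agent.Lib.PSpFourThree.Eight.SmallSplit
import Cfsg.Agent.Lib.Coprime.Action

/-!
The small case: a Sylow two-subgroup and the involutions of the product of the quaternion groups.
-/

set_option autoImplicit false
set_option maxRecDepth 20000
set_option linter.style.haveILetI false
set_option linter.unusedSectionVars false

namespace CfsgLib.PSpFourThree

open CfsgLib.SymNineThree CfsgLib.SymNineThree.Mon CfsgLib.PSpFourLocal

attribute [local instance 2000] List.decidableBAll List.decidableBEx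

theorem q8_anti : ∀ u : S23, q4 u → ∀ v : S23, q4 v → u * v ≠ v * u → u * v * u⁻¹ = -1 * v := by
  decide +kernel

universe u

variable {G : Type u} [Group G] [Finite G] {X : Ctx G}

namespace Small

variable {U : Coord X} (S : Small U)

include S

theorem cent_Qab {y : G} (hy : y ∈ U.Qa S.h8) (hy' : y ∈ S.Qb) : y = 1 ∨ y = U.tq := by
  by_contra hne
  push Not at hne
  exact U.Qa_noncomm S.h8 hy hne.1 hne.2 (S.comm_QQ _ (U.nine_conj S.h8 hy) _ hy').symm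

theorem root_ne {y : G} (h : y * y = U.tq) : ¬ (y = 1 ∨ y = U.tq) := fun h' =>
  (U.tq_facts S.h8).2.2.1 (h.symm.trans (U.tq_ne_sq S.h8 h'))

theorem n_hom (p q : G) : U.nF * (p * q) * U.nF = U.nF * p * U.nF * (U.nF * q * U.nF) := by
  calc U.nF * (p * q) * U.nF = U.nF * p * (U.nF * U.nF) * q * U.nF := by
        rw [(U.flip_mul S.h8).1]; group
    _ = _ := by group

theorem iF_Qb {z : G} (hz : z ∈ S.Qb) : U.iF * z * U.iF ∈ S.Qb := by
  refine S.mem_Qb.mpr ?_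
  obtain ⟨-, -, -, hni, hin, -⟩ := U.flip_mul S.h8
  rw [show U.nF * (U.iF * z * U.iF) * U.nF = (U.nF * U.iF) * z * (U.iF * U.nF) by group]
  rw [hni, hin]
  nth_rewrite 1 [← hin]
  rw [← hni, show U.iF * U.nF * z * (U.nF * U.iF) = U.iF * (U.nF * z * U.nF) * U.iF by group]
  exact U.iF_conj S.h8 (S.mem_Qb.mp hz)

theorem Qb_sq {z : G} (hz : z ∈ S.Qb) :
    (z * z = 1 → z = 1 ∨ z = U.tq) ∧ (z * z = 1 ∨ z * z = U.tq) := by
  have hn := S.mem_Qb.mp hz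
  have hnt : U.nF * U.tq * U.nF = U.tq := by
    rw [(U.flip_tq S.h8).1, mul_assoc, (U.flip_mul S.h8).1, mul_one]
  have hn1 : U.nF * 1 * U.nF = 1 := by rw [mul_one, (U.flip_mul S.h8).1]
  refine ⟨fun h => ?_, ?_⟩
  · have h' : U.nF * z * U.nF * (U.nF * z * U.nF) = 1 := by rw [← S.n_hom, h, hn1]
    rcases ((U.Qa_two_els S.h8) hn).1 h' with e | e
    · exact Or.inl (by rw [← S.n_conj_conj z, e, hn1])
    · exact Or.inr (by rw [← S.n_conj_conj z, e, hnt])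
  · refine ((U.Qa_two_els S.h8) hn).2.imp (fun e => ?_) (fun e => ?_) <;> rw [← S.n_hom] at e <;>
      rw [← S.n_conj_conj (z * z), e]
    exacts [hn1, hnt]

/-- The central product of the quaternion groups. -/
noncomputable def QQ : Subgroup G where
  carrier := {g | ∃ y ∈ U.Qa S.h8, ∃ z ∈ S.Qb, g = y * z}
  one_mem' := ⟨1, one_mem _, 1, one_mem _, (mul_one _).symm⟩
  mul_mem' := by
    rintro _ _ ⟨y, hy, z, hz, rfl⟩ ⟨y', hy', z', hz', rfl⟩
    exact ⟨y * y', mul_mem hy hy', z * z', mul_mem hz hz',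
      (show Commute z y' from (S.comm_QQ y' hy' z hz).symm).mul_mul_mul_comm y z'⟩
  inv_mem' := by
    rintro _ ⟨y, hy, z, hz, rfl⟩
    exact ⟨y⁻¹, inv_mem hy, z⁻¹, inv_mem hz, by
      rw [S.comm_QQ y hy z hz, mul_inv_rev]⟩

theorem Qa_le_QQ : U.Qa S.h8 ≤ S.QQ := fun y hy => ⟨y, hy, 1, one_mem _, (mul_one _).symm⟩

theorem Qb_le_QQ : S.Qb ≤ S.QQ := fun z hz => ⟨1, one_mem _, z, hz, (one_mul _).symm⟩

theorem card_Qa : Nat.card (U.Qa S.h8) = 8 := by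
  have h : Nat.card {u : S23 // q4 u} = 8 := by
    rw [Nat.card_eq_fintype_card, ← q8_basic.2.2]
    exact Fintype.card_of_subtype _ (fun u => by simp)
  rw [← h]
  refine Nat.card_congr (Equiv.ofBijective (fun g : U.Qa S.h8 => (⟨X.f g, g.2.1.2.2⟩ : {u : S23 // q4 u}))
    ⟨fun p q e => Subtype.ext (U.Qa_inj S.h8 p.2 q.2 (congrArg Subtype.val e)), fun u => ?_⟩)
  obtain ⟨g, hg, e⟩ := U.Qa_surj S.h8 u.2
  exact ⟨⟨g, hg⟩, Subtype.ext e⟩

theorem card_QQ : Nat.card S.QQ = 32 := by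
  have hle : S.Qb ≤ Subgroup.normalizer (U.Qa S.h8 : Set G) := fun z hz => mem_of_map_conj _ fun y hy => by
    rw [← S.comm_QQ y hy z hz, mul_inv_cancel_right]; exact hy
  have e : U.Qa S.h8 ⊔ S.Qb = S.QQ := le_antisymm (sup_le S.Qa_le_QQ S.Qb_le_QQ) (by
    rintro _ ⟨y, hy, z, hz, rfl⟩
    exact mul_mem (Subgroup.mem_sup_left hy) (Subgroup.mem_sup_right hz))
  have e2 : U.Qa S.h8 ⊓ S.Qb = Subgroup.zpowers U.tq := le_antisymm (fun y hy => by
      rcases S.cent_Qab hy.1 hy.2 with rfl | rfl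
      · exact one_mem _
      · exact Subgroup.mem_zpowers _)
    (Subgroup.zpowers_le.mpr ⟨U.tq_mem_Qa S.h8, S.tq_Qb⟩)
  have h := CfsgLib.Coprime.card_sup_mul_card_inf (K := U.Qa S.h8) (S := S.Qb) hle
  rw [e, e2, Nat.card_zpowers, orderOf_eq_prime (p := 2) (by rw [pow_two]; exact (U.tq_facts S.h8).2.1)
    (U.tq_facts S.h8).2.2.1, Qb, Subgroup.card_map_of_injective (MulAut.conj U.nF).injective, S.card_Qa] at h
  omega

/-- Involutions exchanging the quaternion groups. -/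
def Swap (σ : G) : Prop :=
  σ * σ = 1 ∧ σ * U.tq = U.tq * σ ∧ (∀ y ∈ U.Qa S.h8, σ * y * σ ∈ S.Qb) ∧ ∀ z ∈ S.Qb, σ * z * σ ∈ U.Qa S.h8

theorem swap_n : S.Swap U.nF :=
  ⟨(U.flip_mul S.h8).1, (U.flip_tq S.h8).1, fun _ hy => S.nn_Qb hy, fun _ hz => S.mem_Qb.mp hz⟩

theorem swap_d : S.Swap U.dF := by
  obtain ⟨-, -, hd2, hni, hin, -⟩ := U.flip_mul S.h8
  refine ⟨hd2, (U.flip_tq S.h8).2.2, fun y hy => ?_, fun z hz => ?_⟩
  · nth_rewrite 1 [← hni]
    rw [← hin, show U.nF * U.iF * y * (U.iF * U.nF) = U.nF * (U.iF * y * U.iF) * U.nF by group]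
    exact S.nn_Qb (U.iF_conj S.h8 hy)
  · nth_rewrite 1 [← hin]
    rw [← hni, show U.iF * U.nF * z * (U.nF * U.iF) = U.iF * (U.nF * z * U.nF) * U.iF by group]
    exact U.iF_conj S.h8 (S.mem_Qb.mp hz)

/-- The four-group. -/
noncomputable def VV : Subgroup G where
  carrier := {g | g = 1 ∨ g = U.nF ∨ g = U.iF ∨ g = U.dF}
  one_mem' := Or.inl rfl
  mul_mem' := fun {g h} hg hh => by
    obtain ⟨hn2, hi2, hd2, hni, hin, -⟩ := U.flip_mul S.h8
    have e1 : U.nF * U.dF = U.iF := by rw [← hni, ← mul_assoc, hn2, one_mul]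
    have e2 : U.dF * U.nF = U.iF := by rw [← hin, mul_assoc, hn2, mul_one]
    have e3 : U.iF * U.dF = U.nF := by rw [← hin, ← mul_assoc, hi2, one_mul]
    have e4 : U.dF * U.iF = U.nF := by rw [← hni, mul_assoc, hi2, mul_one]
    rcases hg with rfl | rfl | rfl | rfl <;> rcases hh with rfl | rfl | rfl | rfl <;>
      simp [hn2, hi2, hd2, hni, hin, e1, e2, e3, e4]
  inv_mem' := fun {g} hg => by
    obtain ⟨hn2, hi2, hd2, -⟩ := U.flip_mul S.h8
    rcases hg with rfl | rfl | rfl | rfl <;>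
      simp [inv_eq_of_mul_eq_one_right hn2, inv_eq_of_mul_eq_one_right hi2, inv_eq_of_mul_eq_one_right hd2]

theorem VV_norm : S.VV ≤ Subgroup.normalizer (S.QQ : Set G) := by
  have hsw : ∀ {σ : G}, S.Swap σ → σ ∈ Subgroup.normalizer (S.QQ : Set G) := fun {σ} hσ =>
    mem_of_map_conj _ fun x hx => by
      obtain ⟨h2, -, hab, hba⟩ := hσ
      obtain ⟨y, hy, z, hz, rfl⟩ := hx
      rw [inv_eq_of_mul_eq_one_right h2, show σ * (y * z) * σ = σ * y * 1 * z * σ by group, ← h2,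
        show σ * y * (σ * σ) * z * σ = (σ * y * σ) * (σ * z * σ) by group]
      exact mul_mem (S.Qb_le_QQ (hab y hy)) (S.Qa_le_QQ (hba z hz))
  intro g hg
  rcases hg with rfl | rfl | rfl | rfl
  · exact one_mem _
  · exact hsw S.swap_n
  · refine mem_of_map_conj _ fun x hx => ?_
    obtain ⟨y, hy, z, hz, rfl⟩ := hx
    rw [U.iF_inv S.h8, U.iF_conj_mul S.h8]
    exact mul_mem (S.Qa_le_QQ (U.iF_conj S.h8 hy)) (S.Qb_le_QQ (S.iF_Qb hz))
  · exact hsw S.swap_d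

theorem swap_not_mem {σ : G} (hσ : S.Swap σ) : σ ∉ S.QQ := by
  obtain ⟨h2, -, hab, -⟩ := hσ
  rintro ⟨y, hy, z, hz, e⟩
  obtain ⟨r, hr, hr2⟩ := U.Qa_root S.h8
  refine S.root_ne hr2 ?_
  have h := hab r hr
  nth_rewrite 2 [← inv_eq_of_mul_eq_one_right h2] at h
  rw [e, mul_inv_rev, show y * z * r * (z⁻¹ * y⁻¹) = y * (z * r * z⁻¹) * y⁻¹ by group,
    ← S.comm_QQ r hr z hz, mul_inv_cancel_right] at h
  rcases S.cent_Qab (mul_mem (mul_mem hy hr) (inv_mem hy)) h with h' | h'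
  · exact Or.inl (conj_eq_one_iff.mp h')
  · refine Or.inr ?_
    have := mul_inv_eq_iff_eq_mul.mp h'
    rw [← (show Commute y U.tq from hy.1.2.1).eq] at this
    exact mul_left_cancel this

theorem iF_not_mem : U.iF ∉ S.QQ := by
  rintro ⟨y, hy, z, hz, e⟩
  refine U.iF_no_cent S.h8 (inv_mem hy) fun r hr => ?_
  rw [show y⁻¹ * U.iF = z by rw [e, inv_mul_cancel_left]]
  exact (S.comm_QQ r hr z hz).symm

/-- The two-subgroup of order 128. -/
noncomputable def T7 : Subgroup G := S.QQ ⊔ S.VV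

theorem QQ_le_T7 : S.QQ ≤ S.T7 := le_sup_left

theorem VV_le_T7 : S.VV ≤ S.T7 := le_sup_right

theorem n_T7 : U.nF ∈ S.T7 := S.VV_le_T7 (Or.inr (Or.inl rfl))

theorem i_T7 : U.iF ∈ S.T7 := S.VV_le_T7 (Or.inr (Or.inr (Or.inl rfl)))

theorem d_T7 : U.dF ∈ S.T7 := S.VV_le_T7 (Or.inr (Or.inr (Or.inr rfl)))

theorem tq_T7 : U.tq ∈ S.T7 := S.QQ_le_T7 (S.Qa_le_QQ (U.tq_mem_Qa S.h8))

theorem T7_dec {g : G} (hg : g ∈ S.T7) : ∃ q ∈ S.QQ, ∃ v ∈ S.VV, g = q * v := by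
  rw [← SetLike.mem_coe, T7, Subgroup.coe_mul_of_right_le_normalizer_left _ _ S.VV_norm] at hg
  obtain ⟨q, hq, v, hv, rfl⟩ := hg
  exact ⟨q, hq, v, hv, rfl⟩

theorem card_T7 : Nat.card S.T7 = 128 := by
  classical
  obtain ⟨⟨n1, nt⟩, ⟨i1, it⟩, d1, dt⟩ := U.flip_ne S.h8
  obtain ⟨hn2, hi2, hd2, hni, hin, -⟩ := U.flip_mul S.h8
  have h := CfsgLib.Coprime.card_sup_mul_card_inf (K := S.QQ) (S := S.VV) S.VV_norm
  have e : S.QQ ⊓ S.VV = ⊥ := le_bot_iff.mp fun g hg => by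
    rcases hg.2 with rfl | rfl | rfl | rfl
    · exact one_mem _
    · exact absurd hg.1 (S.swap_not_mem S.swap_n)
    · exact absurd hg.1 S.iF_not_mem
    · exact absurd hg.1 (S.swap_not_mem S.swap_d)
  have hni' : U.nF ≠ U.iF := fun e => d1 (by rw [← hni, ← e, hn2])
  have hnd : U.nF ≠ U.dF := fun e => i1 (by
    calc U.iF = U.nF * (U.nF * U.iF) := by rw [← mul_assoc, hn2, one_mul]
      _ = 1 := by rw [hni, ← e, hn2])
  have hid : U.iF ≠ U.dF := fun e => n1 (by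
    calc U.nF = U.iF * (U.iF * U.nF) := by rw [← mul_assoc, hi2, one_mul]
      _ = 1 := by rw [hin, ← e, hi2])
  have hV : Nat.card S.VV = 4 := by
    show Nat.card (({g | g = 1 ∨ g = U.nF ∨ g = U.iF ∨ g = U.dF} : Set G)) = 4
    rw [Nat.card_coe_set_eq, show ({g | g = 1 ∨ g = U.nF ∨ g = U.iF ∨ g = U.dF} : Set G) =
      {1, U.nF, U.iF, U.dF} by ext; simp,
      Set.ncard_insert_of_notMem (by simp [Ne.symm n1, Ne.symm i1, Ne.symm d1]),
      Set.ncard_insert_of_notMem (by simp [hni', hnd]), Set.ncard_pair hid]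
  rw [e, Subgroup.card_bot, mul_one, S.card_QQ, hV] at h
  exact h

theorem T7_pgroup : IsPGroup 2 S.T7 := IsPGroup.of_card (n := 7) (by rw [S.card_T7]; norm_num)

theorem T7_cent : S.T7 ≤ Subgroup.centralizer ({U.tq} : Set G) := by
  refine sup_le ?_ ?_
  · rintro _ ⟨y, hy, z, hz, rfl⟩
    refine mem_centralizer_iff'.mpr ((Commute.mul_left (show Commute y U.tq from hy.1.2.1) ?_).eq)
    exact (S.comm_QQ _ (U.tq_mem_Qa S.h8) z hz).symm
  · intro g hg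
    obtain ⟨hnt, hit, hdt⟩ := U.flip_tq S.h8
    rcases hg with rfl | rfl | rfl | rfl
    · exact one_mem _
    · exact mem_centralizer_iff'.mpr hnt
    · exact mem_centralizer_iff'.mpr hit
    · exact mem_centralizer_iff'.mpr hdt

/-- Roots of the central involution. -/
theorem root_cases {w : G} (hw : w ∈ S.T7) (h2 : w * w = U.tq) : w ∈ U.Qa S.h8 ∨ w ∈ S.Qb := by
  obtain ⟨q, ⟨y, hy, z, hz, rfl⟩, v, hv, rfl⟩ := S.T7_dec hw
  obtain ⟨-, ht2, ht1, -, -⟩ := U.tq_facts S.h8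
  have hswap : ∀ {σ : G}, S.Swap σ → y * z * σ * (y * z * σ) ≠ U.tq := by
    rintro σ ⟨hσ2, hσt, hab, hba⟩ h
    set w := y * (σ * z * σ) with hw
    have hwQ : w ∈ U.Qa S.h8 := mul_mem hy (hba z hz)
    have hz' : z * (σ * y * σ) ∈ S.Qb := mul_mem hz (hab y hy)
    have e : y * z * σ * (y * z * σ) = w * (z * (σ * y * σ)) := by
      calc y * z * σ * (y * z * σ) = y * (z * ((σ * y * 1 * z * σ))) := by group
        _ = y * (z * ((σ * y * σ) * (σ * z * σ))) := by rw [← hσ2]; group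
        _ = y * ((σ * z * σ) * (z * (σ * y * σ))) := by
          rw [← mul_assoc z, S.comm_QQ _ (hba z hz) _ hz']
        _ = _ := by rw [hw, mul_assoc y]
    rw [e] at h
    have hwb : w ∈ S.Qb := by
      rw [eq_mul_inv_of_mul_eq h]; exact mul_mem S.tq_Qb (inv_mem hz')
    have hwc := S.cent_Qab hwQ hwb
    have hcy : Commute w y := by
      rcases hwc with e | e <;> rw [e]
      · exact Commute.one_left y
      · exact (show Commute y U.tq from hy.1.2.1).symm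
    have hσw : σ * w * σ = w := by
      rcases hwc with e | e <;> rw [e]
      · rw [mul_one, hσ2]
      · rw [hσt, mul_assoc, hσ2, mul_one]
    have e2 : z * (σ * y * σ) = σ * (y⁻¹ * w * y) * σ := by
      calc z * (σ * y * σ) = (σ * σ) * z * (σ * y * σ) := by rw [hσ2, one_mul]
        _ = σ * (σ * z * σ * y) * σ := by group
        _ = _ := by rw [hw]; group
    rw [e2, mul_assoc y⁻¹, hcy.eq, inv_mul_cancel_left, hσw] at h
    exact ht1 (h.symm.trans (U.tq_ne_sq S.h8 hwc))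
  rcases hv with rfl | rfl | rfl | rfl
  · rw [mul_one] at h2 ⊢
    rw [(show Commute z y from (S.comm_QQ y hy z hz).symm).mul_mul_mul_comm y z] at h2
    rcases ((U.Qa_two_els S.h8) hy).2 with ey | ey
    · refine Or.inr ?_
      rcases ((U.Qa_two_els S.h8) hy).1 ey with rfl | rfl
      · rw [one_mul]; exact hz
      · exact mul_mem S.tq_Qb hz
    · refine Or.inl ?_
      rw [ey, mul_eq_left] at h2
      rcases (S.Qb_sq hz).1 h2 with rfl | rfl
      · rw [mul_one]; exact hy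
      · exact mul_mem hy (U.tq_mem_Qa S.h8)
  · exact absurd h2 (hswap S.swap_n)
  · exfalso
    set P := y * U.iF * (y * U.iF) with hP
    set R := z * U.iF * (z * U.iF) with hR
    have hPQ : P ∈ U.Qa S.h8 := by
      rw [hP, show y * U.iF * (y * U.iF) = y * (U.iF * y * U.iF) by group]
      exact mul_mem hy (U.iF_conj S.h8 hy)
    have hRQ : R ∈ S.Qb := by
      rw [hR, show z * U.iF * (z * U.iF) = z * (U.iF * z * U.iF) by group]
      exact mul_mem hz (S.iF_Qb hz)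
    have e : y * z * U.iF * (y * z * U.iF) = P * R := by
      calc y * z * U.iF * (y * z * U.iF) = y * (z * (U.iF * (y * z) * U.iF)) := by group
        _ = y * ((z * (U.iF * y * U.iF)) * (U.iF * z * U.iF)) := by rw [U.iF_conj_mul S.h8]; group
        _ = y * (((U.iF * y * U.iF) * z) * (U.iF * z * U.iF)) := by
          rw [← S.comm_QQ _ (U.iF_conj S.h8 hy) z hz]
        _ = _ := by rw [hP, hR]; group
    rw [e] at h2
    have hPb : P ∈ S.Qb := by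
      rw [eq_mul_inv_of_mul_eq h2]; exact mul_mem S.tq_Qb (inv_mem hRQ)
    rcases S.cent_Qab hPQ hPb with h | h
    · rw [h, one_mul] at h2
      refine U.iF_mul_sq S.h8 (S.mem_Qb.mp hz) ?_
      have e2 : U.nF * z * U.nF * U.iF = U.nF * (z * U.iF) * U.nF := by
        rw [mul_assoc (U.nF * z), show U.nF * U.iF = U.iF * U.nF from
          (U.flip_mul S.h8).2.2.2.1.trans (U.flip_mul S.h8).2.2.2.2.1.symm]
        group
      rw [e2, ← S.n_hom, ← hR, h2, (U.flip_tq S.h8).1, mul_assoc, (U.flip_mul S.h8).1, mul_one]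
    · exact U.iF_mul_sq S.h8 hy h
  · exact absurd h2 (hswap S.swap_d)

/-- The subgroup is a Sylow subgroup of the centralizer of the involution. -/
theorem T7_max {T : Subgroup G} (hT : IsPGroup 2 T) (hle : S.T7 ≤ T)
    (hC : T ≤ Subgroup.centralizer ({U.tq} : Set G)) : T = S.T7 := by
  classical
  haveI : Fact (Nat.Prime 2) := ⟨Nat.prime_two⟩
  by_contra hne
  obtain ⟨g, hgT, hgn, hgN⟩ : ∃ g ∈ T, g ∉ S.T7 ∧ g ∈ Subgroup.normalizer (S.T7 : Set G) := by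
    haveI := hT.isNilpotent
    have hlt : S.T7.subgroupOf T < ⊤ := lt_top_iff_ne_top.mpr fun e =>
      hne (le_antisymm (Subgroup.subgroupOf_eq_top.mp e) hle)
    obtain ⟨q, hqN, hqM⟩ := SetLike.exists_of_lt
      (Group.normalizerCondition_of_isNilpotent (S.T7.subgroupOf T) hlt)
    exact ⟨q, q.2, hqM, mem_of_map_conj _ fun p hp => (Subgroup.mem_normalizer_iff.mp hqN ⟨p, hle hp⟩).mp hp⟩
  have hgt : g * U.tq = U.tq * g := mem_centralizer_iff'.mp (hC hgT)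
  have hroot : ∀ {r : G}, r ∈ S.T7 → r * r = U.tq → g * r * g⁻¹ ∈ U.Qa S.h8 ∨ g * r * g⁻¹ ∈ S.Qb :=
    fun hr hr2 => S.root_cases ((Subgroup.mem_normalizer_iff.mp hgN _).mp hr)
      (by rw [conj_mul, hr2, hgt, mul_inv_cancel_right])
  obtain ⟨r, hr, hr2⟩ := U.Qa_root S.h8
  set r' := U.ι 9 * r * (U.ι 9)⁻¹ with hr'
  have hrQ' : r' ∈ U.Qa S.h8 := U.nine_conj S.h8 hr
  have hr'2 : r' * r' = U.tq := by
    rw [hr', conj_mul, hr2, (U.nine_facts S.h8).2.1, mul_inv_cancel_right]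
  have hrn : r ≠ 1 ∧ r ≠ U.tq := ⟨fun e => S.root_ne hr2 (Or.inl e), fun e => S.root_ne hr2 (Or.inr e)⟩
  have hnc := U.Qa_noncomm S.h8 hr hrn.1 hrn.2
  have side : ∀ {A : Subgroup G}, U.tq ∈ A → g * r * g⁻¹ ∈ A → g * r' * g⁻¹ ∈ A →
      ∀ q ∈ U.Qa S.h8, g * q * g⁻¹ ∈ A := fun {A} htA h1 h2 => by
    have := U.Qa_le S.h8 (A := A.comap (MulAut.conj g).toMonoidHom)
      (show g * U.tq * g⁻¹ ∈ A by rw [hgt, mul_inv_cancel_right]; exact htA) hr h1 hrn.1 hrn.2 h2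
    exact fun q hq => this hq
  have hdiff : ∀ {p q : G}, p ∈ U.Qa S.h8 → q ∈ S.Qb → g * r * g⁻¹ = p → g * r' * g⁻¹ = q → False := by
    intro p q hp hq e1 e2
    refine hnc ?_
    have h := S.comm_QQ p hp q hq
    rw [← e1, ← e2, conj_mul, conj_mul] at h
    exact mul_left_cancel (mul_right_cancel h)
  have hdiff' : ∀ {p q : G}, p ∈ U.Qa S.h8 → q ∈ S.Qb → g * r' * g⁻¹ = p → g * r * g⁻¹ = q → False := by
    intro p q hp hq e1 e2
    refine hnc ?_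
    have h := S.comm_QQ p hp q hq
    rw [← e1, ← e2, conj_mul, conj_mul] at h
    exact (mul_left_cancel (mul_right_cancel h)).symm
  have hrT := S.QQ_le_T7 (S.Qa_le_QQ hr)
  have hrT' := S.QQ_le_T7 (S.Qa_le_QQ hrQ')
  obtain ⟨g', hg'T, hg'n, hg't, hg'Q⟩ : ∃ g' ∈ T, (g' ∈ S.T7 → False) ∧ g' * U.tq = U.tq * g' ∧
      ∀ q ∈ U.Qa S.h8, g' * q * g'⁻¹ ∈ U.Qa S.h8 := by
    rcases hroot hrT hr2 with h1 | h1 <;> rcases hroot hrT' hr'2 with h2 | h2
    · exact ⟨g, hgT, hgn, hgt, side (U.tq_mem_Qa S.h8) h1 h2⟩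
    · exact (hdiff h1 h2 rfl rfl).elim
    · exact (hdiff' h2 h1 rfl rfl).elim
    · refine ⟨U.nF * g, mul_mem (hle S.n_T7) hgT, fun h => hgn ?_,
        ((show Commute U.nF U.tq from (U.flip_tq S.h8).1).mul_left hgt).eq, fun q hq => ?_⟩
      · rw [show g = U.nF⁻¹ * (U.nF * g) by group]; exact mul_mem (inv_mem S.n_T7) h
      · rw [mul_inv_rev, show U.nF * g * q * (g⁻¹ * U.nF⁻¹) = U.nF * (g * q * g⁻¹) * U.nF⁻¹ by group,
          U.nF_inv S.h8]
        exact S.mem_Qb.mp (side S.tq_Qb h1 h2 q hq)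
  obtain ⟨N, hND, hN, hNmem, -, hconj⟩ := S.exists_complement
  obtain ⟨hNQ, -⟩ := S.complement_le hND hN hNmem
  have hgD : g' * X.a * g'⁻¹ ∈ S.D := S.D_conj (fun q hq =>
    (Subgroup.mem_normalizer_iff''.mp (mem_of_map_conj _ hg'Q) q).mp hq) S.a_mem_D
  obtain ⟨c, hc, k, e⟩ := hconj _ hgD (by
    rw [show g' * X.a * g'⁻¹ = MulAut.conj g' X.a from rfl, MulEquiv.orderOf_eq, X.ha])
  have hcT : c ∈ S.T7 := S.QQ_le_T7 (S.Qb_le_QQ (hNQ hc))
  have hct : c * U.tq = U.tq * c := mem_centralizer_iff'.mp (S.T7_cent hcT)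
  rcases S.mem_ext hT (hle S.i_T7) (g := c⁻¹ * g') (mul_mem (inv_mem (hle hcT)) hg'T)
      ((Commute.inv_left hct).mul_left hg't).eq (S.conj_zpowers (by
        rw [mul_inv_rev, inv_inv, show c⁻¹ * g' * X.a * (g'⁻¹ * c) = c⁻¹ * (g' * X.a * g'⁻¹) * c by group,
          e, show c⁻¹ * (c * X.a ^ k * c⁻¹) * c = X.a ^ k by group]
        exact pow_mem (Subgroup.mem_zpowers _) k)) with h | h
  · refine hg'n ?_
    rw [show g' = c * (c⁻¹ * g') by group]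
    exact mul_mem hcT (S.QQ_le_T7 (S.Qa_le_QQ h))
  · refine hg'n ?_
    rw [show g' = c * (c⁻¹ * g' * U.iF * U.iF⁻¹) by group]
    exact mul_mem hcT (mul_mem (S.QQ_le_T7 (S.Qa_le_QQ h)) (inv_mem S.i_T7))

/-- The centre has order two. -/
theorem T7_center {z : G} (hz : z ∈ S.T7) (hc : ∀ g ∈ S.T7, g * z = z * g) : z = 1 ∨ z = U.tq := by
  obtain ⟨q, ⟨y, hy, z', hz', rfl⟩, v, hv, rfl⟩ := S.T7_dec hz
  obtain ⟨r, hr, hr2⟩ := U.Qa_root S.h8
  have hcom : ∀ p ∈ U.Qa S.h8, p * (y * z' * v) = y * z' * v * p := fun p hp =>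
    hc p (S.QQ_le_T7 (S.Qa_le_QQ hp))
  have hswap : ∀ {σ : G}, S.Swap σ → v = σ → False := by
    rintro σ ⟨h2, -, hab, -⟩ e'
    subst v
    have hz2 : σ * r * σ ∈ S.Qb := hab r hr
    have e : σ * r * σ⁻¹ = σ * r * σ := by rw [inv_eq_of_mul_eq_one_right h2]
    have h : r = y * z' * σ * r * (y * z' * σ)⁻¹ := by rw [← hcom r hr, mul_inv_cancel_right]
    have h' : r ∈ S.Qb := by
      rw [h, show y * z' * σ * r * (y * z' * σ)⁻¹ = y * (z' * (σ * r * σ⁻¹) * z'⁻¹) * y⁻¹ by group, e,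
        S.comm_QQ y hy _ (mul_mem (mul_mem hz' hz2) (inv_mem hz')), mul_inv_cancel_right]
      exact mul_mem (mul_mem hz' hz2) (inv_mem hz')
    exact S.root_ne hr2 (S.cent_Qab hr h')
  rcases hv with rfl | rfl | rfl | rfl
  · rw [mul_one] at hcom ⊢
    have hyc : y = 1 ∨ y = U.tq := by
      by_contra hne
      push Not at hne
      refine U.Qa_noncomm S.h8 hy hne.1 hne.2 ?_
      have hp := U.nine_conj S.h8 hy
      have h := hcom _ hp
      rw [mul_assoc y, ← S.comm_QQ _ hp z' hz', ← mul_assoc, ← mul_assoc] at h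
      exact (mul_right_cancel h).symm
    have hzc : z' = 1 ∨ z' = U.tq := by
      by_contra hne
      push Not at hne
      have hn := S.mem_Qb.mp hz'
      have hn1 : U.nF * z' * U.nF ≠ 1 := fun e => hne.1 (by
        rw [← S.n_conj_conj z', e, mul_one, (U.flip_mul S.h8).1])
      have hn2 : U.nF * z' * U.nF ≠ U.tq := fun e => hne.2 (by
        rw [← S.n_conj_conj z', e, (U.flip_tq S.h8).1, mul_assoc, (U.flip_mul S.h8).1, mul_one])
      refine U.Qa_noncomm S.h8 hn hn1 hn2 ?_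
      set p := U.ι 9 * (U.nF * z' * U.nF) * (U.ι 9)⁻¹
      have hp : U.nF * p * U.nF ∈ S.Qb := S.nn_Qb (U.nine_conj S.h8 hn)
      have h := hc _ (S.QQ_le_T7 (S.Qb_le_QQ hp))
      rw [mul_one] at h
      have h2 : U.nF * p * U.nF * z' = z' * (U.nF * p * U.nF) := mul_left_cancel (a := y) (by
        rw [← mul_assoc, S.comm_QQ y hy _ hp, mul_assoc, h, mul_assoc])
      have h' := congrArg (fun x => U.nF * x * U.nF) h2
      rw [S.n_hom (U.nF * p * U.nF) z', S.n_hom z' (U.nF * p * U.nF), S.n_conj_conj] at h'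
      exact h'.symm
    rcases hyc with rfl | rfl <;> rcases hzc with rfl | rfl <;> simp [(U.tq_facts S.h8).2.1]
  · exact (hswap S.swap_n rfl).elim
  · refine (U.iF_no_cent S.h8 hy fun p hp => ?_).elim
    have h := hcom p hp
    have e : y * z' * U.iF = z' * (y * U.iF) := by rw [S.comm_QQ y hy z' hz', mul_assoc]
    rw [e, ← mul_assoc p, S.comm_QQ p hp z' hz', mul_assoc, mul_assoc z'] at h
    exact (mul_left_cancel h).symm
  · exact (hswap S.swap_d rfl).elim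

/-- It is a Sylow subgroup of the whole group. -/
theorem exists_sylow_T7 : ∃ P : Sylow 2 G, (P : Subgroup G) = S.T7 := by
  classical
  haveI : Fact (Nat.Prime 2) := ⟨Nat.prime_two⟩
  obtain ⟨P, hP⟩ := S.T7_pgroup.exists_le_sylow
  refine ⟨P, ?_⟩
  by_contra hne
  obtain ⟨g, hgP, hgn, hgN⟩ : ∃ g ∈ (P : Subgroup G), g ∉ S.T7 ∧ g ∈ Subgroup.normalizer (S.T7 : Set G) := by
    haveI := P.isPGroup'.isNilpotent
    have hlt : S.T7.subgroupOf (P : Subgroup G) < ⊤ := lt_top_iff_ne_top.mpr fun e =>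
      hne (le_antisymm (Subgroup.subgroupOf_eq_top.mp e) hP)
    obtain ⟨q, hqN, hqM⟩ := SetLike.exists_of_lt
      (Group.normalizerCondition_of_isNilpotent (S.T7.subgroupOf (P : Subgroup G)) hlt)
    exact ⟨q, q.2, hqM, mem_of_map_conj _ fun p hp => (Subgroup.mem_normalizer_iff.mp hqN ⟨p, hP hp⟩).mp hp⟩
  have ht1 := (U.tq_facts S.h8).2.2.1
  rcases S.T7_center ((Subgroup.mem_normalizer_iff.mp hgN _).mp S.tq_T7) (fun x hx => by
      have h := mem_centralizer_iff'.mp (S.T7_cent ((Subgroup.mem_normalizer_iff''.mp hgN x).mp hx))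
      calc x * (g * U.tq * g⁻¹) = g * (g⁻¹ * x * g * U.tq) * g⁻¹ := by group
        _ = g * (U.tq * (g⁻¹ * x * g)) * g⁻¹ := by rw [h]
        _ = _ := by group) with e | e
  · exact ht1 (conj_eq_one_iff.mp e)
  · have hgC : g ∈ Subgroup.centralizer ({U.tq} : Set G) :=
      mem_centralizer_iff'.mpr (mul_inv_eq_iff_eq_mul.mp e)
    have h := S.T7_max (T := (P : Subgroup G) ⊓ Subgroup.centralizer ({U.tq} : Set G))
      (P.isPGroup'.to_le inf_le_left) (le_inf hP S.T7_cent) inf_le_right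
    exact hgn (h ▸ ⟨hgP, hgC⟩)

theorem Qa_anti {p q : G} (hp : p ∈ U.Qa S.h8) (hq : q ∈ U.Qa S.h8) (h : p * q ≠ q * p) :
    p * q * p⁻¹ = U.tq * q := by
  obtain ⟨htC, -, -, htf, -⟩ := U.tq_facts S.h8
  refine U.Qa_inj S.h8 (mul_mem (mul_mem hp hq) (inv_mem hp)) (mul_mem (U.tq_mem_Qa S.h8) hq) ?_
  rw [X.f_mul (mul_mem hp.1.1 hq.1.1) (inv_mem hp.1.1), X.f_mul hp.1.1 hq.1.1, X.f_inv hp.1.1,
    X.f_mul htC hq.1.1, htf]
  refine q8_anti _ hp.1.2.2 _ hq.1.2.2 fun e => h (U.Qa_inj S.h8 (mul_mem hp hq) (mul_mem hq hp) ?_)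
  rw [X.f_mul hp.1.1 hq.1.1, X.f_mul hq.1.1 hp.1.1, e]

theorem ninepow_orbit {y v : G} (hy : y ∈ U.Qa S.h8) (hy2 : y * y = U.tq) (hv : v ∈ U.Qa S.h8)
    (hv2 : v * v = U.tq) : ∃ r : ℕ, v = U.ι 9 ^ r * y * (U.ι 9 ^ r)⁻¹ ∨
      v = U.tq * (U.ι 9 ^ r * y * (U.ι 9 ^ r)⁻¹) := by
  obtain ⟨htC, ht2, -, htf, -⟩ := U.tq_facts S.h8
  obtain ⟨hC, hct, h3, h1⟩ := U.nine_facts S.h8
  have hu1 : X.f y ≠ 1 := fun e => S.root_ne hy2 (Or.inl (U.Qa_inj S.h8 hy (one_mem _) (by rw [e, X.f_one])))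
  have hu2 : X.f y ≠ -1 := fun e =>
    S.root_ne hy2 (Or.inr (U.Qa_inj S.h8 hy (U.tq_mem_Qa S.h8) (by rw [e, htf])))
  have hpowQ : ∀ r : ℕ, U.ι 9 ^ r * y * (U.ι 9 ^ r)⁻¹ ∈ U.Qa S.h8 := fun r => by
    induction r with
    | zero => simpa using hy
    | succ r ih =>
      rw [pow_succ', show U.ι 9 * U.ι 9 ^ r * y * (U.ι 9 * U.ι 9 ^ r)⁻¹ =
        U.ι 9 * (U.ι 9 ^ r * y * (U.ι 9 ^ r)⁻¹) * (U.ι 9)⁻¹ by group]
      exact U.nine_conj S.h8 ih
  have f0 : X.f (U.ι 9 ^ 0 * y * (U.ι 9 ^ 0)⁻¹) = X.f y := by simp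
  have f1 : X.f (U.ι 9 ^ 1 * y * (U.ι 9 ^ 1)⁻¹) = X.f (U.ι 9) * X.f y * (X.f (U.ι 9))⁻¹ := by
    rw [pow_one, X.f_mul (mul_mem hC hy.1.1) (inv_mem hC), X.f_mul hC hy.1.1, X.f_inv hC]
  have f2 : X.f (U.ι 9 ^ 2 * y * (U.ι 9 ^ 2)⁻¹) = (X.f (U.ι 9))⁻¹ * X.f y * X.f (U.ι 9) := by
    have e : U.ι 9 ^ 2 = (U.ι 9)⁻¹ := by
      rw [pow_two]; exact eq_inv_of_mul_eq_one_left (X.cube' (U.ι_mem (by norm_num)))
    rw [e, inv_inv, X.f_mul (mul_mem (inv_mem hC) hy.1.1) hC, X.f_mul (inv_mem hC) hy.1.1, X.f_inv hC]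
  have fin : ∀ r : ℕ, (X.f v = X.f (U.ι 9 ^ r * y * (U.ι 9 ^ r)⁻¹) ∨
      X.f v = -1 * X.f (U.ι 9 ^ r * y * (U.ι 9 ^ r)⁻¹)) → ∃ r : ℕ, v = U.ι 9 ^ r * y * (U.ι 9 ^ r)⁻¹ ∨
      v = U.tq * (U.ι 9 ^ r * y * (U.ι 9 ^ r)⁻¹) := fun r h =>
    ⟨r, h.imp (U.Qa_inj S.h8 hv (hpowQ r)) fun e => U.Qa_inj S.h8 hv (mul_mem (U.tq_mem_Qa S.h8) (hpowQ r))
      (by rw [X.f_mul htC (hpowQ r).1.1, htf, e])⟩
  have hor := q8_fixed_or _ hy.1.2.2 hu1 hu2 _ h3 h1
  rcases q8_cover _ hy.1.2.2 hu1 hu2 _ h3 h1 _ hv.1.2.2 with e | e | e | e | e | e | e | e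
  · exact absurd (Or.inl (U.Qa_inj S.h8 hv (one_mem _) (by rw [e, X.f_one]))) (S.root_ne hv2)
  · exact absurd (Or.inr (U.Qa_inj S.h8 hv (U.tq_mem_Qa S.h8) (by rw [e, htf]))) (S.root_ne hv2)
  · exact fin 0 (Or.inl (by rw [f0, e]))
  · exact fin 0 (Or.inr (by rw [f0, e]))
  · exact fin 1 (Or.inl (by rw [f1, e]))
  · exact fin 1 (Or.inr (by rw [f1, e]))
  · refine fin 2 ?_
    rw [f2, e]; exact hor
  · refine fin 2 ?_
    rw [f2, e]
    rcases hor with h | h <;> rw [h]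
    · exact Or.inr rfl
    · exact Or.inl (by simp)

/-- Noncentral involutions of the product have large centralizers. -/
theorem big_cent {w : G} (hw : w ∈ S.QQ) (hw2 : w * w = 1) (hw1 : w ≠ 1) (hwt : w ≠ U.tq) :
    64 ∣ Nat.card (Subgroup.centralizer ({w} : Set G)) := by
  classical
  obtain ⟨y, hy, z, hz, rfl⟩ := hw
  obtain ⟨htC, ht2, ht1, -, -⟩ := U.tq_facts S.h8
  rw [(show Commute z y from (S.comm_QQ y hy z hz).symm).mul_mul_mul_comm y z] at hw2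
  have hy2 : y * y = U.tq := by
    refine ((U.Qa_two_els S.h8) hy).2.resolve_left fun e => ?_
    rw [e, one_mul] at hw2
    rcases ((U.Qa_two_els S.h8) hy).1 e with rfl | rfl <;> rcases (S.Qb_sq hz).1 hw2 with rfl | rfl
    · exact hw1 (one_mul _)
    · exact hwt (one_mul _)
    · exact hwt (mul_one _)
    · exact hw1 ht2
  have hz2 : z * z = U.tq := by
    rw [hy2] at hw2
    rw [eq_inv_of_mul_eq_one_right hw2]; exact inv_eq_of_mul_eq_one_right ht2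
  obtain ⟨y0, hy0, hy02, hy0i⟩ := U.exists_inverted S.h8
  obtain ⟨hn2, hi2, -, hni, hin, -⟩ := U.flip_mul S.h8
  have hnt : U.nF * U.tq * U.nF = U.tq := by
    rw [(U.flip_tq S.h8).1, mul_assoc, hn2, mul_one]
  set z0 := U.nF * y0 * U.nF with hz0def
  have hz0 : z0 ∈ S.Qb := S.nn_Qb hy0
  have hc0 : Commute y0 z0 := S.comm_QQ y0 hy0 z0 hz0
  have htz : ∀ {x : G}, x ∈ S.T7 → Commute x U.tq := fun hx => mem_centralizer_iff'.mp (S.T7_cent hx)
  -- the representative has at most two conjugates under the Sylow subgroup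
  set w0 := y0 * z0 with hw0
  set r := U.ι 9 * y0 * (U.ι 9)⁻¹ with hrdef
  have hrQ : r ∈ U.Qa S.h8 := U.nine_conj S.h8 hy0
  have hy0n : y0 ≠ 1 ∧ y0 ≠ U.tq := ⟨fun e => S.root_ne hy02 (Or.inl e), fun e => S.root_ne hy02 (Or.inr e)⟩
  have hflip : r * w0 * r⁻¹ = U.tq * w0 := by
    have e := S.Qa_anti hrQ hy0 (fun e => U.Qa_noncomm S.h8 hy0 hy0n.1 hy0n.2 e.symm)
    calc r * w0 * r⁻¹ = (r * y0 * r⁻¹) * (r * z0 * r⁻¹) := by rw [hw0]; group
      _ = (r * y0 * r⁻¹) * z0 := by rw [S.comm_QQ r hrQ z0 hz0, mul_inv_cancel_right]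
      _ = _ := by rw [e, hw0, mul_assoc]
  have hin' : U.iF * w0 * U.iF = w0 := by
    have e : U.iF * z0 * U.iF = U.tq * z0 := by
      calc U.iF * z0 * U.iF = (U.iF * U.nF) * y0 * (U.nF * U.iF) := by rw [hz0def]; group
        _ = (U.nF * U.iF) * y0 * (U.iF * U.nF) := by rw [hin, hni]
        _ = U.nF * (U.iF * y0 * U.iF) * U.nF := by group
        _ = U.tq * z0 := by rw [hy0i, S.n_hom, hnt]
    rw [hw0, U.iF_conj_mul S.h8, hy0i, e,
      ((htz (S.QQ_le_T7 (S.Qa_le_QQ hy0)))).mul_mul_mul_comm U.tq z0, ht2, one_mul]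
  have hnn' : U.nF * w0 * U.nF = w0 := by rw [hw0, S.n_hom, hz0def, S.n_conj_conj, ← hz0def, hc0.eq]
  have hQorb : ∀ q ∈ S.QQ, q * w0 * q⁻¹ = w0 ∨ q * w0 * q⁻¹ = U.tq * w0 := by
    have one : ∀ p ∈ U.Qa S.h8, p * w0 * p⁻¹ = w0 ∨ p * w0 * p⁻¹ = U.tq * w0 := by
      intro p hp
      have e : p * w0 * p⁻¹ = (p * y0 * p⁻¹) * z0 := by
        calc p * w0 * p⁻¹ = (p * y0 * p⁻¹) * (p * z0 * p⁻¹) := by rw [hw0]; group
          _ = _ := by rw [S.comm_QQ p hp z0 hz0, mul_inv_cancel_right]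
      by_cases h : p * y0 = y0 * p
      · left; rw [e, h, mul_inv_cancel_right, hw0]
      · right; rw [e, S.Qa_anti hp hy0 h, hw0, mul_assoc]
    rintro _ ⟨p, hp, q, hq, rfl⟩
    have hq' := one _ (S.mem_Qb.mp hq)
    have e : q * w0 * q⁻¹ = U.nF * ((U.nF * q * U.nF) * w0 * (U.nF * q * U.nF)⁻¹) * U.nF := by
      rw [mul_inv_rev, mul_inv_rev, U.nF_inv S.h8,
        show U.nF * (U.nF * q * U.nF * w0 * (U.nF * (q⁻¹ * U.nF))) * U.nF =
          (U.nF * U.nF) * q * (U.nF * w0 * U.nF) * q⁻¹ * (U.nF * U.nF) by group, hn2, hnn', one_mul, mul_one]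
    have hq2 : q * w0 * q⁻¹ = w0 ∨ q * w0 * q⁻¹ = U.tq * w0 := by
      rcases hq' with h | h <;> rw [e, h]
      · exact Or.inl hnn'
      · exact Or.inr (by rw [S.n_hom, hnt, hnn'])
    have hpt : p * U.tq * p⁻¹ = U.tq := by rw [hp.1.2.1, mul_inv_cancel_right]
    rw [mul_inv_rev, show p * q * w0 * (q⁻¹ * p⁻¹) = p * (q * w0 * q⁻¹) * p⁻¹ by group]
    rcases hq2 with h | h <;> rw [h]
    · exact one p hp
    · rw [← conj_mul, hpt]
      rcases one p hp with h' | h' <;> rw [h']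
      · exact Or.inr rfl
      · exact Or.inl (by rw [← mul_assoc, ht2, one_mul])
  have horb : ∀ g ∈ S.T7, g * w0 * g⁻¹ = w0 ∨ g * w0 * g⁻¹ = U.tq * w0 := by
    intro g hg
    obtain ⟨q, hq, v, hv, rfl⟩ := S.T7_dec hg
    have hv' : v * w0 * v⁻¹ = w0 := by
      rcases hv with rfl | rfl | rfl | rfl
      · simp
      · rw [U.nF_inv S.h8, hnn']
      · rw [U.iF_inv S.h8, hin']
      · nth_rewrite 1 [← hni]
        rw [inv_eq_of_mul_eq_one_right S.swap_d.1, ← hin,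
          show U.nF * U.iF * w0 * (U.iF * U.nF) = U.nF * (U.iF * w0 * U.iF) * U.nF by group, hin', hnn']
    rw [mul_inv_rev, show q * v * w0 * (v⁻¹ * q⁻¹) = q * (v * w0 * v⁻¹) * q⁻¹ by group, hv']
    exact hQorb q hq
  have h64 : 64 ∣ Nat.card (Subgroup.centralizer ({w0} : Set G)) := by
    set L := S.T7 ⊓ Subgroup.centralizer ({w0} : Set G) with hL
    have hne : U.tq * w0 ≠ w0 := fun e => ht1 (by simpa using e)
    have hidx : L.relIndex S.T7 = 2 := by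
      refine Subgroup.relIndex_eq_two_iff.mpr ⟨r, S.QQ_le_T7 (S.Qa_le_QQ hrQ), fun b hb => ?_⟩
      have hbr := mul_mem hb (S.QQ_le_T7 (S.Qa_le_QQ hrQ))
      have key : ∀ {x : G}, x ∈ S.T7 → (x ∈ L ↔ x * w0 * x⁻¹ = w0) := fun hx =>
        ⟨fun h => mul_inv_eq_iff_eq_mul.mpr (mem_centralizer_iff'.mp h.2),
          fun h => ⟨hx, mem_centralizer_iff'.mpr (mul_inv_eq_iff_eq_mul.mp h)⟩⟩
      have e : b * r * w0 * (b * r)⁻¹ = U.tq * (b * w0 * b⁻¹) := by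
        rw [mul_inv_rev, show b * r * w0 * (r⁻¹ * b⁻¹) = b * (r * w0 * r⁻¹) * b⁻¹ by group, hflip,
          ← conj_mul, (htz hb).eq, mul_inv_cancel_right]
      rcases horb b hb with h | h
      · refine Or.inr ⟨(key hb).mpr h, fun h' => hne ?_⟩
        have := (key hbr).mp h'
        rwa [e, h] at this
      · refine Or.inl ⟨(key hbr).mpr (by rw [e, h, ← mul_assoc, ht2, one_mul]), fun h' => hne ?_⟩
        exact h.symm.trans ((key hb).mp h')
    have hcard := Subgroup.card_mul_index (L.subgroupOf S.T7)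
    rw [Nat.card_congr (Subgroup.subgroupOfEquivOfLe (inf_le_left : L ≤ S.T7)).toEquiv,
      show (L.subgroupOf S.T7).index = L.relIndex S.T7 from rfl, hidx, S.card_T7] at hcard
    have h2 : Nat.card L * 2 = 128 := hcard
    have : Nat.card L = 64 := by omega
    rw [← this]
    exact Subgroup.card_dvd_of_le inf_le_right
  -- every such involution is conjugate to the representative
  have hnz2 : U.nF * z * U.nF * (U.nF * z * U.nF) = U.tq := by rw [← S.n_hom, hz2, hnt]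
  obtain ⟨r1, e1⟩ := S.ninepow_orbit hy0 hy02 hy hy2
  obtain ⟨r2, e2⟩ := S.ninepow_orbit hy0 hy02 (S.mem_Qb.mp hz) hnz2
  set e9 := U.ι 9 with he9
  have h9J : e9 ∈ X.J := U.ι_mem (by norm_num)
  have hce : Commute X.a e9 := X.comm _ X.a_mem_J _ h9J
  set p := X.a ^ (r1 + r2) * e9 ^ r1 with hp
  have hpy : p * y0 * p⁻¹ = e9 ^ r1 * y0 * (e9 ^ r1)⁻¹ := by
    have hmem : e9 ^ r1 * y0 * (e9 ^ r1)⁻¹ ∈ X.C := by
      have hC9 : e9 ∈ X.C := X.J_le h9J
      exact mul_mem (mul_mem (pow_mem hC9 _) hy0.1.1) (inv_mem (pow_mem hC9 _))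
    rw [hp, mul_inv_rev, show X.a ^ (r1 + r2) * e9 ^ r1 * y0 * ((e9 ^ r1)⁻¹ * (X.a ^ (r1 + r2))⁻¹) =
      X.a ^ (r1 + r2) * (e9 ^ r1 * y0 * (e9 ^ r1)⁻¹) * (X.a ^ (r1 + r2))⁻¹ by group,
      ← ((show Commute _ X.a from X.a_comm hmem).pow_right (r1 + r2)).eq, mul_inv_cancel_right]
  obtain ⟨n13, -, n9, -, -, e22⟩ := U.flip_ι S.h8
  have hpn : U.nF * p * U.nF = X.a ^ (r1 + r2) * e9 ^ r2 := by
    rw [U.nF_inv S.h8] at n13 n9
    have ea : U.nF * X.a ^ (r1 + r2) * U.nF = (X.a * e9) ^ (r1 + r2) := by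
      have h := conj_pow (a := U.nF) (b := X.a) (i := r1 + r2)
      rw [U.nF_inv S.h8, n13, e22] at h
      exact h.symm
    have ee : U.nF * e9 ^ r1 * U.nF = (e9⁻¹) ^ r1 := by
      have h := conj_pow (a := U.nF) (b := e9) (i := r1)
      rw [U.nF_inv S.h8, n9] at h
      exact h.symm
    rw [hp, S.n_hom, ea, ee, hce.mul_pow, mul_assoc, pow_add e9, (Commute.pow_pow_self e9 r1 r2).eq,
      mul_assoc (e9 ^ r2), inv_pow, mul_inv_cancel, mul_one]
  have hpz : p * z0 * p⁻¹ = U.nF * (e9 ^ r2 * y0 * (e9 ^ r2)⁻¹) * U.nF := by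
    have hmem : e9 ^ r2 * y0 * (e9 ^ r2)⁻¹ ∈ X.C := by
      have hC9 : e9 ∈ X.C := X.J_le h9J
      exact mul_mem (mul_mem (pow_mem hC9 _) hy0.1.1) (inv_mem (pow_mem hC9 _))
    have hfix : X.a ^ (r1 + r2) * e9 ^ r2 * y0 * (X.a ^ (r1 + r2) * e9 ^ r2)⁻¹ =
        e9 ^ r2 * y0 * (e9 ^ r2)⁻¹ := by
      rw [mul_inv_rev, show X.a ^ (r1 + r2) * e9 ^ r2 * y0 * ((e9 ^ r2)⁻¹ * (X.a ^ (r1 + r2))⁻¹) =
        X.a ^ (r1 + r2) * (e9 ^ r2 * y0 * (e9 ^ r2)⁻¹) * (X.a ^ (r1 + r2))⁻¹ by group,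
        ← ((show Commute _ X.a from X.a_comm hmem).pow_right (r1 + r2)).eq, mul_inv_cancel_right]
    rw [← hfix, ← hpn, hz0def, show (U.nF * p * U.nF)⁻¹ = U.nF * p⁻¹ * U.nF by
      rw [mul_inv_rev, mul_inv_rev, U.nF_inv S.h8, mul_assoc]]
    calc p * (U.nF * y0 * U.nF) * p⁻¹ = (U.nF * U.nF) * p * (U.nF * y0 * U.nF) * p⁻¹ * (U.nF * U.nF) := by
          rw [hn2]; group
      _ = _ := by group
  have hpw : p * w0 * p⁻¹ = (e9 ^ r1 * y0 * (e9 ^ r1)⁻¹) * (U.nF * (e9 ^ r2 * y0 * (e9 ^ r2)⁻¹) * U.nF) := by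
    rw [hw0, ← conj_mul, hpy, hpz]
  have hzz : z = U.nF * (e9 ^ r2 * y0 * (e9 ^ r2)⁻¹) * U.nF ∨
      z = U.tq * (U.nF * (e9 ^ r2 * y0 * (e9 ^ r2)⁻¹) * U.nF) := by
    refine e2.imp (fun e => ?_) (fun e => ?_) <;> rw [← S.n_conj_conj z, e]
    rw [S.n_hom, hnt]
  set A := e9 ^ r1 * y0 * (e9 ^ r1)⁻¹ with hA
  set B := U.nF * (e9 ^ r2 * y0 * (e9 ^ r2)⁻¹) * U.nF with hB
  have hcard : ∀ {k x : G}, k * x * k⁻¹ = y * z →
      Nat.card (Subgroup.centralizer ({x} : Set G)) = Nat.card (Subgroup.centralizer ({y * z} : Set G)) := by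
    intro k x hk
    refine Nat.card_congr ((Equiv.subtypeEquiv (MulAut.conj k).toEquiv fun g => ?_))
    rw [mem_centralizer_iff', mem_centralizer_iff']
    show g * x = x * g ↔ k * g * k⁻¹ * (y * z) = y * z * (k * g * k⁻¹)
    rw [← hk, conj_mul, conj_mul, mul_left_inj, mul_right_inj]
  have hwit : ∃ k : G, k * w0 * k⁻¹ = y * z := by
    have hor : y * z = p * w0 * p⁻¹ ∨ y * z = U.tq * (p * w0 * p⁻¹) := by
      rw [hpw]
      have hAt : Commute A U.tq := by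
        have h9 : Commute e9 U.tq := (U.nine_facts S.h8).2.1
        exact ((h9.pow_left r1).mul_left (show Commute y0 U.tq from hy0.1.2.1)).mul_left (h9.pow_left r1).inv_left
      rcases e1 with h | h <;> rcases hzz with h' | h' <;> rw [h, h']
      · exact Or.inl rfl
      · exact Or.inr (by rw [← mul_assoc, hAt.eq, mul_assoc])
      · exact Or.inr (mul_assoc _ _ _)
      · exact Or.inl (by rw [hAt.mul_mul_mul_comm, ht2, one_mul])
    rcases hor with h | h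
    · exact ⟨p, h.symm⟩
    · refine ⟨p * r, ?_⟩
      have hpt : p * U.tq * p⁻¹ = U.tq := by
        have h9 : Commute e9 U.tq := (U.nine_facts S.h8).2.1
        have hat : Commute X.a U.tq := (X.a_comm htC).symm
        rw [hp, ((hat.pow_left (r1 + r2)).mul_left (h9.pow_left r1)).eq, mul_inv_cancel_right]
      rw [h, mul_inv_rev, show p * r * w0 * (r⁻¹ * p⁻¹) = p * (r * w0 * r⁻¹) * p⁻¹ by group, hflip,
        ← conj_mul, hpt]
  obtain ⟨k, hk⟩ := hwit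
  rw [← hcard hk]
  exact h64

end Small

end CfsgLib.PSpFourThree
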