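import Cfsg.Agent.Lib.PSpFourThree.Eight.Four

/-!
The large case: the elementary abelian group of order thirty-two and its normalizer.
-/

set_option autoImplicit false
set_option maxRecDepth 20000
set_option linter.style.haveILetI false
set_option linter.unusedSectionVars false

namespace CfsgLib.PSpFourThree

open CfsgLib.SymNineThree CfsgLib.SymNineThree.Mon CfsgLib.PSpFourLocal
open CfsgLib.SymNineThree.Six (sA sB sU sV sW sT)

attribute [local instance 2000] List.decidableBAll List.decidableBEx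

theorem e1_free' : ∀ i : Fin 3, ∀ j : Fin 2, (∀ σ : P6, σ ∈ E1S →
    (sA ^ (i : ℕ) * sU ^ (j : ℕ)) * σ = σ * (sA ^ (i : ℕ) * sU ^ (j : ℕ))) → (i : ℕ) = 0 ∧ (j : ℕ) = 0 :=
  fun i j h => e1_free i j (h cA e0_mem.2.2.2.2.2.2.1) (h cB e0_mem.2.2.2.2.2.2.2)

theorem s8_gam : ∀ τ : P6, τ ∈ S8 → [1, sU, sT, sV, sU * sT, sU * sV, sT * sV, sU * sT * sV].any
    (fun ρ : P6 => ρ == gam * τ * gam⁻¹) = true := by decide +kernel

theorem swap_cross : ∀ i j : Fin 6, (i : ℕ) < 3 → 3 ≤ (j : ℕ) → ∃ a b : Fin 3,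
    sA ^ (a : ℕ) * sB ^ (b : ℕ) * sT * (sA ^ (a : ℕ) * sB ^ (b : ℕ))⁻¹ = Equiv.swap i j := by decide +kernel

theorem swap_same : ∀ i j : Fin 6, i ≠ j → ((i : ℕ) < 3 ↔ (j : ℕ) < 3) →
    ∃ k : Fin 6, ((k : ℕ) < 3 ↔ ¬ (i : ℕ) < 3) ∧
      Equiv.swap i k * Equiv.swap j k * Equiv.swap i k = Equiv.swap i j := by decide +kernel

theorem u_facts : dA = sT * sV ∧ sT * sU ∈ E1S ∧ sT * sU = sU * sT ∧ sT * sV = sV * sT ∧
    sU * sV = sV * sU := by
  refine ⟨?_, ?_, ?_, ?_, ?_⟩ <;> decide +kernel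

universe u

variable {G : Type u} [Group G] [Finite G] {X : Ctx G}

namespace Big

variable {U : Coord X} (B : Big U)

include B

/-- The core of the centralizer of the group of order eight. -/
noncomputable def N0 : Subgroup G := Classical.choose B.exists_N0

theorem N0_spec : Core B.D0 B.E0 (U.JC 3) (U.ι 9) (U.f (of 108)) B.N0 := Classical.choose_spec B.exists_N0

/-- The elementary abelian group of order thirty-two. -/
noncomputable def E32 : Subgroup G := B.E0 ⊔ B.E1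

/-- The diagonal element. -/
noncomputable def dia (y : G) : G := B.gm * (y * (B.nd * y * B.nd⁻¹)) * B.gm⁻¹

theorem dia_mem {y : G} (hy : y ∈ U.Qa B.h8) : B.dia y ∈ B.N0 := (B.comm_Qa_self hy).2

theorem dia_conj (y : G) : U.ι 9 * B.dia y * (U.ι 9)⁻¹ = B.dia (U.ι 9 * y * (U.ι 9)⁻¹) := by
  have hg : Commute (U.ι 9) B.gm := (B.gm_facts.1).symm
  have hn : Commute (U.ι 9) B.nd := (B.nd_facts.2.1).symm
  have e1 : U.ι 9 * B.gm * (U.ι 9)⁻¹ = B.gm := by rw [hg.eq, mul_inv_cancel_right]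
  have e2 : U.ι 9 * B.nd * (U.ι 9)⁻¹ = B.nd := by rw [hn.eq, mul_inv_cancel_right]
  calc U.ι 9 * B.dia y * (U.ι 9)⁻¹ = (U.ι 9 * B.gm * (U.ι 9)⁻¹) * ((U.ι 9 * y * (U.ι 9)⁻¹) *
        ((U.ι 9 * B.nd * (U.ι 9)⁻¹) * (U.ι 9 * y * (U.ι 9)⁻¹) * (U.ι 9 * B.nd * (U.ι 9)⁻¹)⁻¹)) *
        (U.ι 9 * B.gm * (U.ι 9)⁻¹)⁻¹ := by rw [dia]; group
    _ = _ := by rw [e1, e2]; rfl

theorem exists_gen : ∃ y ∈ U.Qa B.h8, ∃ a ∈ B.E0, ∃ σ ∈ E1S, σ ≠ 1 ∧ σ ≠ sV ∧
    B.dia y = a * B.L1.ρ σ ∧ B.L1.ρ σ ∈ B.N0 := by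
  obtain ⟨y, hy, hy2⟩ := U.Qa_root B.h8
  have hN := B.N0_spec
  obtain ⟨htC, ht2, ht1, -, -⟩ := U.tq_facts B.h8
  have y1 : y ≠ 1 := fun e => ht1 (by rw [← hy2, e, one_mul])
  have yt : y ≠ U.tq := fun e => ht1 (by rw [← hy2, e, ht2])
  have hnot : B.dia y ∉ B.E0 := by
    intro hmem
    have hc9 : Commute (U.ι 9) (B.dia y) := by
      obtain ⟨σ, -, e⟩ := hmem
      rw [← e]; exact (B.L2.comm σ).symm
    have hy' : Commute (U.ι 9) (y * (B.nd * y * B.nd⁻¹)) := by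
      have hg : Commute (U.ι 9) B.gm := (B.gm_facts.1).symm
      have h := (hg.inv_right.mul_right hc9).mul_right hg
      have e : B.gm⁻¹ * B.dia y * B.gm = y * (B.nd * y * B.nd⁻¹) := by rw [dia]; group
      rwa [e] at h
    set q1 := y * U.ι 9 * y⁻¹ * (U.ι 9)⁻¹ with hq1
    have h1 : q1 ∈ U.Qa B.h8 := (U.comm_nine B.h8 hy).1
    have hn : B.nd⁻¹ * U.ι 9 * B.nd = U.ι 9 := by
      rw [mul_assoc, ← B.nd_facts.2.1, inv_mul_cancel_left]
    have e0 : y * (B.nd * q1 * B.nd⁻¹) * y⁻¹ * q1 = 1 := by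
      have e : y * (B.nd * q1 * B.nd⁻¹) * y⁻¹ * q1 =
          y * (B.nd * y * B.nd⁻¹) * U.ι 9 * (y * (B.nd * y * B.nd⁻¹))⁻¹ * (U.ι 9)⁻¹ := by
        symm
        calc _ = y * (B.nd * (y * (B.nd⁻¹ * U.ι 9 * B.nd) * y⁻¹) * B.nd⁻¹) * y⁻¹ * (U.ι 9)⁻¹ := by group
          _ = y * (B.nd * q1 * B.nd⁻¹ * (B.nd * U.ι 9 * B.nd⁻¹)) * y⁻¹ * (U.ι 9)⁻¹ := by
            rw [hn, hq1]; group
          _ = _ := by rw [B.nd_facts.2.1, mul_inv_cancel_right, hq1]; group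
      rw [e, hy'.symm.eq, mul_inv_cancel_right, mul_inv_cancel]
    rw [B.comm_Qa hy h1, mul_inv_cancel_right] at e0
    have hcen : ∀ w ∈ U.Qa B.h8, w * (B.nd * q1 * B.nd⁻¹) = B.nd * q1 * B.nd⁻¹ * w := fun w hw =>
      B.comm_Qa hw h1
    have e1 : B.nd * q1 * B.nd⁻¹ = q1⁻¹ := eq_inv_of_mul_eq_one_left e0
    rw [e1] at hcen
    obtain ⟨q1ne, q1nt⟩ := (U.comm_nine B.h8 hy).2 y1 yt
    refine U.Qa_noncomm B.h8 h1 q1ne q1nt ?_
    have h := hcen _ (U.nine_conj B.h8 h1)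
    have h2 := (show Commute (U.ι 9 * q1 * (U.ι 9)⁻¹) q1⁻¹ from h).inv_right
    rw [inv_inv] at h2
    exact h2.eq.symm
  have hle : B.dia y ∈ B.E0 ⊔ (B.N0 ⊓ B.E1) := B.N0_le hN (B.dia_mem hy)
  have hc : ∀ (a : B.E0) (b : ↥(B.N0 ⊓ B.E1)), Commute ((B.E0).subtype a) ((B.N0 ⊓ B.E1).subtype b) :=
    fun a b => Subgroup.mem_centralizer_iff.mp (hN.le b.2.1) a a.2
  have hr : B.dia y ∈ (MonoidHom.noncommCoprod B.E0.subtype (B.N0 ⊓ B.E1).subtype hc).range := by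
    rw [MonoidHom.noncommCoprod_range, Subgroup.range_subtype, Subgroup.range_subtype]
    exact hle
  obtain ⟨⟨a, b⟩, e⟩ := hr
  have e' : B.dia y = (a : G) * b := e.symm
  obtain ⟨σ, hσ, eb⟩ := b.2.2
  refine ⟨y, hy, a, a.2, σ, hσ, ?_, ?_, by rw [e', eb], by rw [eb]; exact b.2.1⟩
  · rintro rfl
    rw [map_one] at eb
    exact hnot (by rw [e', ← eb, mul_one]; exact a.2)
  · rintro rfl
    rw [← B.alpha_eq] at eb
    exact hnot (by rw [e', ← eb]; exact mul_mem a.2 B.alpha_mem)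

/-- A subgroup with the first part and all diagonal elements contains everything. -/
theorem E32_le {K : Subgroup G} (h0 : B.E0 ≤ K) (hd : ∀ y ∈ U.Qa B.h8, B.dia y ∈ K) : B.E32 ≤ K := by
  obtain ⟨y, hy, a, ha, σ, hσ, h1, hV, e, -⟩ := B.exists_gen
  have hb : B.L1.ρ σ ∈ K := by
    rw [show B.L1.ρ σ = a⁻¹ * B.dia y by rw [e, inv_mul_cancel_left]]
    exact mul_mem (inv_mem (h0 ha)) (hd y hy)
  have hb' : B.L1.ρ (sA * σ * sA⁻¹) ∈ K := by
    have ha9 : U.ι 9 * a * (U.ι 9)⁻¹ = a := by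
      obtain ⟨τ, -, rfl⟩ := ha
      rw [← B.L2.comm, mul_inv_cancel_right]
    have h := hd _ (U.nine_conj B.h8 hy)
    rw [← B.dia_conj, e, ← conj_mul, ha9] at h
    rw [map_mul, map_mul, map_inv, B.vals1.1]
    have h2 := mul_mem (inv_mem (h0 ha)) h
    rwa [inv_mul_cancel_left] at h2
  have hα : B.L1.ρ sV ∈ K := by rw [← B.alpha_eq]; exact h0 B.alpha_mem
  refine sup_le h0 ?_
  rintro _ ⟨τ, hτ, rfl⟩
  obtain ⟨ρ, hρ, e'⟩ := List.any_eq_true.mp (e1_span σ hσ h1 hV τ hτ)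
  rw [beq_iff_eq] at e'
  subst e'
  simp only [List.mem_cons, List.not_mem_nil, or_false] at hρ
  have hb1 : σ ∈ K.comap B.L1.ρ := hb
  have hb2 : sA * σ * sA⁻¹ ∈ K.comap B.L1.ρ := hb'
  have hb0 : sV ∈ K.comap B.L1.ρ := hα
  show ρ ∈ K.comap B.L1.ρ
  rcases hρ with rfl | rfl | rfl | rfl | rfl | rfl | rfl | rfl
  · exact one_mem _
  · exact hb0
  · exact hb1
  · exact mul_mem hb0 hb1
  · exact hb2
  · exact mul_mem hb0 hb2
  · exact mul_mem hb1 hb2
  · exact mul_mem hb0 (mul_mem hb1 hb2)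

theorem E32_eq : B.E32 = B.N0 :=
  le_antisymm (B.E32_le B.N0_spec.H_le fun _ hy => B.dia_mem hy)
    ((B.N0_le B.N0_spec).trans (sup_le_sup_left inf_le_right _))

theorem E32_sq {x : G} (hx : x ∈ B.E32) : x * x = 1 := B.N0_sq B.N0_spec (B.E32_eq ▸ hx)

theorem E32_comm {x y : G} (hx : x ∈ B.E32) (hy : y ∈ B.E32) : x * y = y * x := by
  have h := B.E32_sq (mul_mem hx hy)
  have hxi : x⁻¹ = x := inv_eq_of_mul_eq_one_right (B.E32_sq hx)
  have hyi : y⁻¹ = y := inv_eq_of_mul_eq_one_right (B.E32_sq hy)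
  calc x * y = (x * y)⁻¹ := eq_inv_of_mul_eq_one_left h
    _ = y * x := by rw [mul_inv_rev, hxi, hyi]

theorem E32_le_D0 : B.E32 ≤ B.D0 := B.E32_eq ▸ B.N0_spec.le

theorem D0_norm : B.D0 ≤ Subgroup.normalizer (B.E32 : Set G) := fun d hd => mem_of_map_conj _ fun x hx => by
  rw [B.E32_eq] at hx ⊢
  exact B.N0_spec.normal d hd x hx

theorem W_norm : U.JC 3 ≤ Subgroup.normalizer (B.E32 : Set G) := by
  rw [B.E32_eq]; exact B.N0_spec.inv_W

/-- The group is its own centralizer. -/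
theorem cent_E32 {x : G} (h : ∀ y ∈ B.E32, y * x = x * y) : x ∈ B.E32 := by
  have hN := B.N0_spec
  have hxD : x ∈ B.D0 := Subgroup.mem_centralizer_iff.mpr fun y hy => h y (Subgroup.mem_sup_left hy)
  obtain ⟨i, j, n0, hn0, hi, hj, rfl⟩ := hN.dec x hxD
  rw [← B.E32_eq] at hn0
  have key : ∀ σ ∈ E1S, (sA ^ i * sU ^ j) * σ = σ * (sA ^ i * sU ^ j) := by
    intro σ hσ
    have hmem : B.L1.ρ σ ∈ B.E32 := Subgroup.mem_sup_right ⟨σ, hσ, rfl⟩
    have h1 := h _ hmem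
    have hk : Commute (B.L1.ρ σ) (U.ι 9 ^ i * U.f (of 108) ^ j) := by
      have h2 : Commute (B.L1.ρ σ) (n0 * U.ι 9 ^ i * U.f (of 108) ^ j) := h1
      have h3 := (show Commute (B.L1.ρ σ) n0 from B.E32_comm hmem hn0).inv_right.mul_right h2
      rwa [show n0⁻¹ * (n0 * U.ι 9 ^ i * U.f (of 108) ^ j) = U.ι 9 ^ i * U.f (of 108) ^ j by group] at h3
    refine B.L1.inj ?_
    simp only [map_mul, map_pow, B.vals1.1, B.vals1.2.2.1]
    exact hk.eq.symm
  obtain ⟨hi0, hj0⟩ := e1_free' ⟨i, hi⟩ ⟨j, hj⟩ key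
  simp only at hi0 hj0
  rw [hi0, hj0, pow_zero, pow_zero, mul_one, mul_one]
  exact hn0

theorem gm_mem : B.gm * B.nd * B.gm⁻¹ ∈ B.E0 ∧ B.gm * U.tq * B.gm⁻¹ ∈ B.E0 := by
  constructor
  · rw [gm, nd, ← map_inv, ← map_mul, ← map_mul]; exact B.mem_E0.mpr e0_mem.2.2.2.2.1
  · rw [gm, B.tq_eq, ← map_inv, ← map_mul, ← map_mul]; exact B.mem_E0.mpr e0_mem.2.2.2.1

/-- The centralizer of the conjugate of the four transpositions. -/
theorem Ug_norm {x : G} (hx : ∀ τ ∈ S8, x * B.L2.ρ (gam * τ * gam⁻¹) = B.L2.ρ (gam * τ * gam⁻¹) * x) :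
    x ∈ Subgroup.normalizer (B.E32 : Set G) := by
  classical
  obtain ⟨N, hN⟩ := B.exists_Nu
  obtain ⟨n2, n9, nt, -, -⟩ := B.nd_facts
  obtain ⟨g9, g108⟩ := B.gm_facts
  obtain ⟨hgn, hgt⟩ := B.gm_mem
  have hD := B.Qa_le_Du
  set g := B.gm with hg
  set n := B.nd with hn
  set K := (Subgroup.normalizer (B.E32 : Set G)).comap (MulAut.conj g).toMonoidHom with hK
  have hKm : ∀ {d : G}, d ∈ K ↔ g * d * g⁻¹ ∈ Subgroup.normalizer (B.E32 : Set G) := fun {d} => Iff.rfl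
  have e0le : B.E0 ≤ B.E32 := le_sup_left
  have hnK : n ∈ K := hKm.mpr (B.D0_norm (B.E32_le_D0 (e0le hgn)))
  have heK : U.ι 9 ∈ K := hKm.mpr (by rw [g9, mul_inv_cancel_right]; exact B.D0_norm B.nine_D0)
  have hmK : U.f (of 108) ∈ K := hKm.mpr (by
    rw [← g108, mul_inv_cancel_right]; exact B.D0_norm B.flip_D0)
  have hUK : B.Ut ≤ K := by
    rintro _ ⟨τ, hτ, rfl⟩
    refine hKm.mpr (mem_of_map_conj _ ?_)
    have hle : B.E32 ≤ B.E32.comap (MulAut.conj (g * B.L2.ρ τ * g⁻¹)).toMonoidHom := by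
      refine B.E32_le (fun z hz => ?_) fun y hy => ?_
      · obtain ⟨σ, hσ, rfl⟩ := hz
        refine e0le ?_
        show g * B.L2.ρ τ * g⁻¹ * B.L2.ρ σ * (g * B.L2.ρ τ * g⁻¹)⁻¹ ∈ B.E0
        rw [hg, gm, ← map_inv, ← map_mul, ← map_mul, ← map_mul, ← map_inv, ← map_mul]
        exact B.mem_E0.mpr (s8_e0 τ hτ σ hσ)
      · show g * B.L2.ρ τ * g⁻¹ * B.dia y * (g * B.L2.ρ τ * g⁻¹)⁻¹ ∈ B.E32
        have hc : Commute (B.L2.ρ τ) (y * (n * y * n⁻¹)) :=
          Subgroup.mem_centralizer_iff.mp (mul_mem (hD.1 hy) (hD.2 (B.nd_conj hy))) _ (B.mem_Ut.mpr hτ)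
        rw [dia, ← hg, ← hn, conj_mul, hc.eq, show g * (y * (n * y * n⁻¹) * B.L2.ρ τ) * g⁻¹ *
          (g * B.L2.ρ τ * g⁻¹)⁻¹ = g * (y * (n * y * n⁻¹)) * g⁻¹ by group, B.E32_eq]
        exact B.dia_mem hy
    exact fun z hz => hle hz
  have hQK : U.Qa B.h8 ≤ K := fun q hq => hKm.mpr (mem_of_map_conj _ (by
    have hle : B.E32 ≤ B.E32.comap (MulAut.conj (g * q * g⁻¹)).toMonoidHom := by
      refine B.E32_le (fun z hz => ?_) fun y hy => ?_
      · obtain ⟨σ, hσ, rfl⟩ := hz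
        show g * q * g⁻¹ * B.L2.ρ σ * (g * q * g⁻¹)⁻¹ ∈ B.E32
        set s := B.L2.ρ (gam⁻¹ * σ * gam) with hs
        have e1 : B.L2.ρ σ = g * s * g⁻¹ := by
          rw [hs, hg, gm, ← map_inv, ← map_mul, ← map_mul]; congr 1; group
        rw [e1, conj_mul, show g * (q * s) * g⁻¹ * (g * q * g⁻¹)⁻¹ = g * (q * s * q⁻¹) * g⁻¹ by group]
        rcases (e0_conj σ hσ).2 with h | h
        · rw [← Subgroup.mem_centralizer_iff.mp (hD.1 hq) _ (B.mem_Ut.mpr h), mul_inv_cancel_right, ← e1]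
          exact e0le (B.mem_E0.mpr hσ)
        · set k := B.L2.ρ (sU * sV * (gam⁻¹ * σ * gam)) with hk
          have hns : s = n * k := by
            rw [hs, hk, hn, nd, ← map_mul, ← mul_assoc, show sU * sV * (sU * sV) = 1 by decide +kernel, one_mul]
          have hqk : Commute k q := Subgroup.mem_centralizer_iff.mp (hD.1 hq) _ (B.mem_Ut.mpr h)
          have hw : q * (n * q⁻¹ * n⁻¹) = q * (n * q * n⁻¹) ∨
              q * (n * q⁻¹ * n⁻¹) = U.tq * (q * (n * q * n⁻¹)) := by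
            rcases (U.Qa_two_els B.h8 hq).2 with h2 | h2
            · left; rw [inv_eq_of_mul_eq_one_right h2]
            · right
              have hqi : q⁻¹ = U.tq * q := inv_eq_of_mul_eq_one_left (by
                rw [mul_assoc, h2, (U.tq_facts B.h8).2.1])
              rw [hqi, show n * (U.tq * q) * n⁻¹ = n * U.tq * n⁻¹ * (n * q * n⁻¹) by group, nt,
                mul_inv_cancel_right, ← mul_assoc, hq.1.2.1, mul_assoc]
          have e2 : g * (q * s * q⁻¹) * g⁻¹ = g * (q * (n * q⁻¹ * n⁻¹)) * g⁻¹ * (g * n * g⁻¹) * (g * k * g⁻¹) := by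
            rw [hns, show q * (n * k) * q⁻¹ = q * n * (k * q⁻¹) by group, hqk.inv_right.eq]; group
          rw [e2]
          refine mul_mem (mul_mem ?_ (e0le hgn)) ?_
          · rcases hw with h' | h' <;> rw [h']
            · rw [B.E32_eq]; exact B.dia_mem hq
            · rw [← conj_mul]
              exact mul_mem (e0le hgt) (by rw [B.E32_eq]; exact B.dia_mem hq)
          · have : g * k * g⁻¹ = (g * n * g⁻¹)⁻¹ * B.L2.ρ σ := by rw [e1, hns]; group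
            rw [this]
            exact e0le (mul_mem (inv_mem hgn) (B.mem_E0.mpr hσ))
      · show g * q * g⁻¹ * B.dia y * (g * q * g⁻¹)⁻¹ ∈ B.E32
        have e : g * q * g⁻¹ * B.dia y * (g * q * g⁻¹)⁻¹ =
            g * (q * y * q⁻¹ * y⁻¹) * g⁻¹ * B.dia y := by
          have hc : Commute q (n * y * n⁻¹) := B.comm_Qa hq hy
          rw [dia, ← hg, ← hn, conj_mul, show g * (q * (y * (n * y * n⁻¹))) * g⁻¹ * (g * q * g⁻¹)⁻¹ =
            g * (q * y * ((n * y * n⁻¹) * q⁻¹)) * g⁻¹ by group, (hc.inv_left).symm.eq]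
          group
        rw [e]
        refine mul_mem (e0le ?_) (by rw [B.E32_eq]; exact B.dia_mem hy)
        obtain ⟨htC, -, -, htf, -⟩ := U.tq_facts B.h8
        have hmem : q * y * q⁻¹ * y⁻¹ ∈ U.Qa B.h8 :=
          mul_mem (mul_mem (mul_mem hq hy) (inv_mem hq)) (inv_mem hy)
        have hval : X.f (q * y * q⁻¹ * y⁻¹) = X.f q * X.f y * (X.f q)⁻¹ * (X.f y)⁻¹ := by
          rw [X.f_mul (mul_mem (mul_mem hq.1.1 hy.1.1) (inv_mem hq.1.1)) (inv_mem hy.1.1),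
            X.f_mul (mul_mem hq.1.1 hy.1.1) (inv_mem hq.1.1), X.f_mul hq.1.1 hy.1.1, X.f_inv hq.1.1,
            X.f_inv hy.1.1]
        rcases q8_commutator _ hq.1.2.2 _ hy.1.2.2 with h | h
        · rw [U.Qa_inj B.h8 hmem (one_mem _) (by rw [hval, h, X.f_one]), mul_one, mul_inv_cancel]
          exact one_mem _
        · rw [U.Qa_inj B.h8 hmem (U.tq_mem_Qa B.h8) (by rw [hval, h, htf])]
          exact hgt
    exact fun z hz => hle hz))
  have hQbK : B.Qb ≤ K := by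
    intro z hz
    have hni : n⁻¹ = n := inv_eq_of_mul_eq_one_right n2
    obtain ⟨q, hq, rfl⟩ := hz
    show U.f (of 108) * q * (U.f (of 108))⁻¹ ∈ K
    exact mul_mem (mul_mem hmK (hQK hq)) (inv_mem hmK)
  have hDK : B.Du ≤ K := by
    intro d hd
    obtain ⟨i, j, n0, hn0, -, -, rfl⟩ := hN.dec d hd
    exact mul_mem (mul_mem (((sup_le (sup_le hUK hQK) hQbK)) (B.Nu_le hN hn0)) (pow_mem heK i)) (pow_mem hmK j)
  have hmem : g⁻¹ * x * g ∈ B.Du := Subgroup.mem_centralizer_iff.mpr fun y hy => by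
    obtain ⟨τ, hτ, rfl⟩ := hy
    have h : x * (g * B.L2.ρ τ * g⁻¹) = g * B.L2.ρ τ * g⁻¹ * x := by
      rw [hg, gm, ← map_inv, ← map_mul, ← map_mul]; exact hx τ hτ
    calc B.L2.ρ τ * (g⁻¹ * x * g) = g⁻¹ * (g * B.L2.ρ τ * g⁻¹ * x) * g := by group
      _ = g⁻¹ * (x * (g * B.L2.ρ τ * g⁻¹)) * g := by rw [h]
      _ = _ := by group
  have h := hKm.mp (hDK hmem)
  rwa [show g * (g⁻¹ * x * g) * g⁻¹ = x by group] at h

/-- The transpositions of two complements commute. -/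
theorem r02 : Commute (B.L0.ρ sT) (B.L2.ρ sT) := by
  classical
  obtain ⟨eA, hT1, hTU, hTV, hUV⟩ := u_facts
  set s := U.f (of 648) with hs
  have r0e : B.L0.ρ sT = s * B.L2.ρ sT * s⁻¹ := B.L0_apply sT
  have r1e : B.L1.ρ sT = s * B.L0.ρ sT * s⁻¹ := B.L1_apply sT
  have h12 : Commute (B.L2.ρ sT) (B.L1.ρ sT) := by
    have hu2 : B.L2.ρ dA ∈ B.E32 := Subgroup.mem_sup_left (B.mem_E0.mpr e0_mem.2.1)
    have hu1 : B.L1.ρ (sT * sU) ∈ B.E32 := Subgroup.mem_sup_right ⟨_, hT1, rfl⟩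
    have h := B.E32_comm hu2 hu1
    rw [eA, map_mul, map_mul, B.vV, B.vals1.2.2.1] at h
    set a := B.L2.ρ sT
    set b := B.L1.ρ sT
    set p := U.f (of 18)
    set r := U.f (of 108)
    have c1 : Commute p b := B.flip_one sT
    have c2 : Commute r a := B.flip_two sT
    have c3 : Commute r p := by rw [show p = B.L2.ρ sV from B.vV.symm]; exact B.flip_two sV
    rw [show a * p * (b * r) = a * (p * b) * r by group, c1.eq,
      show b * r * (a * p) = b * (r * a) * p by group, c2.eq,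
      show a * (b * p) * r = a * b * (p * r) by group, ← c3.eq,
      show b * (a * r) * p = b * a * (r * p) by group] at h
    exact mul_right_cancel h
  have hs3 : s * s * s = 1 := by
    rw [hs, ← U.f_mul (U.top8 B.h8 _) (U.top8 B.h8 _), ← U.f_mul (U.top8 B.h8 _) (U.top8 B.h8 _),
      show of 648 * of 648 * of 648 = (1 : Mon) from code_eq.mpr (by
        rw [code_mul, code_mul, code_of (by norm_num), code_one]; decide +kernel), U.f_one]
  show Commute (B.L0.ρ sT) (B.L2.ρ sT)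
  have r2e : B.L2.ρ sT = s * B.L1.ρ sT * s⁻¹ := by
    rw [r1e, r0e]
    calc B.L2.ρ sT = (s * s * s) * B.L2.ρ sT * (s * s * s)⁻¹ := by rw [hs3]; group
      _ = _ := by group
  rw [r0e]
  nth_rewrite 2 [r2e]
  show _ = _
  rw [conj_mul, conj_mul, h12.eq]

/-- The complement of the first axis normalizes the group. -/
theorem L0_norm (σ : P6) : B.L0.ρ σ ∈ Subgroup.normalizer (B.E32 : Set G) := by
  classical
  obtain ⟨eA, hT1, hTU, hTV, hUV⟩ := u_facts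
  have h20 := B.r02
  set M := (Subgroup.normalizer (B.E32 : Set G)).comap B.L0.ρ with hM
  have hA : sA ∈ M := by
    show B.L0.ρ sA ∈ Subgroup.normalizer (B.E32 : Set G)
    rw [B.vals0.1]; exact B.W_norm B.three_vals.1
  have hB : sB ∈ M := by
    show B.L0.ρ sB ∈ Subgroup.normalizer (B.E32 : Set G)
    rw [B.vals0.2.1]; exact B.W_norm B.three_vals.2
  have hT : sT ∈ M := by
    show B.L0.ρ sT ∈ Subgroup.normalizer (B.E32 : Set G)
    have cU : Commute (B.L0.ρ sT) (B.L2.ρ sU) := by rw [B.vU]; exact (B.flip_zero sT).symm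
    have cV : Commute (B.L0.ρ sT) (B.L2.ρ sV) := by
      rw [B.vV, ← B.vals0.2.2.1]
      show _ = _
      rw [← map_mul, ← map_mul, hTU]
    refine B.Ug_norm fun τ hτ => ?_
    obtain ⟨ρ, hρ, e⟩ := List.any_eq_true.mp (s8_gam τ hτ)
    rw [beq_iff_eq] at e
    rw [← e]
    simp only [List.mem_cons, List.not_mem_nil, or_false] at hρ
    show Commute _ _
    rcases hρ with rfl | rfl | rfl | rfl | rfl | rfl | rfl | rfl <;> try simp only [map_one, map_mul]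
    · exact Commute.one_right _
    · exact cU
    · exact h20
    · exact cV
    · exact cU.mul_right h20
    · exact cU.mul_right cV
    · exact h20.mul_right cV
    · exact (cU.mul_right h20).mul_right cV
  have cross : ∀ i j : Fin 6, (i : ℕ) < 3 → 3 ≤ (j : ℕ) → Equiv.swap i j ∈ M := by
    intro i j hi hj
    obtain ⟨a, b, e⟩ := swap_cross i j hi hj
    rw [← e]
    have h := mul_mem (pow_mem hA a) (pow_mem hB b)
    exact mul_mem (mul_mem h hT) (inv_mem h)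
  have cross' : ∀ i j : Fin 6, ((i : ℕ) < 3 ↔ ¬ (j : ℕ) < 3) → Equiv.swap i j ∈ M := by
    intro i j h
    by_cases hi : (i : ℕ) < 3
    · exact cross i j hi (Nat.le_of_not_lt (h.mp hi))
    · rw [Equiv.swap_comm]
      exact cross j i (by by_contra hj; exact hi (h.mpr hj)) (Nat.le_of_not_lt hi)
  suffices h : σ ∈ M from h
  induction σ using Equiv.Perm.swap_induction_on with
  | one => exact one_mem _
  | swap_mul f i j hij hf =>
    refine mul_mem ?_ hf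
    by_cases h : ((i : ℕ) < 3 ↔ (j : ℕ) < 3)
    · obtain ⟨k, hk, e⟩ := swap_same i j hij h
      rw [← e]
      have h1 := cross' i k (by tauto)
      exact mul_mem (mul_mem h1 (cross' j k (by tauto))) h1
    · exact cross' i j (by tauto)

end Big

end CfsgLib.PSpFourThree
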