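import Cfsg.Agent.Lib.PSpFourThree.Eight.Alpha

/-!
The large case: the centralizer of the fixed involution acting on twelve points.
-/

set_option autoImplicit false
set_option maxRecDepth 20000
set_option linter.style.haveILetI false
set_option linter.unusedSectionVars false

namespace CfsgLib.PSpFourThree

open CfsgLib.SymNineThree CfsgLib.SymNineThree.Mon
open CfsgLib.SymNineThree.Six (sA sB sU sV sW sT)

attribute [local instance 2000] List.decidableBAll List.decidableBEx

/-- Twelve points as six pairs. -/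
def pts : Fin 6 × Fin 2 ≃ Fin 12 := finProdFinEquiv

/-- The signed permutation of six pairs. -/
def mono (β : Fin 6 → Fin 2) (σ : P6) : Equiv.Perm (Fin 12) :=
  pts.permCongr
    { toFun := fun p => (σ p.1, p.2 + β (σ p.1))
      invFun := fun p => (σ.symm p.1, p.2 + β p.1)
      left_inv := fun p => by
        have h : ∀ a b : Fin 2, a + b + b = a := by decide
        simp [h]
      right_inv := fun p => by
        have h : ∀ a b : Fin 2, a + b + b = a := by decide
        simp [h] }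

theorem mono_apply (β : Fin 6 → Fin 2) (σ : P6) (p : Fin 6) (b : Fin 2) :
    mono β σ (pts (p, b)) = pts (σ p, b + β (σ p)) := by
  simp [mono, Equiv.permCongr_apply]

theorem mono_ext {π π' : Equiv.Perm (Fin 12)} (h : ∀ p b, π (pts (p, b)) = π' (pts (p, b))) : π = π' := by
  ext x
  obtain ⟨⟨p, b⟩, rfl⟩ := pts.surjective x
  rw [h]

theorem mono_mul (β β' : Fin 6 → Fin 2) (σ σ' : P6) :
    mono β σ * mono β' σ' = mono (fun q => β q + β' (σ⁻¹ q)) (σ * σ') := by
  refine mono_ext fun p b => ?_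
  have h : ∀ a x y : Fin 2, a + y + x = a + (x + y) := by decide
  rw [Equiv.Perm.mul_apply, mono_apply, mono_apply, mono_apply]
  simp [Equiv.Perm.mul_apply, h]

theorem mono_inj {β β' : Fin 6 → Fin 2} {σ σ' : P6} (h : mono β σ = mono β' σ') : β = β' ∧ σ = σ' := by
  have hs : ∀ p, σ p = σ' p ∧ (0 : Fin 2) + β (σ p) = 0 + β' (σ' p) := fun p => by
    have := congrArg (fun π : Equiv.Perm (Fin 12) => π (pts (p, 0))) h
    simp only [mono_apply] at this
    exact Prod.ext_iff.mp (pts.injective this)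
  have e : σ = σ' := Equiv.ext fun p => (hs p).1
  subst e
  refine ⟨funext fun q => ?_, rfl⟩
  obtain ⟨p, rfl⟩ := σ.surjective q
  simpa using (hs p).2

theorem mono_one : mono (fun _ => 0) 1 = 1 := by
  refine mono_ext fun p b => ?_
  rw [mono_apply]
  simp

/-- The fixed point free involution. -/
def cTwelve : Equiv.Perm (Fin 12) :=
  Equiv.swap (0 : Fin 12) 1 * Equiv.swap (2 : Fin 12) 3 * Equiv.swap (4 : Fin 12) 5 *
    Equiv.swap (6 : Fin 12) 7 * Equiv.swap (8 : Fin 12) 9 * Equiv.swap (10 : Fin 12) 11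

theorem cTwelve_apply : ∀ p : Fin 6, ∀ b : Fin 2, cTwelve (pts (p, b)) = pts (p, b + 1) := by decide +kernel

theorem exists_mono {π : Equiv.Perm (Fin 12)} (h : π * cTwelve = cTwelve * π) :
    ∃ β σ, π = mono β σ := by
  classical
  let f := pts.symm.permCongr π
  have hf : ∀ p b, f (p, b + 1) = ((f (p, b)).1, (f (p, b)).2 + 1) := by
    intro p b
    have e := congrArg (fun k : Equiv.Perm (Fin 12) => k (pts (p, b))) h
    simp only [Equiv.Perm.mul_apply, cTwelve_apply] at e
    obtain ⟨⟨q, c⟩, hq⟩ := pts.surjective (π (pts (p, b)))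
    rw [← hq, cTwelve_apply] at e
    simp [f, Equiv.permCongr_apply, e, ← hq]
  have hinj : Function.Injective fun p => (f (p, 0)).1 := by
    intro p q hpq
    by_cases h2 : (f (p, 0)).2 = (f (q, 0)).2
    · have h3 : ((p, 0) : Fin 6 × Fin 2) = (q, 0) := f.injective (Prod.ext hpq h2)
      exact congrArg Prod.fst h3
    · have h1 : ∀ a b : Fin 2, a ≠ b → a + 1 = b := by decide
      have h3 : f (p, 0 + 1) = f (q, 0) := by rw [hf]; exact Prod.ext hpq (h1 _ _ h2)
      exact congrArg Prod.fst (f.injective h3)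
  let σ : P6 := Equiv.ofBijective _ (Finite.injective_iff_bijective.mp hinj)
  refine ⟨fun q => (f (σ.symm q, 0)).2, σ, mono_ext fun p b => ?_⟩
  rw [mono_apply, σ.symm_apply_apply]
  have hσ : σ p = (f (p, 0)).1 := rfl
  have hπ : ∀ x, π (pts x) = pts (f x) := fun x => by simp [f, Equiv.permCongr_apply]
  rw [hπ, hσ]
  have hb : b = 0 ∨ b = 0 + 1 := by revert b; decide
  refine congrArg pts ?_
  rcases hb with rfl | rfl
  · rw [zero_add]
  · rw [hf, add_comm (f (p, 0)).2 1, zero_add]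

theorem sign_flip (β : Fin 6 → Fin 2) : Equiv.Perm.sign (mono β 1) = (-1) ^ ((∑ p, β p : Fin 2) : ℕ) := by
  have add : ∀ a b : Fin 6 → Fin 2, mono (a + b) 1 = mono a 1 * mono b 1 := fun a b => by
    rw [mono_mul, one_mul]
    rfl
  have single : ∀ p : Fin 6, mono (Pi.single p 1) 1 = Equiv.swap (pts (p, 0)) (pts (p, 1)) := by decide +kernel
  have hs : ∀ a : Fin 2, ∀ p : Fin 6, Equiv.Perm.sign (mono (Pi.single p a) 1) = (-1) ^ (a : ℕ) := by
    intro a p
    have ha : a = 0 ∨ a = 1 := by revert a; decide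
    rcases ha with rfl | rfl
    · rw [Pi.single_zero, show (0 : Fin 6 → Fin 2) = fun _ => 0 from rfl, mono_one]
      simp
    · rw [single, Equiv.Perm.sign_swap (pts.injective.ne (by simp))]
      simp
  have hpow : ∀ a b : Fin 2, ((-1 : ℤˣ) ^ (a : ℕ)) * (-1) ^ (b : ℕ) = (-1) ^ ((a + b : Fin 2) : ℕ) := by decide
  have key : ∀ s : Finset (Fin 6), Equiv.Perm.sign (mono (∑ p ∈ s, Pi.single p (β p)) 1) =
      (-1) ^ ((∑ p ∈ s, β p : Fin 2) : ℕ) := by
    intro s
    induction s using Finset.induction_on with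
    | empty =>
      rw [Finset.sum_empty, Finset.sum_empty, show (0 : Fin 6 → Fin 2) = fun _ => 0 from rfl, mono_one]
      simp
    | insert p s hp ih =>
      rw [Finset.sum_insert hp, Finset.sum_insert hp, add, map_mul, hs, ih, hpow]
  have h := key Finset.univ
  rwa [Finset.univ_sum_single] at h

theorem sign_lift (σ : P6) : Equiv.Perm.sign (mono (fun _ => 0) σ) = 1 := by
  induction σ using Equiv.Perm.swap_induction_on with
  | one => rw [mono_one, map_one]
  | swap_mul f i j hij hf =>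
    have e : mono (fun _ => 0) (Equiv.swap i j * f) = mono (fun _ => 0) (Equiv.swap i j) * mono (fun _ => 0) f := by
      rw [mono_mul]; simp
    have hsw : ∀ i j : Fin 6, i ≠ j → mono (fun _ => 0) (Equiv.swap i j) =
        Equiv.swap (pts (i, 0)) (pts (j, 0)) * Equiv.swap (pts (i, 1)) (pts (j, 1)) := by decide +kernel
    rw [e, map_mul, hf, mul_one, hsw i j hij, map_mul, Equiv.Perm.sign_swap (pts.injective.ne (by simp [hij])),
      Equiv.Perm.sign_swap (pts.injective.ne (by simp [hij]))]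
    simp

theorem sign_mono (β : Fin 6 → Fin 2) (σ : P6) :
    Equiv.Perm.sign (mono β σ) = (-1) ^ ((∑ p, β p : Fin 2) : ℕ) := by
  have e : mono β σ = mono β 1 * mono (fun _ => 0) σ := by rw [mono_mul]; simp
  rw [e, map_mul, sign_lift, mul_one, sign_flip]

universe u

variable {G : Type u} [Group G] [Finite G] {X : Ctx G}

namespace Big

variable {U : Coord X} (B : Big U)

include B

/-- The elementary group is commutative. -/
@[instance_reducible] noncomputable def commE : CommGroup B.E32 :=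
  { (inferInstance : Group B.E32) with mul_comm := fun a b => Subtype.ext (B.E32_comm a.2 b.2) }

/-- The element of a set of points. -/
noncomputable def vec (β : Fin 6 → Fin 2) : B.E32 :=
  letI := B.commE
  ∏ p : Fin 6, (⟨B.pr 0 p, B.pr_mem 0 p⟩ : B.E32) ^ (β p : ℕ)

theorem vec_add (β β' : Fin 6 → Fin 2) : B.vec (fun p => β p + β' p) = B.vec β * B.vec β' := by
  letI := B.commE
  show ∏ p, _ = (∏ p, _) * ∏ p, _
  rw [← Finset.prod_mul_distrib]
  refine Finset.prod_congr rfl fun p _ => ?_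
  have h2 : (⟨B.pr 0 p, B.pr_mem 0 p⟩ : B.E32) ^ 2 = 1 := Subtype.ext (by
    simp [pow_two, B.pr_sq])
  rw [← pow_add, pow_eq_pow_mod ((β p : ℕ) + β' p) h2, ← Fin.val_add]

theorem vec_pair {i j : Fin 6} (h : i ≠ j) :
    (B.vec (fun p => if p = i ∨ p = j then 1 else 0) : G) = B.pr i j := by
  letI := B.commE
  show ((∏ p, _ : B.E32) : G) = _
  rw [← Finset.prod_subset (Finset.subset_univ ({i, j} : Finset (Fin 6))) (fun p _ hp => by
      rw [Finset.mem_insert, Finset.mem_singleton] at hp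
      simp [hp]), Finset.prod_pair h]
  show ((_ * _ : B.E32) : G) = _
  rw [Subgroup.coe_mul]
  simp only [true_or, or_true, if_true, Fin.val_one, pow_one]
  rw [B.pr_symm 0 i, B.pr_trans]

theorem vec_all : (B.vec (fun _ => 1) : G) = U.f (of 3) := by
  letI := B.commE
  have e : B.vec (fun _ => 1) = ⟨U.f (of 3), B.alpha_E⟩ := by
    have h12 := B.hole (a := 1) (b := 2) (c := 0) (d := 3) (e := 4) (f := 5) (by decide) (by decide) (by decide)
      (by decide) (by decide) (by decide) (by decide) (by decide) (by decide) (by decide) (by decide)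
      (by decide) (by decide) (by decide) (by decide)
    have h1 : (B.vec (fun p => if p = 1 ∨ p = 2 then 1 else 0) : G) = B.pr 1 2 := B.vec_pair (by decide)
    have h2 : (B.vec (fun p => if p = 0 ∨ p = 3 then 1 else 0) : G) = B.pr 0 3 := B.vec_pair (by decide)
    have h3 : (B.vec (fun p => if p = 4 ∨ p = 5 then 1 else 0) : G) = B.pr 4 5 := B.vec_pair (by decide)
    have hsum : (fun _ : Fin 6 => (1 : Fin 2)) = fun p =>
        ((if p = 1 ∨ p = 2 then 1 else 0) + (if p = 0 ∨ p = 3 then 1 else 0)) +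
          (if p = 4 ∨ p = 5 then 1 else 0) := by decide
    refine Subtype.ext ?_
    show (B.vec _ : G) = U.f (of 3)
    rw [hsum, B.vec_add, B.vec_add, Subgroup.coe_mul, Subgroup.coe_mul, h1, h2, h3, h12]
  rw [e]

theorem vec_conj (σ : P6) (β : Fin 6 → Fin 2) (h : ∑ p, β p = 0) :
    B.L0.ρ σ * (B.vec β : G) * (B.L0.ρ σ)⁻¹ = B.vec (fun q => β (σ⁻¹ q)) := by
  letI := B.commE
  let φ : B.E32 →* B.E32 := MonoidHom.mk' (fun x => ⟨B.L0.ρ σ * x * (B.L0.ρ σ)⁻¹, B.L0_conj_E σ x.2⟩)
    (fun x y => Subtype.ext (by simp [mul_assoc]))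
  let u : Fin 6 → B.E32 := fun p => ⟨B.pr 0 p, B.pr_mem 0 p⟩
  have hu : ∀ p, φ (u p) = u (σ 0) * u (σ p) := fun p => Subtype.ext (by
    show B.L0.ρ σ * B.pr 0 p * (B.L0.ρ σ)⁻¹ = B.pr 0 (σ 0) * B.pr 0 (σ p)
    rw [B.pr_conj, B.pr_symm 0 (σ 0), B.pr_trans])
  have hsq : u (σ 0) ^ 2 = 1 := Subtype.ext (by simp [u, pow_two, B.pr_sq])
  have key : φ (B.vec β) = B.vec (fun q => β (σ⁻¹ q)) := by
    show φ (∏ p, u p ^ (β p : ℕ)) = ∏ q, u q ^ (β (σ⁻¹ q) : ℕ)
    rw [map_prod]
    simp only [map_pow, hu, mul_pow]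
    rw [Finset.prod_mul_distrib, Finset.prod_pow_eq_pow_sum]
    have hz : (∑ p, (β p : ℕ)) % 2 = 0 := by
      have hh : ∀ s : Finset (Fin 6), ((∑ p ∈ s, β p : Fin 2) : ℕ) = (∑ p ∈ s, (β p : ℕ)) % 2 := by
        intro s
        induction s using Finset.induction_on with
        | empty => simp
        | insert p s hp ih =>
          rw [Finset.sum_insert hp, Finset.sum_insert hp, Fin.val_add, ih, Nat.add_mod_mod]
      rw [← hh Finset.univ, h]; rfl
    rw [pow_eq_pow_mod _ hsq, hz, pow_zero, one_mul]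
    exact Fintype.prod_equiv σ _ _ (fun p => by simp)
  exact congrArg Subtype.val key

theorem vec_eq_one {β : Fin 6 → Fin 2} (hs : ∑ p, β p = 0) (h : B.vec β = 1) : β = fun _ => 0 := by
  by_cases hc : ∀ i j, β i = β j
  · by_contra hne
    have h1 : β = fun _ => 1 := by
      funext p
      have hb : ∀ a : Fin 2, a = 0 ∨ a = 1 := by decide
      rcases hb (β p) with e | e
      · exact absurd (funext fun q => (hc q p).trans e) hne
      · exact e
    have h2 : U.f (of 3) = 1 := by rw [← B.vec_all, ← h1, h]; rfl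
    have := U.f_eq_one (U.top8 B.h8 _) h2
    exact absurd (congrArg (fun z : Mon => (z.c : ℕ)) this) (by rw [code_of (by norm_num), code_one]; norm_num)
  · exfalso
    push Not at hc
    obtain ⟨i, j, hij⟩ := hc
    have hne : i ≠ j := fun e => hij (by rw [e])
    have h' := B.vec_conj (Equiv.swap i j) β hs
    rw [h, OneMemClass.coe_one, mul_one, mul_inv_cancel] at h'
    have e : (fun q => β q + β ((Equiv.swap i j)⁻¹ q)) = fun p => if p = i ∨ p = j then 1 else 0 := by
      funext q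
      have hf : ∀ a b : Fin 2, (a ≠ b → a + b = 1) ∧ a + a = 0 := by decide
      rw [Equiv.swap_inv]
      by_cases hq : q = i ∨ q = j
      · rw [if_pos hq]
        rcases hq with rfl | rfl
        · rw [Equiv.swap_apply_left]; exact (hf _ _).1 hij
        · rw [Equiv.swap_apply_right]; exact (hf _ _).1 (Ne.symm hij)
      · rw [if_neg hq]
        push Not at hq
        rw [Equiv.swap_apply_of_ne_of_ne hq.1 hq.2]; exact (hf _ (β q)).2
    have h2 := B.vec_pair hne
    rw [← e, B.vec_add, Subgroup.coe_mul, h, ← h'] at h2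
    exact (B.pr_ne hne).1 (by rw [← h2]; simp)

theorem vec_surj {x : G} (hx : x ∈ B.E32) : ∃ β : Fin 6 → Fin 2, ∑ p, β p = 0 ∧ (B.vec β : G) = x := by
  have hsum : ∀ i j : Fin 6, i ≠ j → (∑ p : Fin 6, (if p = i ∨ p = j then 1 else 0 : Fin 2)) = 0 := by
    decide +kernel
  have hpr : ∀ i j, ∃ β : Fin 6 → Fin 2, ∑ p, β p = 0 ∧ (B.vec β : G) = B.pr i j := fun i j => by
    rcases eq_or_ne i j with rfl | h
    · refine ⟨fun _ => 0, by simp, ?_⟩
      rw [B.pr_self]
      letI := B.commE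
      show ((∏ p, _ : B.E32) : G) = 1
      simp
    · exact ⟨_, hsum i j h, B.vec_pair h⟩
  obtain ⟨i, j, e | e⟩ := B.E32_cases hx
  · rw [e]; exact hpr i j
  · obtain ⟨β, h1, h2⟩ := hpr i j
    refine ⟨fun p => 1 + β p, ?_, ?_⟩
    · rw [Finset.sum_add_distrib, h1]; decide
    · rw [B.vec_add, Subgroup.coe_mul, B.vec_all, h2, e]

/-- The centralizer is that of a fixed point free involution in the alternating group of degree twelve. -/
theorem cent_iso : Nonempty (↥(Subgroup.centralizer ({U.f (of 3)} : Set G)) ≃*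
    ↥(alternatingGroup (Fin 12) ⊓ Subgroup.centralizer ({cTwelve} : Set (Equiv.Perm (Fin 12))))) := by
  classical
  set K := alternatingGroup (Fin 12) ⊓ Subgroup.centralizer ({cTwelve} : Set (Equiv.Perm (Fin 12)))
  set C := Subgroup.centralizer ({U.f (of 3)} : Set G)
  have hfin : ∀ a : Fin 2, ((-1 : ℤˣ) ^ (a : ℕ) = 1 ↔ a = 0) := by decide
  have dec : ∀ x : K, ∃ p : (Fin 6 → Fin 2) × P6, (x : Equiv.Perm (Fin 12)) = mono p.1 p.2 ∧
      ∑ q, p.1 q = 0 := by
    intro x
    obtain ⟨β, σ, e⟩ := exists_mono (mem_centralizer_iff'.mp x.2.2)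
    refine ⟨⟨β, σ⟩, e, (hfin _).mp ?_⟩
    rw [← sign_mono β σ, ← e]
    exact Equiv.Perm.mem_alternatingGroup.mp x.2.1
  choose p hp hp0 using dec
  have hmem : ∀ x : K, (B.vec (p x).1 : G) * B.L0.ρ (p x).2 ∈ C := fun x =>
    ((mul_mem (B.E32_le_HH (B.vec (p x).1).2) (B.L0_mem (p x).2) : _ ∈ B.HH)).2
  let φ : K →* C := MonoidHom.mk' (fun x => ⟨(B.vec (p x).1 : G) * B.L0.ρ (p x).2, hmem x⟩) (fun x y => by
    refine Subtype.ext ?_
    have h : mono (p (x * y)).1 (p (x * y)).2 =
        mono (fun q => (p x).1 q + (p y).1 ((p x).2⁻¹ q)) ((p x).2 * (p y).2) := by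
      rw [← mono_mul, ← hp, ← hp, ← hp, Subgroup.coe_mul]
    obtain ⟨h1, h2⟩ := mono_inj h
    show (B.vec (p (x * y)).1 : G) * B.L0.ρ (p (x * y)).2 =
      (B.vec (p x).1 : G) * B.L0.ρ (p x).2 * ((B.vec (p y).1 : G) * B.L0.ρ (p y).2)
    rw [h1, h2, B.vec_add, Subgroup.coe_mul, ← B.vec_conj _ _ (hp0 y), map_mul]
    group)
  have hinj : Function.Injective φ := by
    rw [injective_iff_map_eq_one]
    intro x hx
    have h : (B.vec (p x).1 : G) * B.L0.ρ (p x).2 = 1 := congrArg Subtype.val hx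
    have hs : (p x).2 = 1 := B.L0_inter (by
      rw [eq_inv_of_mul_eq_one_right h]; exact inv_mem (B.vec (p x).1).2)
    rw [hs, map_one, mul_one] at h
    refine Subtype.ext ?_
    rw [hp x, hs, B.vec_eq_one (hp0 x) (Subtype.ext h), mono_one]
    rfl
  have hsurj : Function.Surjective φ := by
    rintro ⟨g, hg⟩
    obtain ⟨σ, w, hw, rfl⟩ := B.HH_dec (B.cent_alpha (mem_centralizer_iff'.mp hg))
    obtain ⟨β, hβ, hv⟩ := B.vec_surj (B.L0_conj_E σ hw)
    have hc : mono β σ * cTwelve = cTwelve * mono β σ := mono_ext fun q b => by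
      have h : ∀ a c : Fin 2, a + 1 + c = a + c + 1 := by decide
      simp [Equiv.Perm.mul_apply, cTwelve_apply, mono_apply, h]
    let x : K := ⟨mono β σ, Equiv.Perm.mem_alternatingGroup.mpr (by rw [sign_mono, hβ]; rfl),
      mem_centralizer_iff'.mpr hc⟩
    refine ⟨x, Subtype.ext ?_⟩
    obtain ⟨h1, h2⟩ := mono_inj (hp x).symm
    show (B.vec (p x).1 : G) * B.L0.ρ (p x).2 = B.L0.ρ σ * w
    rw [h1, h2, hv, inv_mul_cancel_right]
  exact ⟨(MulEquiv.ofBijective φ ⟨hinj, hsurj⟩).symm⟩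

end Big

end CfsgLib.PSpFourThree
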