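import Cfsg.Agent.Lib.PSpFourThree.Eight.Big

/-!
The last kind: classes of involutions told apart by the three-elements of their centralizers.
-/

set_option autoImplicit false
set_option maxRecDepth 20000
set_option linter.style.haveILetI false
set_option linter.unusedSectionVars false

namespace CfsgLib.PSpFourThree

open CfsgLib.SymNineThree CfsgLib.SymNineThree.Mon
open CfsgLib.SymNineThree.Six (sA sB sU sV sW sT)

attribute [local instance 2000] List.decidableBAll List.decidableBEx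

universe u

variable {G : Type u} [Group G] [Finite G] {X : Ctx G}

theorem cent_flip_code : ((List.range 27).all fun v => !Nat.beq (mulM (trC v) 108) (mulM 108 (trC v)) ||
    (Nat.ble v 8 && Nat.ble (wtV v) 2)) = true := by decide +kernel

theorem cent_inv_code : ((List.range 1296).all fun x => !Nat.beq (mulM x x) 0 ||
    !Nat.beq (mulM (mulM x (trC 13)) (invM x)) (trC 26) || !Nat.beq (mulM x (trC 7)) (mulM (trC 7) x) ||
    (List.range 27).all fun v => !Nat.beq (mulM (trC v) x) (mulM x (trC v)) ||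
      [0, 5, 7].any fun w => Nat.beq w v) = true := by decide +kernel

theorem cent_two_code : ((List.range 27).all fun v => !Nat.beq (mulM (trC v) 540) (mulM 540 (trC v)) ||
    [0, 4, 8].any fun w => Nat.beq w v) = true := by decide +kernel

theorem cent_double_code : ((List.range 27).all fun v => !Nat.beq (mulM (trC v) 21) (mulM 21 (trC v)) ||
    [0, 9, 18].any fun w => Nat.beq w v) = true := by decide +kernel

theorem wt_values : ∀ v : Fin 27, (v : ℕ) = 0 ∨ wtV v = 1 ∨ wtV v = 2 ∨ wtV v = 3 := by decide +kernel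

theorem wt_invariant : ((List.range 1296).all fun x => (List.range 27).all fun v =>
    Nat.beq (wtV (vecT (mulM (mulM x (trC v)) (invM x)))) (wtV v)) = true := by decide +kernel

theorem vec_trC : ∀ v : Fin 27, vecT (trC v) = (v : ℕ) := by decide +kernel

theorem weight_one_nine : ((List.range 9).all fun v => !Nat.beq (wtV v) 1 ||
    [1, 2, 3, 6].any fun w => Nat.beq w v) = true := by decide +kernel

theorem flip_pair : ∀ σ : P6, σ * (sU * sV) = sU * sV * σ → σ * σ * σ = 1 → σ = 1 := by decide +kernel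

/-- The image of an axis under the map determined by `a` and `b`. -/
def axF (a b w : ℕ) : ℕ :=
  cond (Nat.beq w 1) a (cond (Nat.beq w 2) (addV a a) (cond (Nat.beq w 3) b (addV b b)))

theorem four_fix' : ([1, 2, 3, 6].all fun a => [1, 2, 3, 6].all fun b => Nat.beq b a || Nat.beq b (addV a a) ||
    ([1, 2, 3, 6].contains (axF a b a) && [1, 2, 3, 6].contains (axF a b (axF a b a)) &&
      Nat.beq (axF a b (axF a b (axF a b a))) 1 && [1, 2, 3, 6].contains (axF a b b) &&
      [1, 2, 3, 6].contains (axF a b (axF a b b)) && Nat.beq (axF a b (axF a b (axF a b b))) 3)) = true := by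
  decide +kernel

theorem four_fix (a b : ℕ) (ha : a = 1 ∨ a = 2 ∨ a = 3 ∨ a = 6) (hb : b = 1 ∨ b = 2 ∨ b = 3 ∨ b = 6)
    (h1 : b ≠ a) (h2 : b ≠ addV a a) :
    (axF a b a = 1 ∨ axF a b a = 2 ∨ axF a b a = 3 ∨ axF a b a = 6) ∧
    (axF a b (axF a b a) = 1 ∨ axF a b (axF a b a) = 2 ∨ axF a b (axF a b a) = 3 ∨ axF a b (axF a b a) = 6) ∧
    axF a b (axF a b (axF a b a)) = 1 ∧
    (axF a b b = 1 ∨ axF a b b = 2 ∨ axF a b b = 3 ∨ axF a b b = 6) ∧
    (axF a b (axF a b b) = 1 ∨ axF a b (axF a b b) = 2 ∨ axF a b (axF a b b) = 3 ∨ axF a b (axF a b b) = 6) ∧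
    axF a b (axF a b (axF a b b)) = 3 := by
  have h := List.all_eq_true.mp (List.all_eq_true.mp four_fix' a (by simpa using ha)) b (by simpa using hb)
  simp only [Bool.or_eq_true, Nat.beq_eq, h1, h2, false_or, Bool.and_eq_true, List.contains_eq_mem,
    List.mem_cons, List.not_mem_nil, or_false, decide_eq_true_eq] at h
  obtain ⟨⟨⟨⟨⟨e1, e2⟩, e3⟩, e4⟩, e5⟩, e6⟩ := h
  exact ⟨e1, e2, e3, e4, e5, e6⟩

/-- An element of odd order fixes what its fourth power fixes. -/
theorem comm_of_pow_four {g z : G} {n : ℕ} (hn : g ^ 3 ^ n = 1) (h : g ^ 4 * z = z * g ^ 4) : g * z = z * g := by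
  obtain ⟨m, hm⟩ : ∃ m, g = (g ^ 4) ^ m := by
    have hco : Nat.Coprime 4 (orderOf g) :=
      Nat.Coprime.coprime_dvd_right (orderOf_dvd_of_pow_eq_one hn) (Nat.Coprime.pow_right n (by norm_num))
    obtain ⟨m, hm⟩ := exists_pow_eq_self_of_coprime hco
    exact ⟨m, hm.symm⟩
  rw [hm]
  exact ((show Commute (g ^ 4) z from h).pow_left m).eq

namespace Coord

variable (U : Coord X)

include U in
/-- Weights of vectors with an element of the group fusing them agree. -/
theorem wt_fusion {v w : ℕ} (hv : v < 27) (hw : w < 27) {g : G} (h : g * U.ι v * g⁻¹ = U.ι w) :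
    wtV v = wtV w := by
  obtain ⟨x, -, e⟩ := U.fusion hv hw h
  have hc := List.all_eq_true.mp (List.all_eq_true.mp wt_invariant _
    (List.mem_range.mpr x.c.isLt)) v (List.mem_range.mpr hv)
  rw [Nat.beq_eq] at hc
  have e' := congrArg (fun y : Mon => (y.c : ℕ)) e
  simp only [code_mul, code_inv, code_tr hv, code_tr hw] at e'
  rw [e', vec_trC ⟨w, hw⟩] at hc
  exact hc.symm

include U in
/-- Every three-element centralizing `x` has a weight in `W`. -/
def Only (x : G) (W : List ℕ) : Prop :=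
  ∀ v < 27, v ≠ 0 → ∀ g : G, g * U.ι v * g⁻¹ * x = x * (g * U.ι v * g⁻¹) → wtV v ∈ W

include U in
/-- Some three-element of weight `w` centralizes `x`. -/
def Has (x : G) (w : ℕ) : Prop :=
  ∃ v < 27, wtV v = w ∧ v ≠ 0 ∧ ∃ g : G, g * U.ι v * g⁻¹ * x = x * (g * U.ι v * g⁻¹)

theorem not_conj_of {x y : G} {W : List ℕ} {w : ℕ} (hx : U.Only x W) (hy : U.Has y w) (hw : w ∉ W)
    (g : G) : g * x * g⁻¹ ≠ y := by
  rintro rfl
  obtain ⟨v, hv, rfl, hv0, h, he⟩ := hy
  refine hw (hx v hv hv0 (g⁻¹ * h) ?_)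
  calc g⁻¹ * h * U.ι v * (g⁻¹ * h)⁻¹ * x = g⁻¹ * (h * U.ι v * h⁻¹ * (g * x * g⁻¹)) * g := by group
    _ = g⁻¹ * (g * x * g⁻¹ * (h * U.ι v * h⁻¹)) * g := by rw [he]
    _ = _ := by group

theorem Only.conj {x : G} {W : List ℕ} (h : U.Only x W) (g : G) : U.Only (g * x * g⁻¹) W := by
  intro v hv hv0 k hk
  refine h v hv hv0 (g⁻¹ * k) ?_
  calc g⁻¹ * k * U.ι v * (g⁻¹ * k)⁻¹ * x = g⁻¹ * (k * U.ι v * k⁻¹ * (g * x * g⁻¹)) * g := by group
    _ = g⁻¹ * (g * x * g⁻¹ * (k * U.ι v * k⁻¹)) * g := by rw [hk]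
    _ = _ := by group

theorem Has.conj {x : G} {w : ℕ} (h : U.Has x w) (g : G) : U.Has (g * x * g⁻¹) w := by
  obtain ⟨v, hv, hw, hv0, k, hk⟩ := h
  refine ⟨v, hv, hw, hv0, g * k, ?_⟩
  calc g * k * U.ι v * (g * k)⁻¹ * (g * x * g⁻¹) = g * (k * U.ι v * k⁻¹ * x) * g⁻¹ := by group
    _ = g * (x * (k * U.ι v * k⁻¹)) * g⁻¹ := by rw [hk]
    _ = _ := by group

theorem has_code (h8 : U.k = 3) {m v : ℕ} (hm : m < 1296) (hv : v < 27) (hv0 : v ≠ 0)
    (h : Nat.beq (mulM (trC v) m) (mulM m (trC v)) = true) : U.Has (U.f (of m)) (wtV v) := by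
  refine ⟨v, hv, rfl, hv0, 1, ?_⟩
  simp only [one_mul, inv_one, mul_one]
  exact (U.f_comm (tr_mem hv) (U.top8 h8 _)).mpr
    (comm_iff.mpr (by rw [code_of hm, code_tr hv]; exact Nat.eq_of_beq_eq_true h))

include U in
/-- A 3-subgroup containing all 3-elements normalizing it meets every class of 3-elements. -/
theorem only_of_norm {x : G} {W : List ℕ} (A : Subgroup G) (hA : IsPGroup 3 A)
    (hAJ : A ≤ X.J) (hAx : A ≤ Subgroup.centralizer ({x} : Set G))
    (hN : ∀ g : G, g * x = x * g → (∀ a ∈ A, g * a * g⁻¹ ∈ A) → (∃ n : ℕ, g ^ 3 ^ n = 1) → g ∈ A)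
    (hW : ∀ w < 27, w ≠ 0 → U.ι w ∈ A → wtV w ∈ W) : U.Only x W := by
  classical
  haveI : Fact (Nat.Prime 3) := ⟨Nat.prime_three⟩
  intro v hv hv0 g hg
  set H := Subgroup.centralizer ({x} : Set G)
  set y := g * U.ι v * g⁻¹ with hy
  have hyH : y ∈ H := mem_centralizer_iff'.mpr hg
  have hA' : IsPGroup 3 (A.subgroupOf H) := hA.comap_of_injective H.subtype H.subtype_injective
  obtain ⟨P, hP⟩ := hA'.exists_le_sylow
  have hPA : (P : Subgroup H) = A.subgroupOf H := by
    refine le_antisymm ?_ hP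
    by_contra hne
    haveI := P.isPGroup'.isNilpotent
    have hlt : (A.subgroupOf H).subgroupOf P < ⊤ := lt_top_iff_ne_top.mpr fun e =>
      hne (Subgroup.subgroupOf_eq_top.mp e)
    obtain ⟨q, hqN, hqM⟩ := SetLike.exists_of_lt
      (Group.normalizerCondition_of_isNilpotent ((A.subgroupOf H).subgroupOf P) hlt)
    obtain ⟨n, hn⟩ := P.isPGroup' q
    refine hqM ?_
    show ((q : H) : G) ∈ A
    refine hN _ (mem_centralizer_iff'.mp (q : H).2) (fun a ha => ?_)
      ⟨n, congrArg (fun z : (P : Subgroup H) => ((z : H) : G)) hn⟩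
    exact (Subgroup.mem_normalizer_iff.mp hqN ⟨⟨a, hAx ha⟩, hP ha⟩).mp ha
  have hy3 : y ^ 3 = 1 := by rw [hy, conj_pow, X.cube _ (U.ι_mem hv), mul_one, mul_inv_cancel]
  have hYp : IsPGroup 3 (Subgroup.zpowers (⟨y, hyH⟩ : H)) := by
    rintro ⟨z, hz⟩
    refine ⟨1, Subtype.ext ?_⟩
    obtain ⟨i, rfl⟩ := Subgroup.mem_zpowers_iff.mp hz
    show ((⟨y, hyH⟩ : H) ^ i) ^ 3 ^ 1 = 1
    rw [pow_one, ← zpow_natCast, ← zpow_mul, mul_comm, zpow_mul, zpow_natCast,
      show (⟨y, hyH⟩ : H) ^ 3 = 1 from Subtype.ext hy3, one_zpow]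
  obtain ⟨Q, hQ⟩ := hYp.exists_le_sylow
  obtain ⟨h, hh⟩ := MulAction.exists_smul_eq H Q P
  have hmem : h * ⟨y, hyH⟩ * h⁻¹ ∈ (P : Subgroup H) := by
    rw [← hh, Sylow.coe_subgroup_smul]
    exact ⟨_, hQ (Subgroup.mem_zpowers _), rfl⟩
  rw [hPA] at hmem
  have hmem' : (h : G) * y * (h : G)⁻¹ ∈ A := hmem
  obtain ⟨w, hw, hwy⟩ := U.exists_ι (hAJ hmem')
  have hconj : (h : G) * g * U.ι v * ((h : G) * g)⁻¹ = U.ι w := by rw [← hwy, hy]; group
  have hwt := U.wt_fusion hv hw hconj
  rw [hwt]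
  refine hW w hw (fun h0 => hv0 ?_) (hwy ▸ hmem')
  rw [h0, U.ι_zero, conj_eq_one_iff] at hconj
  exact U.ι_inj hv (by norm_num) (hconj.trans U.ι_zero.symm)

theorem only_flip (h8 : U.k = 3) : U.Only (U.f (of 108)) [1, 2] := by
  have hd := cent_flip_code
  have hwt := wt_values
  have hfour := weight_one_nine
  have hcomm : ∀ w < 27, U.ι w * U.f (of 108) = U.f (of 108) * U.ι w → w < 9 ∧ wtV w ≤ 2 := by
    intro w hw h
    have h' := comm_iff.mp ((U.f_comm (tr_mem hw) (U.top8 h8 _)).mp h)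
    rw [code_tr hw, code_of (by norm_num)] at h'
    have := List.all_eq_true.mp hd w (List.mem_range.mpr hw)
    simp only [h', Nat.beq_refl, Bool.not_true, Bool.false_or, Bool.and_eq_true, Nat.ble_eq] at this
    omega
  set A := X.J ⊓ Subgroup.centralizer ({U.f (of 108)} : Set G)
  have hmemA : ∀ w < 27, U.ι w ∈ A → w < 9 ∧ wtV w ≤ 2 := fun w hw h =>
    hcomm w hw (mem_centralizer_iff'.mp h.2)
  have h1 : U.ι 1 ∈ A := ⟨U.ι_mem (by norm_num), mem_centralizer_iff'.mpr
    (U.comm_f_ι h8 (by norm_num) (by norm_num) (by decide +kernel)).symm⟩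
  have h3 : U.ι 3 ∈ A := ⟨U.ι_mem (by norm_num), mem_centralizer_iff'.mpr
    (U.comm_f_ι h8 (by norm_num) (by norm_num) (by decide +kernel)).symm⟩
  refine U.only_of_norm A (X.S_pgroup.to_le (inf_le_left.trans X.J_le_S)) inf_le_left inf_le_right ?_ ?_
  · rintro g hgx hgA ⟨n, hn⟩
    have img : ∀ w < 27, wtV w = 1 → U.ι w ∈ A → ∃ w', (w' = 1 ∨ w' = 2 ∨ w' = 3 ∨ w' = 6) ∧
        g * U.ι w * g⁻¹ = U.ι w' := by
      intro w hw hwt' hwA
      obtain ⟨w', hw', e⟩ := U.exists_ι (hgA _ hwA).1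
      obtain ⟨hlt, -⟩ := hmemA w' hw' (e ▸ hgA _ hwA)
      have := List.all_eq_true.mp hfour w' (List.mem_range.mpr hlt)
      simp only [← U.wt_fusion hw hw' e, hwt', Nat.beq_refl, Bool.not_true, Bool.false_or,
        List.any_cons, List.any_nil, Bool.or_false, Bool.or_eq_true, Nat.beq_eq] at this
      exact ⟨w', by omega, e⟩
    obtain ⟨a, ha, ea⟩ := img 1 (by norm_num) (by decide +kernel) h1
    obtain ⟨b, hb, eb⟩ := img 3 (by norm_num) (by decide +kernel) h3
    have ha27 : a < 27 := by omega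
    have hb27 : b < 27 := by omega
    have dbl : ∀ {w w' : ℕ}, w < 27 → w' < 27 → g * U.ι w * g⁻¹ = U.ι w' →
        g * U.ι (addV w w) * g⁻¹ = U.ι (addV w' w') := fun hw hw' h => by
      rw [U.ι_add hw hw, U.ι_add hw' hw', ← conj_mul, h]
    let F : ℕ → ℕ := axF a b
    have step : ∀ w, (w = 1 ∨ w = 2 ∨ w = 3 ∨ w = 6) → g * U.ι w * g⁻¹ = U.ι (F w) := by
      rintro w (rfl | rfl | rfl | rfl)
      · exact ea
      · have := dbl (by norm_num) ha27 ea
        rwa [show addV 1 1 = 2 by decide +kernel] at this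
      · exact eb
      · have := dbl (by norm_num) hb27 eb
        rwa [show addV 3 3 = 6 by decide +kernel] at this
    have hne : b ≠ a ∧ b ≠ addV a a := by
      constructor <;> intro e
      · exact absurd (U.ι_inj (by norm_num) (by norm_num)
          ((MulAut.conj g).injective (show g * U.ι 3 * g⁻¹ = g * U.ι 1 * g⁻¹ by rw [eb, ea, e])))
          (by norm_num)
      · exact absurd (U.ι_inj (by norm_num) (by norm_num) ((MulAut.conj g).injective
          (show g * U.ι 3 * g⁻¹ = g * U.ι 2 * g⁻¹ by rw [eb, step 2 (by omega), e]; rfl))) (by norm_num)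
    obtain ⟨f1, f2, f3, f4, f5, f6⟩ := four_fix a b ha hb hne.1 hne.2
    have four : ∀ p : G, g ^ 4 * p * (g ^ 4)⁻¹ = g * (g * (g * (g * p * g⁻¹) * g⁻¹) * g⁻¹) * g⁻¹ :=
      fun p => by rw [show g ^ 4 = g * g * g * g by simp [pow_succ]]; group
    have fix : g * U.ι 1 = U.ι 1 * g ∧ g * U.ι 3 = U.ι 3 * g := by
      constructor
      · refine comm_of_pow_four hn (mul_inv_eq_iff_eq_mul.mp ?_)
        rw [four, ea, step _ ha, step _ f1, step _ f2]; exact congrArg U.ι f3
      · refine comm_of_pow_four hn (mul_inv_eq_iff_eq_mul.mp ?_)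
        rw [four, eb, step _ hb, step _ f4, step _ f5]; exact congrArg U.ι f6
    have hgN := U.cent_plane h8 (v := 1) (by norm_num) (by decide +kernel) (U.ι_mem (show 3 < 27 by norm_num))
      (fun e => by
        rw [← mem_powers_iff_mem_zpowers, Submonoid.mem_powers_iff] at e
        obtain ⟨i, hi⟩ := e
        rw [pow_eq_pow_mod i (X.cube _ (U.ι_mem (show 1 < 27 by norm_num)))] at hi
        have := Nat.mod_lt i (show 0 < 3 by norm_num)
        interval_cases i % 3
        · rw [pow_zero, ← U.ι_zero] at hi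
          exact absurd (U.ι_inj (by norm_num) (by norm_num) hi) (by norm_num)
        · rw [pow_one] at hi
          exact absurd (U.ι_inj (by norm_num) (by norm_num) hi) (by norm_num)
        · rw [pow_two, ← U.ι_add (by norm_num) (by norm_num), show addV 1 1 = 2 by decide +kernel] at hi
          exact absurd (U.ι_inj (by norm_num) (by norm_num) hi) (by norm_num))
      fix.1 fix.2
    exact ⟨U.three_mem_J h8 (v := 1) (by norm_num) (by decide +kernel) hgN fix.1 hn,
      mem_centralizer_iff'.mpr hgx⟩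
  · intro w hw hw0 hwA
    obtain ⟨-, h2⟩ := hmemA w hw hwA
    rcases hwt ⟨w, hw⟩ with h | h | h | h
    · exact absurd h hw0
    · simp only at h; simp [h]
    · simp only at h; simp [h]
    · simp only at h; omega

include U in
/-- One cyclic group holds all classes. -/
theorem only_single (h8 : U.k = 3) {m v : ℕ} (hm : m < 1296) (hv : v < 27)
    (hs : small 3 v = true) (hmv : Nat.beq (mulM (trC v) m) (mulM m (trC v)) = true)
    (hjL : ∀ w < 27, Nat.beq (mulM (trC w) m) (mulM m (trC w)) = true → w = 0 ∨ w = v ∨ w = addV v v)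
    (hN : ∀ g : G, g * U.ι v = U.ι v * g → g * U.f (of m) = U.f (of m) * g → ∀ n, g ^ 3 ^ n = 1 →
      g ∈ Subgroup.normalizer (X.J : Set G)) : U.Only (U.f (of m)) [wtV v] := by
  set A := Subgroup.zpowers (U.ι v) with hA
  have hvm : U.ι v * U.f (of m) = U.f (of m) * U.ι v := (U.f_comm (tr_mem hv) (U.top8 h8 _)).mpr
    (comm_iff.mpr (by rw [code_of hm, code_tr hv]; exact Nat.eq_of_beq_eq_true hmv))
  have hsmall : ∀ w < 27, U.ι w * U.f (of m) = U.f (of m) * U.ι w → U.ι w ∈ A := by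
    intro w hw h
    have h' := comm_iff.mp ((U.f_comm (tr_mem hw) (U.top8 h8 _)).mp h)
    rw [code_tr hw, code_of hm] at h'
    rcases hjL w hw (by rw [h', Nat.beq_refl]) with rfl | rfl | rfl
    · rw [U.ι_zero]; exact one_mem _
    · exact Subgroup.mem_zpowers _
    · rw [U.ι_add hv hv]; exact mul_mem (Subgroup.mem_zpowers _) (Subgroup.mem_zpowers _)
  refine U.only_of_norm A (X.S_pgroup.to_le ((Subgroup.zpowers_le.mpr (U.ι_mem hv)).trans X.J_le_S))
    (Subgroup.zpowers_le.mpr (U.ι_mem hv))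
    (Subgroup.zpowers_le.mpr (mem_centralizer_iff'.mpr hvm)) ?_ ?_
  · rintro g hgx hgA ⟨n, hn⟩
    have cases' : ∀ p ∈ A, p = 1 ∨ p = U.ι v ∨ p = U.ι v * U.ι v := by
      intro p hp
      rw [hA, ← mem_powers_iff_mem_zpowers, Submonoid.mem_powers_iff] at hp
      obtain ⟨i, rfl⟩ := hp
      rw [pow_eq_pow_mod i (X.cube _ (U.ι_mem hv))]
      have := Nat.mod_lt i (show 0 < 3 by norm_num)
      interval_cases i % 3 <;> simp [pow_two]
    have hgv : g * U.ι v = U.ι v * g := by
      refine comm_of_pow_four hn (mul_inv_eq_iff_eq_mul.mp ?_)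
      have four : g ^ 4 * U.ι v * (g ^ 4)⁻¹ = g * (g * (g * (g * U.ι v * g⁻¹) * g⁻¹) * g⁻¹) * g⁻¹ := by
        rw [show g ^ 4 = g * g * g * g by simp [pow_succ]]; group
      rw [four]
      rcases cases' _ (hgA _ (Subgroup.mem_zpowers _)) with e | e | e
      · exact absurd (conj_eq_one_iff.mp e) fun h => by
          have := U.ι_inj hv (by norm_num) (h.trans U.ι_zero.symm)
          exact small_ne hs this
      · rw [e, e, e, e]
      · have e2 : g * (U.ι v * U.ι v) * g⁻¹ = U.ι v := by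
          rw [← conj_mul, e, show U.ι v * U.ι v * (U.ι v * U.ι v) = U.ι v * U.ι v * U.ι v * U.ι v by group,
            X.cube' (U.ι_mem hv), one_mul]
        rw [e, e2, e, e2]
    have hgJ := U.three_mem_J h8 hv hs (hN g hgv hgx n hn) hgv hn
    obtain ⟨w, hw, rfl⟩ := U.exists_ι hgJ
    exact hsmall w hw hgx
  · intro w hw hw0 hwA
    have hc : U.ι w * U.f (of m) = U.f (of m) * U.ι w :=
      mem_centralizer_iff'.mp ((Subgroup.zpowers_le.mpr (mem_centralizer_iff'.mpr hvm)) hwA)
    have h' := comm_iff.mp ((U.f_comm (tr_mem hw) (U.top8 h8 _)).mp hc)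
    rw [code_tr hw, code_of hm] at h'
    rcases hjL w hw (by rw [h', Nat.beq_refl]) with rfl | rfl | rfl
    · exact absurd rfl hw0
    · simp
    · simp only [List.mem_singleton]
      have h1 : ∀ u : Fin 27, wtV (addV u u) = wtV u := by decide +kernel
      exact h1 ⟨v, hv⟩

theorem only_two (h8 : U.k = 3) : U.Only (U.f (of 540)) [2] := by
  refine U.only_single h8 (v := 4) (by norm_num) (by norm_num) (by decide +kernel) (by decide +kernel)
    (fun w hw h => ?_) (fun g hg _ _ _ => U.cent_four h8 g hg)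
  have := List.all_eq_true.mp cent_two_code w (List.mem_range.mpr hw)
  simp only [h, Bool.not_true, Bool.false_or, List.any_cons, List.any_nil, Bool.or_false,
    Bool.or_eq_true, Nat.beq_eq] at this
  rw [show addV 4 4 = 8 by decide +kernel]
  omega

theorem only_neg (h8 : U.k = 3) : U.Only (U.f (of 129)) [2] := by
  have hf648 := U.sg_mem_R
  have hi : U.f (of 129) * U.f (of 129) = 1 := U.f_sq h8 (by norm_num) (by decide +kernel)
  have hs : U.f (of 648) * U.f (of 129) = U.f (of 129) * U.f (of 648) :=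
    mul_inv_eq_iff_eq_mul.mp (U.conj_f h8 (by norm_num) (by norm_num) (by norm_num) (by decide +kernel))
  have hZ : U.f (of 648) ∉ X.Z := fun h => by
    have h' := (U.f_mem_J (U.top8 h8 _)).mp (X.Z_le_J h)
    exact absurd (show inT (of 648).c = true from h') (by decide +kernel)
  have h7 : U.ι 7 ∉ X.Z := fun h => by
    rcases (U.ι_Z (by norm_num)).mp h with e | e | e <;> omega
  obtain ⟨g, hgC, hg⟩ := X.R_conj hf648 hZ U.seven_mem_R h7
  set j := g * U.f (of 129) * g⁻¹ with hj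
  have hj7 : j * U.ι 7 = U.ι 7 * j := by rw [hj, ← hg, conj_mul, conj_mul, hs]
  have hjN : j ∈ Subgroup.normalizer (X.J : Set G) :=
    U.cent_wt_two h8 (by norm_num) (by decide +kernel) j hj7
  obtain ⟨x, hx, hxj⟩ := U.exists_f hjN
  have hinv : j * U.ι 13 * j⁻¹ = U.ι 26 := by
    have h13 : U.f (of 129) * U.ι 13 * (U.f (of 129))⁻¹ = U.ι 26 :=
      U.conj_ι h8 (by norm_num) (by norm_num) (by norm_num) (by decide +kernel)
    rw [← U.inv_a, U.ι_thirteen] at h13 ⊢
    rw [hj]
    calc g * U.f (of 129) * g⁻¹ * X.a * (g * U.f (of 129) * g⁻¹)⁻¹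
        = g * (U.f (of 129) * (g⁻¹ * X.a * g) * (U.f (of 129))⁻¹) * g⁻¹ := by group
      _ = g * X.a⁻¹ * g⁻¹ := by
          rw [show g⁻¹ * X.a * g = X.a by rw [mul_assoc, ← X.a_comm hgC, inv_mul_cancel_left], h13]
      _ = (g * X.a * g⁻¹)⁻¹ := by group
      _ = _ := by rw [X.a_comm hgC, mul_inv_cancel_right]
  have hj2 : j * j = 1 := by rw [hj, conj_mul, hi, mul_one, mul_inv_cancel]
  have hf : U.f x = U.f (of x.c) := by rw [show of (x.c : ℕ) = x from code_eq.mpr (code_of x.c.isLt)]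
  rw [hxj] at hj2 hinv hj7
  have c2 : mulM (x.c : ℕ) x.c = 0 := by
    have := U.f_inj ((Kd U.k).mul_mem hx hx) (Kd U.k).one_mem (by rw [U.f_mul hx hx, hj2, U.f_one])
    rw [← code_mul, this, code_one]
  have c13 : mulM (mulM (x.c : ℕ) (trC 13)) (invM x.c) = trC 26 := by
    rw [ι, ι, ← U.f_conj hx (tr_mem (by norm_num))] at hinv
    have := U.f_inj (U.top8 h8 _) (U.top8 h8 _) hinv
    rw [← code_tr (show 13 < 27 by norm_num), ← code_tr (show 26 < 27 by norm_num), ← code_mul,
      ← code_inv, ← code_mul, this]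
  have c7 : mulM (x.c : ℕ) (trC 7) = mulM (trC 7) x.c := by
    rw [← code_tr (show 7 < 27 by norm_num)]
    exact comm_iff.mp ((U.f_comm hx (tr_mem (by norm_num))).mp hj7)
  have hd := List.all_eq_true.mp cent_inv_code _ (List.mem_range.mpr x.c.isLt)
  simp only [c2, c13, c7, Nat.beq_refl, Bool.not_true, Bool.false_or, List.all_eq_true] at hd
  have h1 : U.Only (U.f (of x.c)) [wtV 7] := by
    refine U.only_single h8 x.c.isLt (by norm_num) (by decide +kernel) (by rw [c7, Nat.beq_refl]) ?_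
      (fun k hk _ _ _ => U.cent_wt_two h8 (by norm_num) (by decide +kernel) k hk)
    intro w hw h
    have := hd w (List.mem_range.mpr hw)
    simp only [h, Bool.not_true, Bool.false_or, List.any_cons, List.any_nil, Bool.or_false,
      Bool.or_eq_true, Nat.beq_eq] at this
    rw [show addV 7 7 = 5 by decide +kernel]
    omega
  rw [← hf, ← hxj, show wtV 7 = 2 by decide +kernel] at h1
  have := Only.conj U h1 g⁻¹
  rwa [show g⁻¹ * j * g⁻¹⁻¹ = U.f (of 129) by rw [hj]; group] at this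

theorem only_double_of (h8 : U.k = 3) (hcase : U.CN 1 ∨ Nonempty (Big U)) :
    U.Only (U.f (of 21)) [1] := by
  refine U.only_single h8 (v := 9) (by norm_num) (by norm_num) (by decide +kernel) (by decide +kernel)
    (fun w hw h => ?_) fun g hg hgx n hn => ?_
  · have := List.all_eq_true.mp cent_double_code w (List.mem_range.mpr hw)
    simp only [h, Bool.not_true, Bool.false_or, List.any_cons, List.any_nil, Bool.or_false,
      Bool.or_eq_true, Nat.beq_eq] at this
    rw [show addV 9 9 = 18 by decide +kernel]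
    omega
  · rcases hcase with h | ⟨⟨B⟩⟩
    · exact U.CN_weight h8 (v := 9) (r := 1) (by norm_num) (by decide +kernel) (by norm_num) (by decide +kernel)
        h g hg
    obtain ⟨i, σ, rfl⟩ := B.L2.surj g hg
    have e21 : U.f (of 21) = B.L2.ρ (sU * sV) := by
      rw [map_mul, B.vU, B.vV, ← U.f_mul (U.top8 h8 _) (U.top8 h8 _)]
      congr 1
    have hσ : σ * (sU * sV) = sU * sV * σ := by
      rw [e21, mul_assoc, ← map_mul, ← mul_assoc (B.L2.ρ (sU * sV)), B.L2.comm_pow (sU * sV) i, mul_assoc,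
        ← map_mul] at hgx
      exact B.L2.inj (mul_left_cancel hgx)
    have hs1 : σ = 1 := by
      have hcomm : Commute (U.ι 9 ^ i) (B.L2.ρ σ) := (B.L2.comm_pow σ i).symm
      rw [hcomm.mul_pow, ← pow_mul, ← map_pow] at hn
      have h3 := (B.L2.eq_one hn).2
      by_contra hne
      haveI : Fact (Nat.Prime 3) := ⟨Nat.prime_three⟩
      have ho : orderOf σ ∣ 3 ^ n := orderOf_dvd_of_pow_eq_one h3
      obtain ⟨k, -, hk⟩ := (Nat.dvd_prime_pow Nat.prime_three).mp ho
      rcases k with _ | k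
      · exact hne (orderOf_eq_one_iff.mp (by simpa using hk))
      · have h1 : (σ ^ 3 ^ k) ^ 3 = 1 := by rw [← pow_mul, ← pow_succ, ← hk, pow_orderOf_eq_one]
        have h2 := flip_pair (σ ^ 3 ^ k) ((show Commute σ (sU * sV) from hσ).pow_left _).eq
          (by rw [← h1]; simp [pow_succ])
        have := orderOf_dvd_of_pow_eq_one h2
        rw [hk] at this
        exact absurd ((Nat.pow_dvd_pow_iff_le_right (by norm_num)).mp this) (by omega)
    subst hs1
    rw [map_one, mul_one]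
    exact pow_mem (Subgroup.le_normalizer (U.ι_mem (by norm_num))) i

end Coord

end CfsgLib.PSpFourThree
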