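import Cfsg.Agent.Lib.PSpFourThree.Eight.Plane

/-!
The large case: the centralizer of the four commuting transpositions, and the two quaternion groups.
-/

set_option autoImplicit false
set_option maxRecDepth 20000
set_option linter.style.haveILetI false
set_option linter.unusedSectionVars false

namespace CfsgLib.PSpFourThree

open CfsgLib.SymNineThree CfsgLib.SymNineThree.Mon
open CfsgLib.SymNineThree.Six (sA sB sU sV sW sT)

attribute [local instance 2000] List.decidableBAll List.decidableBEx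

/-- Permutations fixing the three pairs `{i, i + 3}`. -/
def S8 : Subgroup P6 where
  carrier := {σ | ∀ i : Fin 6, (σ i : ℕ) % 3 = (i : ℕ) % 3}
  one_mem' := fun _ => rfl
  mul_mem' := fun {σ τ} hσ hτ i => (hσ (τ i)).trans (hτ i)
  inv_mem' := fun {σ} hσ i => by
    have := hσ (σ⁻¹ i)
    rw [Equiv.Perm.coe_inv, Equiv.apply_symm_apply] at this
    exact this.symm

instance : DecidablePred (· ∈ S8) := fun σ =>
  decidable_of_iff (∀ i : Fin 6, (σ i : ℕ) % 3 = (i : ℕ) % 3) Iff.rfl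

theorem s8_comm : ∀ σ : P6, σ ∈ S8 → ∀ τ : P6, τ ∈ S8 → σ * τ = τ * σ := by decide +kernel

theorem s8_sq : ∀ σ : P6, σ ∈ S8 → σ * σ = 1 := by decide +kernel

theorem s8_cent : ∀ σ : P6, σ * sT = sT * σ → σ * sW = sW * σ →
    σ * Equiv.swap 1 4 = Equiv.swap 1 4 * σ → σ ∈ S8 := by decide +kernel

theorem s8_mem : sT ∈ S8 ∧ sW ∈ S8 ∧ (Equiv.swap 1 4 : P6) ∈ S8 := by
  refine ⟨?_, ?_, ?_⟩ <;> decide +kernel

theorem s8_three : ∀ σ : P6, σ ∈ S8 → sA * sB * σ * (sA * sB)⁻¹ ∈ S8 := by decide +kernel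

/-- The Sylow subgroup of the centralizer of `sT` and `sW`. -/
def S16 : Subgroup P6 := Subgroup.centralizer ({sW, sT} : Set P6)

theorem mem_S16 {σ : P6} : σ ∈ S16 ↔ σ * sW = sW * σ ∧ σ * sT = sT * σ := by
  rw [S16, Subgroup.mem_centralizer_iff]
  simp [eq_comm]

theorem s16_card : Fintype.card {σ : P6 // σ * sW = sW * σ ∧ σ * sT = sT * σ} = 16 := by decide +kernel

theorem s16_sq : ∀ σ : P6, σ * sW = sW * σ → σ * sT = sT * σ → σ * σ ≠ sW := by decide +kernel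

theorem cent_w_card : Fintype.card {σ : P6 // σ * sW = sW * σ} = 48 := by decide +kernel

theorem outside_code : [0, 3].all (fun a => [0, 18].all fun b => Nat.blt (108 + a + b) 1296) = true := by
  decide +kernel

/-- Involutions in the centralizer of `sW` and `sT`, by their shape. -/
def shape (σ : P6) : Bool :=
  [(1, 0), (sT, 1), (Equiv.swap 1 4, 1), (Equiv.swap 2 5, 1)].any fun p : P6 × ℕ => p.1 == σ

theorem shape_cases : ∀ σ : P6, σ * sW = sW * σ → σ * sT = sT * σ → σ * σ = 1 → shape σ = false →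
    ∃ γ : P6, γ * σ * γ⁻¹ = sU * sV ∨ γ * σ * γ⁻¹ = sW := by decide +kernel

theorem shape_prod : ∀ σ : P6, shape σ = true → σ * σ = 1 := by decide +kernel

theorem shape_not : shape (sT * Equiv.swap 1 4) = false ∧ (sT * Equiv.swap 1 4) * (sT * Equiv.swap 1 4) = 1 ∧
    (sT * Equiv.swap 1 4) * sW = sW * (sT * Equiv.swap 1 4) ∧
    (sT * Equiv.swap 1 4) * sT = sT * (sT * Equiv.swap 1 4) := by decide +kernel

theorem p0_vals : ((List.range 27).all fun v => !Nat.beq (mulM (trC v) 432) (mulM 432 (trC v)) ||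
    (([0, 9, 18, 4, 8, 13, 26, 17, 22].any fun w => Nat.beq w v) &&
      ((List.range 3).any fun i => (List.range 3).any fun j => Nat.beq v (addV (4 * j) (9 * i))))) = true := by
  decide +kernel

theorem p0_card : Fintype.card {v : Fin 27 //
    Nat.beq (mulM (trC v) 432) (mulM 432 (trC v)) = true} = 9 := by decide +kernel

theorem wt_p0 : wtV 4 = 2 ∧ wtV 8 = 2 ∧ wtV 13 = 3 ∧ wtV 26 = 3 ∧ wtV 17 = 3 ∧ wtV 22 = 3 ∧
    addV 9 9 = 18 ∧ addV 4 4 = 8 ∧ addV 1 3 = 4 ∧ addV 22 22 = 17 ∧ addV 13 13 = 26 := by decide +kernel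

universe u

variable {G : Type u} [Group G] [Finite G] {X : Ctx G}

/-- The group of order nine acting. -/
noncomputable def Coord.P0 (U : Coord X) : Subgroup G := U.JC 432

namespace Big

variable {U : Coord X} (B : Big U)

/-- The four commuting transpositions. -/
noncomputable def Ut : Subgroup G := S8.map B.L2.ρ

/-- Their centralizer. -/
noncomputable def Du : Subgroup G := Subgroup.centralizer (B.Ut : Set G)

include B

theorem mem_Ut {σ : P6} : B.L2.ρ σ ∈ B.Ut ↔ σ ∈ S8 :=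
  ⟨fun ⟨_, hτ, e⟩ => B.L2.inj e ▸ hτ, fun h => ⟨σ, h, rfl⟩⟩

theorem tq_eq : U.tq = B.L2.ρ sW := B.vW.symm

theorem tq_mem_Ut : U.tq ∈ B.Ut := by rw [B.tq_eq]; exact B.mem_Ut.mpr s8_mem.2.1

theorem Ut_sq {x : G} (hx : x ∈ B.Ut) : x * x = 1 := by
  obtain ⟨σ, hσ, rfl⟩ := hx
  rw [← map_mul, s8_sq σ hσ, map_one]

theorem Ut_le : B.Ut ≤ B.Du := fun x hx => Subgroup.mem_centralizer_iff.mpr fun y hy => by
  obtain ⟨σ, hσ, rfl⟩ := hx
  obtain ⟨τ, hτ, rfl⟩ := hy
  rw [← map_mul, ← map_mul, s8_comm τ hτ σ hσ]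

theorem Ut_pgroup : IsPGroup 2 B.Ut := fun x => ⟨1, Subtype.ext (by
  show (x : G) ^ 2 ^ 1 = 1
  rw [pow_one, pow_two]; exact B.Ut_sq x.2)⟩

theorem Ut_comm_tq {x : G} (hx : x ∈ B.Du) : x * U.tq = U.tq * x :=
  (Subgroup.mem_centralizer_iff.mp hx _ B.tq_mem_Ut).symm

theorem nine_mem : U.ι 9 ∈ B.Du := Subgroup.mem_centralizer_iff.mpr fun y hy => by
  obtain ⟨σ, -, rfl⟩ := hy
  exact B.L2.comm σ

theorem flip_mem : U.f (of 108) ∈ B.Du := Subgroup.mem_centralizer_iff.mpr fun y hy => by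
  obtain ⟨σ, -, rfl⟩ := hy
  exact (B.flip_two σ).symm

theorem flip_nine : U.f (of 108) * U.ι 9 * (U.f (of 108))⁻¹ = (U.ι 9)⁻¹ := by
  rw [B.codes.2.2.2.1]
  exact eq_inv_of_mul_eq_one_right (by rw [← U.ι_add (by norm_num) (by norm_num)]; exact U.ι_zero)

theorem sc {g : G} (hg : g ∈ B.Du) (h : g * U.ι 9 = U.ι 9 * g) :
    ∃ x ∈ B.Ut, ∃ i : ℕ, g = x * U.ι 9 ^ i := by
  obtain ⟨i, σ, rfl⟩ := B.L2.surj g h
  refine ⟨B.L2.ρ σ, B.mem_Ut.mpr ?_, i, (B.L2.comm_pow σ i).symm⟩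
  have key : ∀ τ ∈ S8, σ * τ = τ * σ := fun τ hτ => by
    have h1 := Subgroup.mem_centralizer_iff.mp hg _ (B.mem_Ut.mpr hτ)
    rw [← mul_assoc, B.L2.comm_pow τ i, mul_assoc, mul_assoc, ← map_mul, ← map_mul] at h1
    exact (B.L2.inj (mul_left_cancel h1)).symm
  obtain ⟨h1, h2, h3⟩ := s8_mem
  exact s8_cent σ (key _ h1) (key _ h2) (key _ h3)

theorem four_eq : U.ι 4 = B.L2.ρ (sA * sB) := by
  rw [map_mul, B.vA, B.vB, ← U.ι_add (by norm_num) (by norm_num), wt_p0.2.2.2.2.2.2.2.2.1]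

theorem mem_P0_cases {g : G} (hg : g ∈ U.P0) : ∃ v, v ∈ [0, 9, 18, 4, 8, 13, 26, 17, 22] ∧ g = U.ι v ∧
    g ∈ Subgroup.zpowers (U.ι 4) ⊔ Subgroup.zpowers (U.ι 9) := by
  obtain ⟨v, hv, rfl, hb⟩ := U.exists_JC B.h8 (by norm_num) hg
  have h := List.all_eq_true.mp p0_vals v (List.mem_range.mpr hv)
  simp only [hb, Bool.not_true, Bool.false_or, Bool.and_eq_true, List.any_eq_true, List.mem_range,
    Nat.beq_eq] at h
  obtain ⟨⟨w, hw, rfl⟩, i, hi, j, hj, hij⟩ := h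
  refine ⟨w, hw, rfl, ?_⟩
  have hpow : ∀ k < 3, U.ι (9 * k) ∈ Subgroup.zpowers (U.ι 9) ∧ U.ι (4 * k) ∈ Subgroup.zpowers (U.ι 4) := by
    intro k hk
    interval_cases k
    · simp [U.ι_zero]
    · exact ⟨Subgroup.mem_zpowers _, Subgroup.mem_zpowers _⟩
    · show U.ι 18 ∈ _ ∧ U.ι 8 ∈ _
      rw [← wt_p0.2.2.2.2.2.2.1, ← wt_p0.2.2.2.2.2.2.2.1, U.ι_add (by norm_num) (by norm_num),
        U.ι_add (by norm_num) (by norm_num)]
      exact ⟨mul_mem (Subgroup.mem_zpowers _) (Subgroup.mem_zpowers _),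
        mul_mem (Subgroup.mem_zpowers _) (Subgroup.mem_zpowers _)⟩
  rw [hij, U.ι_add (by omega) (by omega)]
  exact mul_mem (Subgroup.mem_sup_left (hpow j hj).2) (Subgroup.mem_sup_right (hpow i hi).1)

theorem P0v : U.ι 4 ∈ U.P0 ∧ U.ι 9 ∈ U.P0 := by
  constructor <;> exact (U.mem_JC B.h8 (by norm_num) (by norm_num)).mpr (by decide +kernel)

theorem normU : U.P0 ≤ Subgroup.normalizer (B.Ut : Set G) := fun g hg => by
  obtain ⟨-, -, -, hmem⟩ := B.mem_P0_cases hg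
  refine (sup_le (Subgroup.zpowers_le.mpr (mem_of_map_conj _ ?_)) (Subgroup.zpowers_le.mpr (mem_of_map_conj _ ?_))) hmem
  · intro y hy
    obtain ⟨σ, hσ, rfl⟩ := hy
    rw [B.four_eq, ← map_inv, ← map_mul, ← map_mul]
    exact B.mem_Ut.mpr (s8_three σ hσ)
  · intro y hy
    rw [← Subgroup.mem_centralizer_iff.mp B.nine_mem y hy, mul_inv_cancel_right]
    exact hy

theorem normD : U.P0 ≤ Subgroup.normalizer (B.Du : Set G) := fun g hg =>
  mem_of_map_conj _ fun d hd => Subgroup.mem_centralizer_iff.mpr fun y hy => by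
    have h := Subgroup.mem_centralizer_iff.mp hd (g⁻¹ * y * g)
      (by simpa using (Subgroup.mem_normalizer_iff.mp (B.normU (inv_mem hg)) y).mp hy)
    calc y * (g * d * g⁻¹) = g * (g⁻¹ * y * g * d) * g⁻¹ := by group
      _ = g * (d * (g⁻¹ * y * g)) * g⁻¹ := by rw [h]
      _ = _ := by group

theorem coreHyp : CoreHyp B.Du B.Ut U.P0 (U.ι 9) (U.f (of 108)) where
  H_le := B.Ut_le
  H_two := B.Ut_pgroup
  H_cen h hh d hd := Subgroup.mem_centralizer_iff.mp hd h hh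
  e_ord := B.L2.orderOf_e
  e_mem := B.nine_mem
  m_mem := B.flip_mem
  inv := B.flip_nine
  sc := fun _ hg h => B.sc hg h
  W_card := U.card_JC B.h8 (by norm_num) p0_card
  W_comm := U.JC_comm 432
  W_exp := U.JC_exp 432
  W_D := B.normD
  W_H := B.normU
  free y hy hy1 x hx hxy := by
    obtain ⟨v, hv, rfl, -⟩ := B.mem_P0_cases hy
    obtain ⟨w1, w2, w3, w4, w5, w6, a1, -⟩ := wt_p0
    simp only [List.mem_cons, List.not_mem_nil, or_false] at hv
    have hnine : x * U.ι 9 = U.ι 9 * x → orderOf x ≠ 5 ∧ orderOf x ≠ 7 := by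
      intro h
      obtain ⟨h', hh', i, rfl⟩ := B.sc hx h
      have hd : orderOf (h' * U.ι 9 ^ i) ∣ 6 := by
        refine orderOf_dvd_of_pow_eq_one ?_
        rw [(show Commute h' (U.ι 9 ^ i) from
          Subgroup.mem_centralizer_iff.mp (pow_mem B.nine_mem i) h' hh').mul_pow, ← pow_mul,
          show h' ^ 6 = 1 by rw [show 6 = 2 * 3 from rfl, pow_mul, pow_two, B.Ut_sq hh', one_pow],
          mul_comm i, show 6 = 3 * 2 from rfl, mul_assoc, pow_mul, X.cube _ B.L2.e_mem, one_pow, one_mul]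
      constructor <;> intro e <;> rw [e] at hd <;> norm_num at hd
    rcases hv with rfl | rfl | rfl | rfl | rfl | rfl | rfl | rfl | rfl
    · exact absurd U.ι_zero hy1
    · exact hnine hxy
    · refine hnine ?_
      rw [← a1, U.ι_add (by norm_num) (by norm_num)] at hxy
      have h2 : Commute x (U.ι 9 * U.ι 9) := hxy
      have h4 := h2.mul_right h2
      rwa [show U.ι 9 * U.ι 9 * (U.ι 9 * U.ι 9) = U.ι 9 by
        rw [← mul_assoc, X.cube' B.L2.e_mem, one_mul]] at h4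
    all_goals exact U.orderOf_cent B.h8 (by norm_num) (by simp [w1, w2, w3, w4, w5, w6]) hxy

theorem exists_Nu : ∃ N, Core B.Du B.Ut U.P0 (U.ι 9) (U.f (of 108)) N := exists_core B.coreHyp

/-- The second quaternion group. -/
noncomputable def Qb : Subgroup G := (U.Qa B.h8).map (MulAut.conj (U.f (of 108))).toMonoidHom

theorem conj_mem_Qb {q : G} (hq : q ∈ U.Qa B.h8) :
    U.f (of 108) * q * (U.f (of 108))⁻¹ ∈ B.Qb := ⟨q, hq, rfl⟩

theorem flip_tq : U.f (of 108) * U.tq = U.tq * U.f (of 108) := by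
  rw [B.tq_eq]; exact B.flip_two sW

theorem flip_sq : U.f (of 108) * U.f (of 108) = 1 := U.f_sq B.h8 (by norm_num) (by decide +kernel)

/-- Elements of the centralizer of the conjugate of `a`. -/
theorem mem_Qb_of {x : G} (h22 : x * U.ι 22 = U.ι 22 * x) (ht : x * U.tq = U.tq * x)
    (h3 : (orderOf x).Coprime 3) : x ∈ B.Qb := by
  set m := U.f (of 108)
  have hm : m⁻¹ = m := inv_eq_of_mul_eq_one_right B.flip_sq
  refine ⟨m⁻¹ * x * m, U.mem_Qa_of B.h8 ?_ ?_ ?_, by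
    show m * (m⁻¹ * x * m) * m⁻¹ = x
    group⟩
  · refine mem_centralizer_iff'.mpr ?_
    have e : m * X.a * m⁻¹ = U.ι 22 := by
      rw [← U.ι_thirteen]; exact U.conj_ι B.h8 (by norm_num) (by norm_num) (by norm_num) (by decide +kernel)
    calc m⁻¹ * x * m * X.a = m⁻¹ * (x * (m * X.a * m⁻¹)) * m := by group
      _ = m⁻¹ * ((m * X.a * m⁻¹) * x) * m := by rw [e, h22]
      _ = _ := by group
  · rw [hm]
    exact ((Commute.mul_left B.flip_tq ht).mul_left B.flip_tq).eq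
  · rwa [show m⁻¹ * x * m = MulAut.conj m⁻¹ x by simp, MulEquiv.orderOf_eq]

/-- The two quaternion groups generate the core. -/
theorem cent_cases {N : Subgroup G} (hN : Core B.Du B.Ut U.P0 (U.ι 9) (U.f (of 108)) N)
    {K : Subgroup G} (hKN : K ≤ N) (hKW : U.P0 ≤ Subgroup.normalizer (K : Set G)) {Y : Subgroup G}
    (hU : K ⊓ B.Ut ≤ Y) (ha : K ⊓ U.Qa B.h8 ≤ Y) (hb : K ⊓ B.Qb ≤ Y) : K ≤ Y := by
  haveI : IsMulCommutative U.P0 := ⟨⟨fun a b => Subtype.ext (U.JC_comm 432 a a.2 b b.2)⟩⟩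
  have hc := U.card_JC B.h8 (by norm_num) p0_card
  have hnc : ¬ IsCyclic U.P0 :=
    CfsgLib.Coprime.not_isCyclic_of_exponent (U.JC_exp 432) (by norm_num) (by
      show 3 < Nat.card (U.JC 432)
      rw [hc]; norm_num)
  have hK3 : (Nat.card K).Coprime 3 := hN.coprime.coprime_dvd_left (Subgroup.card_dvd_of_le hKN)
  have hcop : (Nat.card U.P0).Coprime (Nat.card K) := by
    show (Nat.card (U.JC 432)).Coprime (Nat.card K)
    rw [hc, show 9 = 3 ^ 2 from rfl]; exact hK3.symm.pow_left 2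
  refine CfsgLib.Coprime.le_of_centralizer_le hnc hKW hcop fun y hy hy1 x hx => ?_
  obtain ⟨hxK, hxy'⟩ := Subgroup.mem_inf.mp hx
  have hxy := mem_centralizer_iff'.mp hxy'
  have hxD := hN.le (hKN hxK)
  have hord : (orderOf x).Coprime 3 := hK3.coprime_dvd_left (Subgroup.orderOf_dvd_natCard K hxK)
  have hxt := B.Ut_comm_tq hxD
  have hnine : x * U.ι 9 = U.ι 9 * x → x ∈ Y := fun h => by
    obtain ⟨u, hu, i, rfl⟩ := B.sc hxD h
    have hi : U.ι 9 ^ (i % 3) ∈ N := by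
      rw [← pow_eq_pow_mod i (X.cube _ B.L2.e_mem),
        show U.ι 9 ^ i = u⁻¹ * (u * U.ι 9 ^ i) by group]
      exact mul_mem (inv_mem (hN.H_le hu)) (hKN hxK)
    have hi0 := hN.e_not _ (Nat.mod_lt i (by norm_num)) hi
    rw [pow_eq_pow_mod i (X.cube _ B.L2.e_mem), hi0, pow_zero, mul_one] at hxK ⊢
    exact hU ⟨hxK, hu⟩
  have hJ : x ∈ Subgroup.normalizer (X.J : Set G) → x ∈ Y := fun h =>
    hnine (U.comm_of_invariant (fun _ h' => (show _ ∈ U.JC 432 from h').1) hK3 hKW hxK h B.P0v.2)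
  obtain ⟨v, hv, rfl, -⟩ := B.mem_P0_cases hy
  obtain ⟨w1, w2, -, -, -, -, a1, -, -, a17, a26⟩ := wt_p0
  have sq : ∀ {p q : ℕ}, p < 27 → addV p p = q → x * U.ι q = U.ι q * x → x * U.ι p = U.ι p * x := by
    intro p q hp e h
    rw [← e, U.ι_add hp hp] at h
    have h4 := (show Commute x (U.ι p * U.ι p) from h).mul_right h
    rwa [show U.ι p * U.ι p * (U.ι p * U.ι p) = U.ι p by
      rw [← mul_assoc, X.cube' (U.ι_mem hp), one_mul]] at h4
  simp only [List.mem_cons, List.not_mem_nil, or_false] at hv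
  rcases hv with rfl | rfl | rfl | rfl | rfl | rfl | rfl | rfl | rfl
  · exact absurd U.ι_zero hy1
  · exact hnine hxy
  · exact hnine (sq (by norm_num) a1 hxy)
  · exact hJ (U.cent_wt_two B.h8 (by norm_num) w1 x hxy)
  · exact hJ (U.cent_wt_two B.h8 (by norm_num) w2 x hxy)
  · exact ha ⟨hxK, U.mem_Qa_of B.h8 (mem_centralizer_iff'.mpr (by rwa [← U.ι_thirteen])) hxt hord⟩
  · exact ha ⟨hxK, U.mem_Qa_of B.h8 (mem_centralizer_iff'.mpr (by
      rw [← U.ι_thirteen]; exact sq (by norm_num) a26 hxy)) hxt hord⟩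
  · exact hb ⟨hxK, B.mem_Qb_of (sq (by norm_num) a17 hxy) hxt hord⟩
  · exact hb ⟨hxK, B.mem_Qb_of hxy hxt hord⟩

end Big

end CfsgLib.PSpFourThree
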