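import Cfsg.Agent.Lib.PSpFourThree.Eight.Ut

/-!
The large case: the quaternion group centralizes the four commuting transpositions.
-/

set_option autoImplicit false
set_option maxRecDepth 20000
set_option linter.style.haveILetI false
set_option linter.unusedSectionVars false

namespace CfsgLib.PSpFourThree

open CfsgLib.SymNineThree CfsgLib.SymNineThree.Mon
open CfsgLib.SymNineThree.Six (sA sB sU sV sW sT)

attribute [local instance 2000] List.decidableBAll List.decidableBEx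

theorem shape_mem : ∀ σ : P6, shape σ = true → σ * sW = sW * σ ∧ σ * sT = sT * σ := by decide +kernel

theorem shape_card : (Finset.univ.filter fun σ : P6 => shape σ = true).card = 4 ∧
    shape 1 = true ∧ shape sT = true ∧ shape (Equiv.swap 1 4) = true := by decide +kernel

theorem s8_card : Fintype.card S8 = 8 := by decide +kernel

universe u

variable {G : Type u} [Group G] [Finite G] {X : Ctx G}

/-- A subgroup normal in a subgroup containing it and of odd index has the same image. -/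
theorem exists_mem_normalizer {P T : Subgroup G} {p : ℕ} [Fact p.Prime] (hP : IsPGroup p P) (hle : T ≤ P)
    (hne : T ≠ P) : ∃ g ∈ P, g ∉ T ∧ g ∈ Subgroup.normalizer (T : Set G) := by
  classical
  haveI := hP.isNilpotent
  have hlt : T.subgroupOf P < ⊤ := lt_top_iff_ne_top.mpr fun e =>
    hne (le_antisymm hle (Subgroup.subgroupOf_eq_top.mp e))
  obtain ⟨q, hqN, hqM⟩ := SetLike.exists_of_lt (Group.normalizerCondition_of_isNilpotent (T.subgroupOf P) hlt)
  exact ⟨q, q.2, hqM, mem_of_map_conj _ fun p hp => (Subgroup.mem_normalizer_iff.mp hqN ⟨p, hle hp⟩).mp hp⟩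

namespace Big

variable {U : Coord X} (B : Big U)

include B

/-- The map from the direct product with the flip. -/
theorem exists_T : ∃ T : Subgroup G, Nat.card T = 32 ∧
    (∀ x, x ∈ T ↔ ∃ j : ℕ, j < 2 ∧ ∃ σ, σ * sW = sW * σ ∧ σ * sT = sT * σ ∧
      x = U.f (of 108) ^ j * B.L2.ρ σ) := by
  classical
  set m := U.f (of 108) with hm
  have hm2 : m * m = 1 := B.flip_sq
  have hcomm : ∀ (a : Subgroup.zpowers m) (b : S16), Commute ((Subgroup.zpowers m).subtype a)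
      ((B.L2.ρ.comp S16.subtype) b) := fun a b => by
    obtain ⟨i, hi⟩ := Subgroup.mem_zpowers_iff.mp a.2
    show Commute (a : G) (B.L2.ρ b)
    rw [← hi]
    exact (show Commute m (B.L2.ρ b) from B.flip_two b).zpow_left i
  let φ := MonoidHom.noncommCoprod (Subgroup.zpowers m).subtype (B.L2.ρ.comp S16.subtype) hcomm
  have hm1 : m ≠ 1 := fun e => by
    have := B.flip_nine
    rw [← hm, e, one_mul, inv_one, mul_one] at this
    have h2 : U.ι 9 * U.ι 9 = 1 := mul_eq_one_iff_eq_inv.mpr this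
    exact B.L2.e_ne (by rw [← X.cube' B.L2.e_mem, h2, one_mul])
  have hinj : Function.Injective φ := by
    rw [injective_iff_map_eq_one]
    rintro ⟨a, b⟩ h
    have h' : (a : G) * B.L2.ρ b = 1 := h
    obtain ⟨i, hi⟩ := Subgroup.mem_zpowers_iff.mp a.2
    have hc : (a : G) * U.ι 9 * (a : G)⁻¹ = U.ι 9 := by
      rw [eq_inv_of_mul_eq_one_left h', inv_inv, ← map_inv, B.L2.comm, mul_assoc, ← map_mul,
        inv_mul_cancel, map_one, mul_one]
    have ha : (a : G) = 1 := by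
      rcases Int.even_or_odd i with ⟨k, rfl⟩ | ⟨k, rfl⟩
      · rw [← hi, ← two_mul, zpow_mul, show (2 : ℤ) = ((2 : ℕ) : ℤ) from rfl, zpow_natCast, pow_two,
          hm2, one_zpow]
      · exfalso
        rw [← hi, zpow_add, zpow_mul, show (2 : ℤ) = ((2 : ℕ) : ℤ) from rfl, zpow_natCast, pow_two,
          hm2, one_zpow, one_mul, zpow_one] at hc
        rw [hm, B.flip_nine] at hc
        have h2 : U.ι 9 * U.ι 9 = 1 := by rw [← mul_inv_cancel (U.ι 9)]; exact congrArg (U.ι 9 * ·) hc.symm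
        exact B.L2.e_ne (by rw [← X.cube' B.L2.e_mem, h2, one_mul])
    rw [ha, one_mul] at h'
    exact Prod.ext (Subtype.ext ha) (Subtype.ext (B.L2.inj (h'.trans (map_one _).symm)))
  refine ⟨φ.range, ?_, fun x => ⟨?_, ?_⟩⟩
  · rw [← Nat.card_congr (MonoidHom.ofInjective hinj).toEquiv, Nat.card_prod, Nat.card_zpowers,
      orderOf_eq_prime (by rw [pow_two, hm2]) hm1,
      Nat.card_congr (Equiv.subtypeEquiv (Equiv.refl P6)
        (p := fun σ => σ ∈ S16) (q := fun σ => σ * sW = sW * σ ∧ σ * sT = sT * σ) fun σ => mem_S16),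
      Nat.card_eq_fintype_card, s16_card]
  · rintro ⟨⟨a, b⟩, rfl⟩
    obtain ⟨h1, h2⟩ := mem_S16.mp b.2
    have hao : (a : G) = 1 ∨ (a : G) = m := by
      obtain ⟨i, hi⟩ := Subgroup.mem_zpowers_iff.mp a.2
      rcases Int.even_or_odd i with ⟨k, rfl⟩ | ⟨k, rfl⟩
      · left
        rw [← hi, ← two_mul, zpow_mul, show (2 : ℤ) = ((2 : ℕ) : ℤ) from rfl, zpow_natCast, pow_two, hm2,
          one_zpow]
      · right
        rw [← hi, zpow_add, zpow_mul, show (2 : ℤ) = ((2 : ℕ) : ℤ) from rfl, zpow_natCast, pow_two, hm2,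
          one_zpow, one_mul, zpow_one]
    rcases hao with e | e
    · exact ⟨0, by norm_num, b, h1, h2, by show (a : G) * _ = _; rw [e, pow_zero]; rfl⟩
    · exact ⟨1, by norm_num, b, h1, h2, by show (a : G) * _ = _; rw [e, pow_one]; rfl⟩
  · rintro ⟨j, -, σ, h1, h2, rfl⟩
    exact ⟨(⟨m ^ j, Subgroup.pow_mem _ (Subgroup.mem_zpowers m) j⟩, ⟨σ, mem_S16.mpr ⟨h1, h2⟩⟩), rfl⟩

/-- The normalizer of the three-group in the centralizer of the involution. -/
theorem card_norm_nine {M : Subgroup G}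
    (hM : ∀ g ∈ M, g * U.tq = U.tq * g ∧
      (g * U.ι 9 * g⁻¹ = U.ι 9 ∨ g * U.ι 9 * g⁻¹ = (U.ι 9)⁻¹)) : Nat.card M ≤ 288 := by
  classical
  set m := U.f (of 108) with hm
  let S := Fin 3 × Fin 2 × {σ : P6 // σ * sW = sW * σ}
  let ψ : S → G := fun p => m ^ (p.2.1 : ℕ) * (U.ι 9 ^ (p.1 : ℕ) * B.L2.ρ p.2.2)
  have key : ∀ g : M, ∃ p : S, (g : G) = ψ p := by
    rintro ⟨g, hg⟩
    obtain ⟨ht, he⟩ := hM g hg
    have inner : ∀ k : G, k * U.tq = U.tq * k → k * U.ι 9 = U.ι 9 * k →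
        ∃ p : Fin 3 × {σ : P6 // σ * sW = sW * σ}, k = U.ι 9 ^ (p.1 : ℕ) * B.L2.ρ p.2 := by
      intro k hk hk9
      obtain ⟨i, σ, rfl⟩ := B.L2.surj k hk9
      have hσ : σ * sW = sW * σ := by
        rw [B.tq_eq, mul_assoc, ← map_mul, ← mul_assoc (B.L2.ρ sW), B.L2.comm_pow sW i, mul_assoc,
          ← map_mul] at hk
        exact B.L2.inj (mul_left_cancel hk)
      exact ⟨(⟨i % 3, Nat.mod_lt i (by norm_num)⟩, ⟨σ, hσ⟩),
        by rw [pow_eq_pow_mod i (X.cube _ B.L2.e_mem)]⟩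
    rcases he with he | he
    · obtain ⟨⟨i, σ⟩, e⟩ := inner g ht (mul_inv_eq_iff_eq_mul.mp he)
      exact ⟨(i, 0, σ), by show g = _; rw [e]; simp [ψ]⟩
    · obtain ⟨⟨i, σ⟩, e⟩ := inner (m * g) (Commute.mul_left B.flip_tq ht).eq
        (mul_inv_eq_iff_eq_mul.mp (by
          rw [show m * g * U.ι 9 * (m * g)⁻¹ = m * (g * U.ι 9 * g⁻¹) * m⁻¹ by group, he,
            show m * (U.ι 9)⁻¹ * m⁻¹ = (m * U.ι 9 * m⁻¹)⁻¹ by group, hm, B.flip_nine, inv_inv]))
      refine ⟨(i, 1, σ), ?_⟩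
      show g = m ^ 1 * _
      rw [← e, pow_one, ← mul_assoc, B.flip_sq, one_mul]
  choose p hp using key
  have hinj : Function.Injective p := fun a b h => Subtype.ext (by rw [hp a, hp b, h])
  refine (Nat.card_le_card_of_injective p hinj).trans ?_
  rw [Nat.card_prod, Nat.card_prod, Nat.card_fin, Nat.card_fin, Nat.card_eq_fintype_card, cent_w_card]

/-- The core is bigger than the four transpositions. -/
theorem Qa_le_Nu {N : Subgroup G} (hN : Core B.Du B.Ut U.P0 (U.ι 9) (U.f (of 108)) N) :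
    U.Qa B.h8 ≤ N ∧ B.Qb ≤ N := by
  classical
  haveI : Fact (Nat.Prime 2) := ⟨Nat.prime_two⟩
  set m := U.f (of 108) with hm
  have hmi : m⁻¹ = m := inv_eq_of_mul_eq_one_right B.flip_sq
  have hWN : U.P0 ≤ Subgroup.normalizer (N : Set G) := hN.inv_W
  suffices h : U.Qa B.h8 ≤ N from ⟨h, by
    rintro _ ⟨q, hq, rfl⟩
    exact hN.normal m B.flip_mem q (h hq)⟩
  by_contra hnot
  have hsmall : ∀ x ∈ U.Qa B.h8, x ∈ N → x ∈ B.Ut := by
    intro x hx hxN
    rcases eq_or_ne x 1 with rfl | h1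
    · exact one_mem _
    rcases eq_or_ne x U.tq with rfl | h2
    · exact B.tq_mem_Ut
    exact absurd (U.Qa_le B.h8 (hN.H_le B.tq_mem_Ut) hx hxN h1 h2 (hN.normal _ B.nine_mem x hxN)) hnot
  have hNU : N ≤ B.Ut := by
    refine B.cent_cases hN le_rfl hWN inf_le_right (fun x hx => hsmall x hx.2 hx.1) ?_
    rintro x ⟨hxN, q, hq, rfl⟩
    have hqN : q ∈ N := by
      have := hN.normal m⁻¹ (inv_mem B.flip_mem) _ hxN
      simpa [mul_assoc, ← hm] using this
    show m * q * m⁻¹ ∈ B.Ut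
    rw [← Subgroup.mem_centralizer_iff.mp B.flip_mem q (hsmall q hq hqN), mul_inv_cancel_right]
    exact hsmall q hq hqN
  have hDe : ∀ d ∈ B.Du, d * U.ι 9 * d⁻¹ = U.ι 9 ∨ d * U.ι 9 * d⁻¹ = (U.ι 9)⁻¹ := by
    intro d hd
    obtain ⟨i, j, n, hn, -, hj, rfl⟩ := hN.dec d hd
    have hc : n * U.ι 9 = U.ι 9 * n := Subgroup.mem_centralizer_iff.mp B.nine_mem n (hNU hn)
    have hnc : n * (U.ι 9)⁻¹ * n⁻¹ = (U.ι 9)⁻¹ := by
      rw [(show Commute n (U.ι 9) from hc).inv_right.eq, mul_inv_cancel_right]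
    interval_cases j
    · left
      rw [pow_zero, mul_one, show n * U.ι 9 ^ i * U.ι 9 * (n * U.ι 9 ^ i)⁻¹ = n * U.ι 9 * n⁻¹ by group,
        hc, mul_inv_cancel_right]
    · right
      rw [pow_one, show n * U.ι 9 ^ i * m * U.ι 9 * (n * U.ι 9 ^ i * m)⁻¹ =
        n * (U.ι 9 ^ i * (m * U.ι 9 * m⁻¹) * (U.ι 9 ^ i)⁻¹) * n⁻¹ by group, B.flip_nine,
        ((Commute.refl (U.ι 9)).pow_left i).inv_right.eq, mul_inv_cancel_right, hnc]
  obtain ⟨T, hT32, hTm⟩ := B.exists_T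
  have hTp : IsPGroup 2 T := IsPGroup.of_card (n := 5) (by rw [hT32]; norm_num)
  set Ct := Subgroup.centralizer ({U.tq} : Set G) with hCt
  have hTCt : T ≤ Ct := fun x hx => by
    obtain ⟨j, -, σ, hσ, -, rfl⟩ := (hTm x).mp hx
    refine mem_centralizer_iff'.mpr ((Commute.mul_left
      ((show Commute m U.tq from B.flip_tq).pow_left j) ?_).eq)
    show B.L2.ρ σ * U.tq = U.tq * B.L2.ρ σ
    rw [B.tq_eq, ← map_mul, ← map_mul, hσ]
  have hUT : B.Ut ≤ T := by
    rintro _ ⟨τ, hτ, rfl⟩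
    exact (hTm _).mpr ⟨0, by norm_num, τ, s8_comm τ hτ sW s8_mem.2.1, s8_comm τ hτ sT s8_mem.1,
      by rw [pow_zero, one_mul]⟩
  obtain ⟨P, hP⟩ := (hTp.comap_subtype (K := Ct)).exists_le_sylow
  set P' := (P : Subgroup Ct).map Ct.subtype with hP'
  have hTP : T ≤ P' := fun x hx => ⟨⟨x, hTCt hx⟩, hP hx, rfl⟩
  have hPT : T = P' := by
    by_contra hne
    obtain ⟨g, hgP, hgT, hgN⟩ := exists_mem_normalizer (P.2.map Ct.subtype) hTP hne
    have hgt : g * U.tq = U.tq * g := by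
      obtain ⟨g', -, rfl⟩ := hgP
      exact mem_centralizer_iff'.mp g'.2
    -- the image of the four transpositions
    set x := fun τ : S8 => g * B.L2.ρ τ * g⁻¹ with hx
    have hxT : ∀ τ, x τ ∈ T := fun τ =>
      (Subgroup.mem_normalizer_iff.mp hgN _).mp (hUT (B.mem_Ut.mpr τ.2))
    set O := Finset.univ.filter fun τ : S8 => ∃ σ, shape σ = true ∧ x τ = m * B.L2.ρ σ with hO
    have hin : ∀ τ, τ ∉ O → ∃ σ, σ * sW = sW * σ ∧ σ * sT = sT * σ ∧ x τ = B.L2.ρ σ := by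
      intro τ hτ
      obtain ⟨j, hj, σ, h1, h2, e⟩ := (hTm _).mp (hxT τ)
      interval_cases j
      · exact ⟨σ, h1, h2, by rw [e, pow_zero, one_mul]⟩
      exfalso
      rw [pow_one] at e
      apply hτ
      refine Finset.mem_filter.mpr ⟨Finset.mem_univ _, σ, ?_, e⟩
      by_contra hs
      have hsq : x τ * x τ = 1 := by
        show g * B.L2.ρ τ * g⁻¹ * (g * B.L2.ρ τ * g⁻¹) = 1
        rw [conj_mul, ← map_mul, s8_sq τ τ.2, map_one, mul_one, mul_inv_cancel]
      rw [e, ((show Commute m (B.L2.ρ σ) from B.flip_two σ).symm).mul_mul_mul_comm, B.flip_sq, one_mul,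
        ← map_mul] at hsq
      obtain ⟨γ, hγ⟩ := shape_cases σ h1 h2 (B.L2.inj (hsq.trans (map_one _).symm))
        (Bool.eq_false_iff.mpr hs)
      have hconj : B.L2.ρ γ * x τ * (B.L2.ρ γ)⁻¹ = m * B.L2.ρ (γ * σ * γ⁻¹) := by
        rw [e, map_mul, map_mul, map_inv, ← mul_assoc (B.L2.ρ γ) (U.f (of 108)), ← B.flip_two γ]
        simp only [← hm]
        group
      have honly : U.Only (B.L2.ρ γ * x τ * (B.L2.ρ γ)⁻¹) [2] := by
        rcases hγ with h | h <;> rw [hconj, h]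
        · rw [show m * B.L2.ρ (sU * sV) = U.f (of 129) from ?_]
          · exact U.only_neg B.h8
          rw [map_mul, B.vU, B.vV, hm, ← U.f_mul (U.top8 B.h8 _) (U.top8 B.h8 _),
            ← U.f_mul (U.top8 B.h8 _) (U.top8 B.h8 _)]
          congr 1
        · rw [show m * B.L2.ρ sW = U.f (of 540) from ?_]
          · exact U.only_two B.h8
          rw [B.vW, hm, ← U.f_mul (U.top8 B.h8 _) (U.top8 B.h8 _)]
          congr 1
      have hhas : U.Has (x τ) 1 := by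
        refine ⟨9, by norm_num, by decide +kernel, by norm_num, g, ?_⟩
        show g * U.ι 9 * g⁻¹ * (g * B.L2.ρ τ * g⁻¹) = g * B.L2.ρ τ * g⁻¹ * (g * U.ι 9 * g⁻¹)
        rw [conj_mul, conj_mul, B.L2.comm]
      exact U.not_conj_of honly (hhas.conj U (B.L2.ρ γ)) (by simp) 1 (by simp)
    have hOut : O = ∅ := by
      by_contra hne'
      obtain ⟨τ₀, h0⟩ := Finset.nonempty_iff_ne_empty.mpr hne'
      obtain ⟨σ₀, hσ₀, e0⟩ := (Finset.mem_filter.mp h0).2
      have hxmul : ∀ a b : S8, x (a * b) = x a * x b := fun a b => by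
        show g * B.L2.ρ (a * b : S8) * g⁻¹ = _
        rw [Subgroup.coe_mul, map_mul, ← conj_mul]
      have hnotin : ∀ τ, τ ∈ O → ∀ σ, x τ ≠ B.L2.ρ σ := by
        intro τ hτ σ e
        obtain ⟨σ', -, e'⟩ := (Finset.mem_filter.mp hτ).2
        have hmρ : m = B.L2.ρ (σ * σ'⁻¹) := by
          rw [map_mul, map_inv, ← e, e', mul_inv_cancel_right]
        have h9 := B.flip_nine
        rw [← hm, hmρ, B.L2.comm, mul_inv_cancel_right] at h9
        exact B.L2.e_ne (by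
          have h2 : U.ι 9 * U.ι 9 = 1 := mul_eq_one_iff_eq_inv.mpr h9
          rw [← X.cube' B.L2.e_mem, h2, one_mul])
      have hcompl : ∀ τ, τ ∈ Finset.univ \ O → τ₀ * τ ∈ O := by
        intro τ hτ
        by_contra hno
        obtain ⟨σ, -, -, e⟩ := hin τ (Finset.mem_sdiff.mp hτ).2
        obtain ⟨σ', -, -, e'⟩ := hin _ hno
        rw [hxmul, e] at e'
        exact hnotin τ₀ h0 (σ' * σ⁻¹) (by rw [map_mul, map_inv, ← e', mul_inv_cancel_right])
      have hle : (Finset.univ \ O).card ≤ O.card :=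
        Finset.card_le_card_of_injOn (τ₀ * ·) hcompl fun a _ b _ h => mul_left_cancel h
      rw [Finset.card_sdiff_of_subset (Finset.subset_univ O), Finset.card_univ, s8_card] at hle
      choose! sh hsh hshe using fun τ (h : τ ∈ O) => (Finset.mem_filter.mp h).2
      have hsurj : ∀ σ ∈ Finset.univ.filter (fun σ : P6 => shape σ = true), ∃ τ ∈ O, sh τ = σ := by
        intro σ hσ
        have := Finset.surj_on_of_inj_on_of_card_le (s := O)
          (t := Finset.univ.filter fun σ : P6 => shape σ = true) (fun τ _ => sh τ)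
          (fun τ h => Finset.mem_filter.mpr ⟨Finset.mem_univ _, hsh τ h⟩)
          (fun a b ha hb e => Subtype.ext (B.L2.inj (by
            have : x a = x b := by rw [hshe a ha, hshe b hb, e]
            exact mul_left_cancel (mul_right_cancel this))))
          (by rw [shape_card.1]; omega) σ hσ
        obtain ⟨τ, hτ, e⟩ := this
        exact ⟨τ, hτ, e.symm⟩
      obtain ⟨-, s1, sT', s14⟩ := shape_card
      obtain ⟨a, ha, ea⟩ := hsurj 1 (by simp [s1])
      obtain ⟨b, hb, eb⟩ := hsurj sT (by simp [sT'])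
      obtain ⟨c, hc, ec⟩ := hsurj (Equiv.swap 1 4) (by simp [s14])
      have habc : x (a * (b * c)) = m * B.L2.ρ (sT * Equiv.swap 1 4) := by
        rw [hxmul, hxmul, hshe a ha, hshe b hb, hshe c hc, ea, eb, ec, map_one, mul_one,
          ((show Commute m (B.L2.ρ sT) from B.flip_two sT).symm).mul_mul_mul_comm, B.flip_sq, one_mul,
          ← map_mul]
      by_cases hmem : a * (b * c) ∈ O
      · have := hsh _ hmem
        have e := hshe _ hmem
        rw [habc] at e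
        rw [← B.L2.inj (mul_left_cancel e), shape_not.1] at this
        exact absurd this (by simp)
      · obtain ⟨σ, -, -, e⟩ := hin _ hmem
        exact hnotin τ₀ h0 _ (show x τ₀ = B.L2.ρ (σ * (sT * Equiv.swap 1 4)⁻¹ * σ₀) from by
          rw [map_mul, map_mul, map_inv, ← e, habc, mul_inv_cancel_right, e0])
    have hcen : ∀ τ : S8, x τ * U.ι 9 = U.ι 9 * x τ := fun τ => by
      obtain ⟨σ, -, -, e⟩ := hin τ (by rw [hOut]; simp)
      rw [e, B.L2.comm]
    have hD : g⁻¹ * U.ι 9 * g ∈ B.Du := Subgroup.mem_centralizer_iff.mpr fun y hy => by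
      obtain ⟨τ, hτ, rfl⟩ := hy
      have h := hcen ⟨τ, hτ⟩
      calc B.L2.ρ τ * (g⁻¹ * U.ι 9 * g) = g⁻¹ * (g * B.L2.ρ τ * g⁻¹ * U.ι 9) * g := by group
        _ = g⁻¹ * (U.ι 9 * (g * B.L2.ρ τ * g⁻¹)) * g := by rw [show g * B.L2.ρ τ * g⁻¹ * U.ι 9 = _ from h]
        _ = _ := by group
    set e' := g⁻¹ * U.ι 9 * g with he'
    have he3 : e' * e' * e' = 1 := by
      rw [he', show g⁻¹ * U.ι 9 * g * (g⁻¹ * U.ι 9 * g) * (g⁻¹ * U.ι 9 * g) =
        g⁻¹ * (U.ι 9 * U.ι 9 * U.ι 9) * g by group, X.cube' B.L2.e_mem, mul_one, inv_mul_cancel]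
    have hcomm : e' * U.ι 9 = U.ι 9 * e' := by
      rcases hDe e' hD with h | h
      · exact mul_inv_eq_iff_eq_mul.mp h
      · exfalso
        have h1 : e' * (e' * (e' * U.ι 9 * e'⁻¹) * e'⁻¹) * e'⁻¹ = U.ι 9 := by
          calc _ = (e' * e' * e') * U.ι 9 * (e' * e' * e')⁻¹ := by group
            _ = U.ι 9 := by rw [he3]; group
        have hi : e' * (U.ι 9)⁻¹ * e'⁻¹ = U.ι 9 := by
          rw [show e' * (U.ι 9)⁻¹ * e'⁻¹ = (e' * U.ι 9 * e'⁻¹)⁻¹ by group, h, inv_inv]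
        rw [h, hi, h] at h1
        have h2 : U.ι 9 * U.ι 9 = 1 := mul_eq_one_iff_eq_inv.mpr h1.symm
        exact B.L2.e_ne (by rw [← X.cube' B.L2.e_mem, h2, one_mul])
    obtain ⟨u, hu, i, hei⟩ := B.sc hD hcomm
    have hu1 : u = 1 := by
      have hc : Commute u (U.ι 9 ^ i) := ((show Commute u (U.ι 9) from
        Subgroup.mem_centralizer_iff.mp B.nine_mem u hu)).pow_right i
      rw [← pow_three', hei, hc.mul_pow, ← pow_mul, mul_comm i, pow_mul,
        X.cube _ B.L2.e_mem, one_pow, mul_one, pow_three, B.Ut_sq hu, mul_one] at he3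
      exact he3
    rw [hu1, one_mul] at hei
    have hgN9 : g * U.ι 9 * g⁻¹ = U.ι 9 ∨ g * U.ι 9 * g⁻¹ = (U.ι 9)⁻¹ := by
      have hi3 := Nat.mod_lt i (show 0 < 3 by norm_num)
      rw [pow_eq_pow_mod i (X.cube _ B.L2.e_mem)] at hei
      interval_cases hk : i % 3
      · exfalso
        rw [pow_zero] at hei
        exact B.L2.e_ne (by simpa [he', mul_eq_one_iff_eq_inv] using hei)
      · left
        rw [pow_one] at hei
        calc g * U.ι 9 * g⁻¹ = g * e' * g⁻¹ := by rw [hei]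
          _ = U.ι 9 := by rw [he']; group
      · right
        have h2 : U.ι 9 ^ 2 = (U.ι 9)⁻¹ := eq_inv_of_mul_eq_one_right (by
          rw [pow_two, ← mul_assoc]; exact X.cube' B.L2.e_mem)
        rw [h2] at hei
        calc g * U.ι 9 * g⁻¹ = (g * e' * g⁻¹)⁻¹ := by rw [hei]; group
          _ = _ := by rw [he']; group
    -- the bound
    set M := Ct ⊓ Subgroup.normalizer ((Subgroup.zpowers (U.ι 9) : Subgroup G) : Set G) with hMdef
    have hz : ∀ {k : G}, (k * U.ι 9 * k⁻¹ = U.ι 9 ∨ k * U.ι 9 * k⁻¹ = (U.ι 9)⁻¹) →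
        k ∈ Subgroup.normalizer ((Subgroup.zpowers (U.ι 9) : Subgroup G) : Set G) := fun {k} h =>
      mem_of_map_conj _ fun y hy => by
        obtain ⟨n, rfl⟩ := Subgroup.mem_zpowers_iff.mp hy
        rw [← conj_zpow]
        rcases h with h | h <;> rw [h]
        · exact zpow_mem (Subgroup.mem_zpowers _) n
        · exact zpow_mem (inv_mem (Subgroup.mem_zpowers _)) n
    have hle : Nat.card M ≤ 288 := B.card_norm_nine fun k hk => by
      refine ⟨mem_centralizer_iff'.mp hk.1, ?_⟩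
      have h1 := (Subgroup.mem_normalizer_iff.mp hk.2 (U.ι 9)).mp (Subgroup.mem_zpowers _)
      rw [← mem_powers_iff_mem_zpowers, Submonoid.mem_powers_iff] at h1
      obtain ⟨n, hn⟩ := h1
      rw [pow_eq_pow_mod n (X.cube _ B.L2.e_mem)] at hn
      have := Nat.mod_lt n (show 0 < 3 by norm_num)
      interval_cases hk : n % 3
      · exact absurd (conj_eq_one_iff.mp (hn.symm.trans (pow_zero _))) B.L2.e_ne
      · exact Or.inl (by rw [← hn, pow_one])
      · refine Or.inr (by rw [← hn]; exact eq_inv_of_mul_eq_one_right (by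
          rw [pow_two, ← mul_assoc]; exact X.cube' B.L2.e_mem))
    have hgM : g ∈ M := ⟨mem_centralizer_iff'.mpr hgt, hz hgN9⟩
    have hTM : T ≤ M := fun y hy => ⟨hTCt hy, by
      obtain ⟨j, hj, σ, -, -, rfl⟩ := (hTm y).mp hy
      refine mul_mem (hz ?_) (hz (Or.inl (by rw [B.L2.comm, mul_inv_cancel_right])))
      interval_cases j
      · left; simp
      · right; rw [pow_one]; exact B.flip_nine⟩
    have hP0M : U.P0 ≤ M := fun y hy => ⟨mem_centralizer_iff'.mpr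
        (mem_centralizer_iff'.mp (show y ∈ U.JC 432 from hy).2),
      hz (Or.inl (by rw [U.JC_comm 432 y hy _ B.P0v.2, mul_inv_cancel_right]))⟩
    set T' := T ⊔ Subgroup.zpowers g with hT'
    have hT'M : T' ≤ M := sup_le hTM (Subgroup.zpowers_le.mpr hgM)
    have hT'P : T' ≤ P' := sup_le hTP (Subgroup.zpowers_le.mpr hgP)
    obtain ⟨k, hk⟩ := ((P.2.map Ct.subtype).to_le hT'P).exists_card_eq
    have hlt : Nat.card T < Nat.card T' := by
      have h1 : T < T' := lt_of_le_of_ne le_sup_left fun e =>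
        hgT (e ▸ Subgroup.mem_sup_right (Subgroup.mem_zpowers g))
      exact lt_of_le_of_ne (Nat.le_of_dvd Nat.card_pos (Subgroup.card_dvd_of_le h1.le)) fun e =>
        h1.ne (Subgroup.eq_of_le_of_card_ge h1.le e.ge)
    have hk6 : 6 ≤ k := by
      by_contra hk'
      have := Nat.pow_le_pow_right (show 0 < 2 by norm_num) (show k ≤ 5 by omega)
      omega
    have d64 : 64 ∣ Nat.card M :=
      (Dvd.intro_left _ (by rw [← pow_add, Nat.sub_add_cancel hk6] : 2 ^ (k - 6) * 2 ^ 6 = 2 ^ k)).trans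
        (hk ▸ Subgroup.card_dvd_of_le hT'M)
    have d9 : 9 ∣ Nat.card M := by
      rw [← U.card_JC B.h8 (by norm_num) p0_card]; exact Subgroup.card_dvd_of_le hP0M
    have := Nat.le_of_dvd Nat.card_pos
      ((show Nat.Coprime 64 9 by norm_num).mul_dvd_of_dvd_of_dvd d64 d9)
    omega
  -- a root of the involution
  obtain ⟨y, hy, hy2⟩ := U.Qa_root B.h8
  have hyC : y ∈ Ct := mem_centralizer_iff'.mpr hy.1.2.1
  obtain ⟨Q, hQ⟩ := ((U.Qa_pgroup B.h8).comap_subtype (K := Ct)).exists_le_sylow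
  obtain ⟨c, hc⟩ := MulAction.exists_smul_eq Ct Q P
  have hcy : c * ⟨y, hyC⟩ * c⁻¹ ∈ (P : Subgroup Ct) := by
    rw [← hc, Sylow.coe_subgroup_smul]
    exact ⟨_, hQ (show (⟨y, hyC⟩ : Ct) ∈ (U.Qa B.h8).subgroupOf Ct from hy), rfl⟩
  have hcT : (c : G) * y * (c : G)⁻¹ ∈ T := by rw [hPT]; exact ⟨_, hcy, rfl⟩
  obtain ⟨j, hj, σ, h1, h2, e⟩ := (hTm _).mp hcT
  have hsq : (c : G) * y * (c : G)⁻¹ * ((c : G) * y * (c : G)⁻¹) = U.tq := by
    rw [conj_mul, hy2, mem_centralizer_iff'.mp c.2, mul_inv_cancel_right]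
  rw [e, ((show Commute (m ^ j) (B.L2.ρ σ) from (show Commute m (B.L2.ρ σ) from B.flip_two σ).pow_left j).symm).mul_mul_mul_comm,
    show m ^ j * m ^ j = 1 by rw [← pow_add, ← two_mul, pow_mul, pow_two, B.flip_sq, one_pow],
    one_mul, ← map_mul, B.tq_eq] at hsq
  exact s16_sq σ h1 h2 (B.L2.inj hsq)

theorem Qa_le_Du : U.Qa B.h8 ≤ B.Du ∧ B.Qb ≤ B.Du := by
  obtain ⟨N, hN⟩ := B.exists_Nu
  exact ⟨(B.Qa_le_Nu hN).1.trans hN.le, (B.Qa_le_Nu hN).2.trans hN.le⟩

/-- The two quaternion groups commute modulo the four transpositions. -/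
theorem comm_mem_Ut {q q' : G} (hq : q ∈ U.Qa B.h8) (hq' : q' ∈ B.Qb) :
    q * q' * q⁻¹ * q'⁻¹ ∈ B.Ut := by
  classical
  obtain ⟨N, hN⟩ := B.exists_Nu
  obtain ⟨haN, hbN⟩ := B.Qa_le_Nu hN
  set m := U.f (of 108) with hm
  haveI := hN.nilp
  have hcen : ∀ u ∈ B.Ut, ∀ d ∈ B.Du, d * u * d⁻¹ = u := fun u hu d hd => by
    rw [← Subgroup.mem_centralizer_iff.mp hd u hu, mul_inv_cancel_right]
  -- the second centre
  let Z2 : Subgroup G :=
    { carrier := {x | x ∈ N ∧ ∀ y ∈ N, x * y * x⁻¹ * y⁻¹ ∈ B.Ut}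
      one_mem' := ⟨one_mem _, fun y _ => by simp⟩
      mul_mem' := fun {a b} ha hb => ⟨mul_mem ha.1 hb.1, fun y hy => by
        have h1 := hb.2 y hy
        rw [show a * b * y * (a * b)⁻¹ * y⁻¹ = a * (b * y * b⁻¹ * y⁻¹) * a⁻¹ * (a * y * a⁻¹ * y⁻¹) by group,
          hcen _ h1 a (hN.le ha.1)]
        exact mul_mem h1 (ha.2 y hy)⟩
      inv_mem' := fun {a} ha => ⟨inv_mem ha.1, fun y hy => by
        have h1 := inv_mem (ha.2 y hy)
        rw [show a⁻¹ * y * a⁻¹⁻¹ * y⁻¹ = a⁻¹ * ((a * y * a⁻¹ * y⁻¹)⁻¹) * a⁻¹⁻¹ by group,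
          hcen _ h1 a⁻¹ (inv_mem (hN.le ha.1))]
        exact h1⟩ }
  let Z1 : Subgroup G := N ⊓ Subgroup.centralizer (N : Set G)
  have hn' : ∀ w ∈ U.P0, ∀ {x : G}, x ∈ N → w * x * w⁻¹ ∈ N := fun w hw x hx =>
    (Subgroup.mem_normalizer_iff.mp (hN.inv_W hw) x).mp hx
  have hn'' : ∀ w ∈ U.P0, ∀ {x : G}, x ∈ N → w⁻¹ * x * w ∈ N := fun w hw x hx => by
    simpa using hn' w⁻¹ (inv_mem hw) hx
  have hZ1W : U.P0 ≤ Subgroup.normalizer (Z1 : Set G) := fun w hw => mem_of_map_conj _ fun x hx =>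
    ⟨hn' w hw hx.1, Subgroup.mem_centralizer_iff.mpr fun y hy => by
      have h := Subgroup.mem_centralizer_iff.mp hx.2 _ (hn'' w hw hy)
      calc y * (w * x * w⁻¹) = w * (w⁻¹ * y * w * x) * w⁻¹ := by group
        _ = w * (x * (w⁻¹ * y * w)) * w⁻¹ := by rw [h]
        _ = _ := by group⟩
  have hZ2W : U.P0 ≤ Subgroup.normalizer (Z2 : Set G) := fun w hw => mem_of_map_conj _ fun x hx =>
    ⟨hn' w hw hx.1, fun y hy => by
      have h := hx.2 _ (hn'' w hw hy)
      have h2 := (Subgroup.mem_normalizer_iff.mp (B.normU hw) _).mp h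
      rwa [show w * (x * (w⁻¹ * y * w) * x⁻¹ * (w⁻¹ * y * w)⁻¹) * w⁻¹ =
        w * x * w⁻¹ * y * (w * x * w⁻¹)⁻¹ * y⁻¹ by group] at h2⟩
  have hZ1 : Z1 ≤ B.Ut := by
    have key : ∀ x ∈ U.Qa B.h8, (∀ y ∈ U.Qa B.h8, x * y = y * x) → x ∈ B.Ut := by
      intro x hx hc
      rcases eq_or_ne x 1 with rfl | h1
      · exact one_mem _
      rcases eq_or_ne x U.tq with rfl | h2
      · exact B.tq_mem_Ut
      exact absurd (hc _ (U.nine_conj B.h8 hx)) (U.Qa_noncomm B.h8 hx h1 h2)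
    refine B.cent_cases hN inf_le_left hZ1W inf_le_right (fun x hx => key x hx.2 fun y hy =>
      (Subgroup.mem_centralizer_iff.mp hx.1.2 y (haN hy)).symm) ?_
    rintro x ⟨hxZ, q₀, hq₀, rfl⟩
    show m * q₀ * m⁻¹ ∈ B.Ut
    have hU := key q₀ hq₀ fun y hy => by
      have h := Subgroup.mem_centralizer_iff.mp hxZ.2 _ (hbN (B.conj_mem_Qb hy))
      have h' : m * y * m⁻¹ * (m * q₀ * m⁻¹) = m * q₀ * m⁻¹ * (m * y * m⁻¹) := h
      rw [conj_mul, conj_mul] at h'
      exact (mul_left_cancel (mul_right_cancel h')).symm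
    rw [hcen _ hU m B.flip_mem]
    exact hU
  -- something outside the first centre
  have hnot : ¬ Z2 ≤ B.Ut := by
    intro hle
    set H' := B.Ut.subgroupOf N
    haveI : H'.Normal := ⟨fun x hx d => by
      have hx' : (x : G) ∈ B.Ut := hx
      show (d : G) * x * (d : G)⁻¹ ∈ B.Ut
      rw [hcen _ hx' _ (hN.le d.2)]; exact hx'⟩
    haveI : Nontrivial (N ⧸ H') := by
      rw [QuotientGroup.nontrivial_iff]
      intro e
      have hsub : N ≤ B.Ut := Subgroup.subgroupOf_eq_top.mp e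
      obtain ⟨y, hy, hy2⟩ := U.Qa_root B.h8
      exact (U.tq_facts B.h8).2.2.1 (hy2.symm.trans (B.Ut_sq (hsub (haN hy))))
    haveI : Group.IsNilpotent (N ⧸ H') := Group.nilpotent_quotient_of_nilpotent H'
    obtain ⟨z, hz, hz1⟩ := (Subgroup.center (N ⧸ H')).bot_or_exists_ne_one.resolve_left
      (Group.IsNilpotent.center_ne_bot _)
    obtain ⟨x, rfl⟩ := QuotientGroup.mk'_surjective H' z
    refine hz1 ((QuotientGroup.eq_one_iff x).mpr (hle ⟨x.2, fun y hy => ?_⟩))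
    have h := Subgroup.mem_center_iff.mp hz (QuotientGroup.mk' H' ⟨y, hy⟩)
    have h1 : x * ⟨y, hy⟩ * x⁻¹ * (⟨y, hy⟩ : N)⁻¹ ∈ (QuotientGroup.mk' H').ker := by
      rw [MonoidHom.mem_ker, map_mul, map_mul, map_mul, map_inv, map_inv, ← h, mul_inv_cancel_right,
        mul_inv_cancel]
    rw [QuotientGroup.ker_mk'] at h1
    exact h1
  have hcase : U.Qa B.h8 ≤ Z2 := by
    by_contra hne
    have hs : ∀ x ∈ U.Qa B.h8, x ∈ Z2 → x ∈ B.Ut := by
      intro x hx hxZ
      rcases eq_or_ne x 1 with rfl | h1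
      · exact one_mem _
      rcases eq_or_ne x U.tq with rfl | h2
      · exact B.tq_mem_Ut
      have htZ : U.tq ∈ Z2 := ⟨hN.H_le B.tq_mem_Ut, fun y hy => by
        rw [mul_assoc (U.tq * y), ← mul_inv_rev, ← Subgroup.mem_centralizer_iff.mp (hN.le hy) _ B.tq_mem_Ut,
          mul_inv_cancel]
        exact one_mem _⟩
      exact absurd (U.Qa_le B.h8 htZ hx hxZ h1 h2
        ((Subgroup.mem_normalizer_iff.mp (hZ2W B.P0v.2) x).mp hxZ)) hne
    refine hnot (B.cent_cases hN (fun x hx => (show x ∈ N ∧ _ from hx).1) hZ2W inf_le_right (fun x hx => hs x hx.2 hx.1) ?_)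
    rintro x ⟨hxZ, q₀, hq₀, rfl⟩
    show m * q₀ * m⁻¹ ∈ B.Ut
    have hU := hs q₀ hq₀ ⟨haN hq₀, fun y hy => by
      have h := hxZ.2 _ (hN.normal m B.flip_mem y hy)
      have h2 : m * (q₀ * y * q₀⁻¹ * y⁻¹) * m⁻¹ ∈ B.Ut := by
        rwa [show m * (q₀ * y * q₀⁻¹ * y⁻¹) * m⁻¹ =
          m * q₀ * m⁻¹ * (m * y * m⁻¹) * (m * q₀ * m⁻¹)⁻¹ * (m * y * m⁻¹)⁻¹ by group]
      have h3 := hcen _ h2 m⁻¹ (inv_mem B.flip_mem)
      rw [show m⁻¹ * (m * (q₀ * y * q₀⁻¹ * y⁻¹) * m⁻¹) * m⁻¹⁻¹ = q₀ * y * q₀⁻¹ * y⁻¹ by group] at h3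
      rwa [← h3] at h2⟩
    rw [hcen _ hU m B.flip_mem]
    exact hU
  exact (hcase hq).2 q' (hbN hq')

/-- The centralizer of the four transpositions. -/
theorem Nu_le {N : Subgroup G} (hN : Core B.Du B.Ut U.P0 (U.ι 9) (U.f (of 108)) N) :
    N ≤ B.Ut ⊔ U.Qa B.h8 ⊔ B.Qb :=
  B.cent_cases hN le_rfl hN.inv_W (inf_le_right.trans (le_sup_left.trans le_sup_left))
    (inf_le_right.trans (le_sup_right.trans le_sup_left)) (inf_le_right.trans le_sup_right)

end Big

end CfsgLib.PSpFourThree
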